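import Cfsg.Agent.PMinSocle.OneSylow
import Mathlib.GroupTheory.SpecificGroups.Alternating.Simple
import Mathlib.GroupTheory.Perm.Fin

/-!
# `A₆` at the prime two

Above the Sylow subgroup there are two subgroups `S₄`, the stabiliser of a pair and the stabiliser of
a partition into pairs.
-/

set_option autoImplicit false
set_option linter.style.haveILetI false

namespace CfsgLib.PMinSocle.AltSix

open Equiv

/-- The pair of a point. -/
def pr2 (i : Fin 6) : ℕ := (i : ℕ) / 2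

/-- Fixing the pair `{4, 5}`. -/
def Q₁ (g : Perm (Fin 6)) : Prop := pr2 (g 4) = 2 ∧ pr2 (g 5) = 2

/-- Fixing the partition `{01 | 23 | 45}`. -/
def Q₂ (g : Perm (Fin 6)) : Prop := ∀ i j : Fin 6, pr2 i = pr2 j → pr2 (g i) = pr2 (g j)

instance : DecidablePred Q₁ := fun g => by unfold Q₁; infer_instance
instance : DecidablePred Q₂ := fun g => by unfold Q₂; infer_instance

/-- The Sylow subgroup as a list. -/
def vList : List (Perm (Fin 6)) :=
  [1, swap 0 1 * swap 2 3, swap 0 2 * swap 1 3, swap 0 3 * swap 1 2,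
    swap 0 1 * swap 4 5, swap 2 3 * swap 4 5,
    swap 1 3 * swap 0 1 * swap 1 2 * swap 4 5, swap 1 2 * swap 0 1 * swap 1 3 * swap 4 5]

theorem vList_ok : ∀ v ∈ vList, Perm.sign v = 1 ∧ Q₁ v ∧ Q₂ v := by decide +kernel

theorem mul_Q₂ (g h : Perm (Fin 6)) (hg : Q₂ g) (hh : Q₂ h) : Q₂ (g * h) :=
  fun i j e => hg _ _ (hh i j e)

theorem mul_Q₁ (g h : Perm (Fin 6)) (hg : Q₁ g) (hh : Q₁ h) : Q₁ (g * h) := by
  have key : ∀ i : Fin 6, pr2 i = 2 → i = 4 ∨ i = 5 := by decide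
  refine ⟨?_, ?_⟩
  · rcases key _ hh.1 with e | e <;> rw [Perm.mul_apply, e]
    exacts [hg.1, hg.2]
  · rcases key _ hh.2 with e | e <;> rw [Perm.mul_apply, e]
    exacts [hg.1, hg.2]

set_option maxRecDepth 100000 in
theorem meets : ∀ g : Perm (Fin 6), Perm.sign g = 1 → Q₁ g ∨ Q₂ g ∨
    ∃ a ∈ vList, ∃ b ∈ vList, (Q₁ (g * a * g⁻¹ * b * g) ∨ Q₂ (g * a * g⁻¹ * b * g)) ∧
      ¬(Q₁ (g * a * g⁻¹ * b * g) ∧ Q₂ (g * a * g⁻¹ * b * g)) := by
  decide +kernel

set_option maxRecDepth 100000 in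
theorem counts : (Finset.univ.filter fun g : Perm (Fin 6) => Perm.sign g = 1 ∧ Q₁ g).card = 24 ∧
    (Finset.univ.filter fun g : Perm (Fin 6) => Perm.sign g = 1 ∧ Q₂ g).card = 24 ∧
    (Finset.univ.filter fun g : Perm (Fin 6) => Perm.sign g = 1 ∧ Q₁ g ∧ Q₂ g).card = 8 := by
  decide +kernel

abbrev K : Type := ↥(alternatingGroup (Fin 6))

/-- A subgroup of `A₆` from a predicate closed under products. -/
def ofPred (P : Perm (Fin 6) → Prop) (h1 : P 1) (hm : ∀ g h, P g → P h → P (g * h)) : Subgroup K where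
  carrier := {g | P (g : Perm (Fin 6))}
  one_mem' := h1
  mul_mem' := fun {a b} ha hb => hm _ _ ha hb
  inv_mem' := fun {g} hg => by
    have hpow : ∀ n : ℕ, P ((g : Perm (Fin 6)) ^ n) := fun n => by
      induction n with
      | zero => simpa using h1
      | succ n ih => rw [pow_succ]; exact hm _ _ ih hg
    show P (g : Perm (Fin 6))⁻¹
    rw [show (g : Perm (Fin 6))⁻¹ = (g : Perm (Fin 6)) ^ (orderOf (g : Perm (Fin 6)) - 1) from ?_]
    · exact hpow _
    rw [inv_eq_iff_mul_eq_one, ← pow_succ',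
      Nat.sub_add_cancel (isOfFinOrder_of_finite (g : Perm (Fin 6))).orderOf_pos, pow_orderOf_eq_one]

/-- The first `S₄`. -/
def A₁ : Subgroup K := ofPred Q₁ (by decide) mul_Q₁

/-- The second `S₄`. -/
def A₂ : Subgroup K := ofPred Q₂ (fun _ _ e => e) mul_Q₂

theorem card_pred (P : Perm (Fin 6) → Prop) [DecidablePred P] (H : Subgroup K)
    (h : ∀ g : K, g ∈ H ↔ P (g : Perm (Fin 6))) :
    Nat.card H = (Finset.univ.filter fun g : Perm (Fin 6) => Perm.sign g = 1 ∧ P g).card := by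
  rw [← Fintype.card_subtype, ← Nat.card_eq_fintype_card]
  exact Nat.card_congr
    { toFun := fun g => ⟨g.1.1, Perm.mem_alternatingGroup.1 g.1.2, (h _).1 g.2⟩
      invFun := fun g => ⟨⟨g.1, Perm.mem_alternatingGroup.2 g.2.1⟩, (h _).2 g.2.2⟩
      left_inv := fun g => Subtype.ext (Subtype.ext rfl)
      right_inv := fun g => Subtype.ext rfl }

theorem card_A₁ : Nat.card A₁ = 24 := (card_pred Q₁ A₁ fun _ => Iff.rfl).trans counts.1

theorem card_A₂ : Nat.card A₂ = 24 := (card_pred Q₂ A₂ fun _ => Iff.rfl).trans counts.2.1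

theorem card_inf : Nat.card ↥(A₁ ⊓ A₂) = 8 :=
  (card_pred (fun g => Q₁ g ∧ Q₂ g) (A₁ ⊓ A₂) fun _ => Iff.rfl).trans counts.2.2

theorem card_K : Nat.card K = 360 := by
  rw [Nat.card_eq_fintype_card]
  decide +kernel

theorem A₁_ne_A₂ : A₁ ≠ A₂ := fun e => by
  have h := card_inf
  rw [e, inf_idem, card_A₂] at h
  omega

theorem ne_top {A : Subgroup K} (h : Nat.card A = 24) : A ≠ ⊤ := fun e => by
  rw [e, Subgroup.card_top, card_K] at h
  omega

/-- A subgroup of order 24 above the Sylow subgroup with one more element. -/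
theorem le_of_mem {A B : Subgroup K} (hB : Nat.card B = 24) (hVB : A₁ ⊓ A₂ ≤ B) (hVA : A₁ ⊓ A₂ ≤ A)
    {y : K} (hyA : y ∈ A) (hyB : y ∈ B) (hy : y ∉ A₁ ⊓ A₂) : B ≤ A := by
  have h1 : 8 ∣ Nat.card ↥(A ⊓ B) := card_inf ▸ Subgroup.card_dvd_of_le (le_inf hVA hVB)
  have h2 : Nat.card ↥(A ⊓ B) ∣ 24 := hB ▸ Subgroup.card_dvd_of_le inf_le_right
  have h3 : Nat.card ↥(A ⊓ B) ≠ 8 := fun h => hy <| by
    rw [Subgroup.eq_of_le_of_card_ge (le_inf hVA hVB) (by rw [h, card_inf])]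
    exact ⟨hyA, hyB⟩
  have h4 := Nat.le_of_dvd (by norm_num) h2
  have h5 : Nat.card ↥(A ⊓ B) = 24 := by
    obtain ⟨k, hk⟩ := h1
    rw [hk] at h2 h3 h4 ⊢
    have : k ≤ 3 := by omega
    interval_cases k <;> omega
  exact (Subgroup.eq_of_le_of_card_ge (inf_le_right : A ⊓ B ≤ B) (by rw [h5, hB])).ge.trans inf_le_left

/-- Above the Sylow subgroup there is one of the two. -/
theorem le_or_le {A : Subgroup K} (hVA : A₁ ⊓ A₂ ≤ A) {g : K} (hg : g ∈ A) (hgV : g ∉ A₁ ⊓ A₂) :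
    A₁ ≤ A ∨ A₂ ≤ A := by
  have key : ∀ y ∈ A, (y ∈ A₁ ∨ y ∈ A₂) → y ∉ A₁ ⊓ A₂ → A₁ ≤ A ∨ A₂ ≤ A := fun y hy hor hn =>
    hor.imp (fun h => le_of_mem card_A₁ inf_le_left hVA hy h hn)
      (fun h => le_of_mem card_A₂ inf_le_right hVA hy h hn)
  rcases meets g (Perm.mem_alternatingGroup.1 g.2) with h | h | ⟨a, ha, b, hb, hy, hyn⟩
  · exact key g hg (Or.inl h) hgV
  · exact key g hg (Or.inr h) hgV
  · obtain ⟨ha1, ha2⟩ := vList_ok a ha
    obtain ⟨hb1, hb2⟩ := vList_ok b hb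
    let a' : K := ⟨a, Perm.mem_alternatingGroup.2 ha1⟩
    let b' : K := ⟨b, Perm.mem_alternatingGroup.2 hb1⟩
    exact key (g * a' * g⁻¹ * b' * g)
      (mul_mem (mul_mem (mul_mem (mul_mem hg (hVA ha2)) (inv_mem hg)) (hVA hb2)) hg) hy hyn

theorem sup_eq_top : A₁ ⊔ A₂ = (⊤ : Subgroup K) := by
  haveI : IsSimpleGroup K := alternatingGroup.isSimpleGroup (by simp)
  by_contra h
  set M := A₁ ⊔ A₂
  have hlt : 24 < Nat.card M := by
    by_contra hle
    exact A₁_ne_A₂ ((Subgroup.eq_of_le_of_card_ge le_sup_left (by rw [card_A₁]; exact not_lt.1 hle)).trans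
      (Subgroup.eq_of_le_of_card_ge (le_sup_right : A₂ ≤ M) (by rw [card_A₂]; exact not_lt.1 hle)).symm)
  have hdvd : 24 ∣ Nat.card M := card_A₁ ▸ Subgroup.card_dvd_of_le le_sup_left
  have hidx := M.card_mul_index
  rw [card_K] at hidx
  obtain ⟨k, hk⟩ := hdvd
  have hi : M.index ≤ 7 := by
    have : 48 * M.index ≤ 360 := hidx ▸ Nat.mul_le_mul_right _ (by omega)
    omega
  rcases (MonoidHom.normal_ker (MulAction.toPermHom K (K ⧸ M))).eq_bot_or_eq_top with h0 | h0
  · have hc := Nat.card_le_card_of_injective _ ((MonoidHom.ker_eq_bot_iff _).1 h0)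
    rw [card_K, Nat.card_perm, ← Subgroup.index_eq_card] at hc
    rw [hk] at hidx
    have h7 := M.index
    generalize M.index = i at hidx hi hc
    interval_cases i <;> first
      | (norm_num [Nat.factorial] at hc; done)
      | omega
  · refine h (eq_top_iff.2 fun g _ => ?_)
    have hg : g ∈ (MulAction.toPermHom K (K ⧸ M)).ker := h0 ▸ Subgroup.mem_top g
    have := DFunLike.congr_fun (MonoidHom.mem_ker.1 hg) ((1 : K) : K ⧸ M)
    have h' : ((g * 1 : K) : K ⧸ M) = ((1 : K) : K ⧸ M) := this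
    rw [mul_one, QuotientGroup.eq] at h'
    simpa using h'

end CfsgLib.PMinSocle.AltSix

namespace CfsgLib.PMinSocle

open AltSix

/-- `A₆` at the prime two. -/
theorem twoOrSmall_alt_six : TwoOrSmall 2 ↥(alternatingGroup (Fin 6)) := by
  haveI : Fact (Nat.Prime 2) := ⟨Nat.prime_two⟩
  haveI : IsSimpleGroup ↥(alternatingGroup (Fin 6)) := alternatingGroup.isSimpleGroup (by simp)
  let V : Sylow 2 ↥(alternatingGroup (Fin 6)) := Sylow.ofCard (A₁ ⊓ A₂) (by
    rw [card_inf, card_K, Nat.factorization_def _ Nat.prime_two, show 360 = 2 ^ 3 * 45 by norm_num,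
      padicValNat.mul (by norm_num) (by norm_num), padicValNat.prime_pow,
      padicValNat.eq_zero_of_not_dvd (by norm_num)]
    norm_num)
  refine twoOrSmall_of_one V fun T hT hUT => ?_
  have hfix := fun t ht => map_sylow_eq V hT hUT (t := t) ht
  have himg : ∀ t ∈ T, ∀ B : Subgroup ↥(alternatingGroup (Fin 6)), Nat.card B = 24 → A₁ ⊓ A₂ ≤ B →
      B.map (t : _ ≃* _).toMonoidHom = A₁ ∨ B.map (t : _ ≃* _).toMonoidHom = A₂ := by
    intro t ht B hB hVB
    set B' := B.map (t : _ ≃* _).toMonoidHom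
    have hB' : Nat.card B' = 24 := (Subgroup.card_map_of_injective t.injective).trans hB
    have hVB' : A₁ ⊓ A₂ ≤ B' := (hfix t ht).ge.trans (Subgroup.map_mono hVB)
    obtain ⟨g, hg, hgV⟩ := SetLike.not_le_iff_exists.1 (fun h : B' ≤ A₁ ⊓ A₂ => by
      have := Subgroup.card_le_of_le h
      rw [hB', card_inf] at this
      omega)
    rcases le_or_le hVB' hg hgV with h | h
    · exact Or.inl (Subgroup.eq_of_le_of_card_ge h (by rw [hB', card_A₁])).symm
    · exact Or.inr (Subgroup.eq_of_le_of_card_ge h (by rw [hB', card_A₂])).symm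
  by_cases hall : ∀ t ∈ T, A₁.map (t : _ ≃* _).toMonoidHom = A₁
  · have h2 : Inv T A₂ := fun t ht => (himg t ht A₂ card_A₂ inf_le_right).resolve_left fun h =>
      A₁_ne_A₂ (Subgroup.map_injective t.injective (h.trans (hall t ht).symm)).symm
    have hTwo : Two T (V : Subgroup _) := ⟨A₁, A₂, hall, h2, inf_le_left, inf_le_right,
      ne_top card_A₁, ne_top card_A₂, sup_eq_top⟩
    exact ⟨Or.inl hTwo, fun _ => hTwo⟩
  · push Not at hall
    obtain ⟨t, ht, hne⟩ := hall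
    have h12 : A₁.map (t : _ ≃* _).toMonoidHom = A₂ :=
      (himg t ht A₁ card_A₁ inf_le_left).resolve_left hne
    have h21 : A₂.map (t : _ ≃* _).toMonoidHom = A₁ :=
      (himg t ht A₂ card_A₂ inf_le_right).resolve_right fun h =>
        A₁_ne_A₂ (Subgroup.map_injective t.injective (h12.trans h.symm))
    refine ⟨Or.inr fun A hA hVA hA1 a ha => ?_, fun hin => ?_⟩
    · by_cases haV : a ∈ (V : Subgroup ↥(alternatingGroup (Fin 6)))
      · exact Subgroup.le_normalizer haV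
      exfalso
      rcases le_or_le hVA ha haV with h | h
      · exact hA1 (eq_top_iff.2 (sup_eq_top ▸ sup_le h
          (h12.ge.trans ((Subgroup.map_mono h).trans (hA t ht).le))))
      · exact hA1 (eq_top_iff.2 (sup_eq_top ▸ sup_le
          (h21.ge.trans ((Subgroup.map_mono h).trans (hA t ht).le)) h))
    · exfalso
      obtain ⟨x, hx⟩ := hin ht
      obtain ⟨u, hu, he⟩ := exists_mem_of_inner V hT hUT (x := x) (hx.symm ▸ ht)
      obtain rfl : t = MulAut.conj u := hx.symm.trans he.symm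
      refine hne (Subgroup.eq_of_le_of_card_ge ?_
        (le_of_eq (Subgroup.card_map_of_injective (MulEquiv.injective _)).symm))
      rintro _ ⟨y, hy, rfl⟩
      exact mul_mem (mul_mem hu.1 hy) (inv_mem hu.1)

end CfsgLib.PMinSocle
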