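import Cfsg.Agent.PMinSocle.OneSylow
import Cfsg.Agent.BNPairs.Parabolic

/-!
# The criteria from a Tits system

`B = N(U)`, so an automorphism fixing `U` permutes the minimal parabolics.  A set of nodes kept by
the admissible group gives two invariant parabolics.  If moreover `B = U (B ∩ N)`, a proper
subgroup above `U` meets some minimal parabolic only in `B`, which settles ranks one and two.
-/

set_option autoImplicit false
set_option linter.unusedSectionVars false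
set_option linter.style.haveILetI false

namespace CfsgLib.PMinSocle

open Subgroup BNPairs
open scoped Pointwise

variable {p : ℕ} [Fact p.Prime] {L : Type*} [Group L] [Finite L] {P : Cfsg.BNPair L}

theorem B_le_parabolic (J : Set L) : P.B ≤ P.parabolic J := le_sup_left

theorem mem_parabolic_of_mem {J : Set L} {s : L} (hs : s ∈ J) : s ∈ P.parabolic J :=
  Subgroup.mem_sup_right (Subgroup.subset_closure hs)

theorem parabolic_singleton_le {M : Subgroup L} (hM : P.B ≤ M) {s : L} (hs : s ∈ M) :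
    P.parabolic {s} ≤ M :=
  sup_le hM ((Subgroup.closure_le _).2 (Set.singleton_subset_iff.2 hs))

theorem parabolic_singleton_ne_B {s : L} (hs : s ∈ P.S) : P.parabolic {s} ≠ P.B := fun h =>
  not_mem_B_of_mem_S hs (h ▸ mem_parabolic_of_mem rfl)

theorem node_eq {s x : L} (hs : s ∈ P.S) (hx : x ∈ P.S) (h : P.parabolic {s} = P.parabolic {x}) :
    s = x := by
  have h1 : P.S ∩ (P.parabolic {x} : Set L) = {x} :=
    S_inter_parabolic (Set.singleton_subset_iff.2 hx)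
  have h2 : s ∈ P.S ∩ (P.parabolic {x} : Set L) := ⟨hs, h ▸ mem_parabolic_of_mem rfl⟩
  rwa [h1, Set.mem_singleton_iff] at h2

/-- The elements of a minimal parabolic. -/
theorem mem_minimal {s g : L} (hs : s ∈ P.S) (hg : g ∈ P.parabolic {s}) :
    g ∈ P.B ∨ g ∈ cell P s := by
  obtain ⟨n, hn, h⟩ := (bruhat_parabolic (Set.singleton_subset_iff.2 hs) g).1 hg
  have hsN := P.subset hs
  have key : n ∈ P.N ∧ (n ∈ P.B ∨ s⁻¹ * n ∈ P.B) := by
    refine Subgroup.closure_induction (p := fun n _ => n ∈ P.N ∧ (n ∈ P.B ∨ s⁻¹ * n ∈ P.B)) ?_ ?_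
      ?_ ?_ hn
    · rintro x rfl
      exact ⟨hsN, Or.inr (by simp)⟩
    · exact ⟨one_mem _, Or.inl (one_mem _)⟩
    · rintro x y - - ⟨hx, hx'⟩ ⟨hy, hy'⟩
      refine ⟨mul_mem hx hy, ?_⟩
      have hcon : ∀ m ∈ P.N, ∀ b ∈ P.B, b ∈ P.N → m * b * m⁻¹ ∈ P.B := fun m hm b hb hb' =>
        P.conj_mem m hm b (Subgroup.mem_inf.2 ⟨hb, hb'⟩)
      rcases hx' with hx' | hx' <;> rcases hy' with hy' | hy'
      · exact Or.inl (mul_mem hx' hy')
      · right
        rw [show s⁻¹ * (x * y) = (s⁻¹ * x * s⁻¹⁻¹) * (s⁻¹ * y) by group]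
        exact mul_mem (hcon _ (inv_mem hsN) x hx' hx) hy'
      · right
        rw [← mul_assoc]
        exact mul_mem hx' hy'
      · left
        have hxN : s⁻¹ * x ∈ P.N := mul_mem (inv_mem hsN) hx
        rw [show x * y = (s * (s⁻¹ * x) * s⁻¹) * (s * s) * (s⁻¹ * y) by group]
        exact mul_mem (mul_mem (hcon _ hsN _ hx' hxN) (P.sq_mem s hs)) hy'
    · rintro x - ⟨hx, hx'⟩
      refine ⟨inv_mem hx, ?_⟩
      rcases hx' with hx' | hx'
      · exact Or.inl (inv_mem hx')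
      · right
        have hxN : s⁻¹ * x ∈ P.N := mul_mem (inv_mem hsN) hx
        rw [show s⁻¹ * x⁻¹ = (s⁻¹ * (s⁻¹ * x)⁻¹ * s⁻¹⁻¹) * (s * s)⁻¹ by group]
        exact mul_mem (P.conj_mem _ (inv_mem hsN) _
          (Subgroup.mem_inf.2 ⟨inv_mem hx', inv_mem hxN⟩)) (inv_mem (P.sq_mem s hs))
  rcases key.2 with hB | hB
  · exact Or.inl (mem_B_of_mem_cell hB h)
  · exact Or.inr (by rwa [cell_eq_of_rel hB] at h)

variable (U : Sylow p L) (hB : normalizer ((U : Subgroup L) : Set L) = P.B)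
include hB

theorem U_le_B : (U : Subgroup L) ≤ P.B := hB ▸ Subgroup.le_normalizer

theorem map_B {t : MulAut L} (ht : (U : Subgroup L).map (t : L ≃* L).toMonoidHom = U) :
    P.B.map (t : L ≃* L).toMonoidHom = P.B := by
  rw [← hB, Subgroup.map_equiv_normalizer_eq, ht]

/-- An automorphism fixing `U` maps minimal parabolics to minimal parabolics. -/
theorem exists_node {t : MulAut L} (ht : (U : Subgroup L).map (t : L ≃* L).toMonoidHom = U)
    {s : L} (hs : s ∈ P.S) :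
    ∃ x ∈ P.S, (P.parabolic {s}).map (t : L ≃* L).toMonoidHom = P.parabolic {x} := by
  set f := (t : L ≃* L).toMonoidHom
  have hf : Function.Injective f := t.injective
  have hmap := map_B U hB ht
  set M := (P.parabolic {s}).map f with hM
  have hBM : P.B ≤ M := hmap.ge.trans (Subgroup.map_mono (B_le_parabolic _))
  by_cases hne : (P.S ∩ (M : Set L)).Nonempty
  · obtain ⟨x, hx, hxM⟩ := hne
    refine ⟨x, hx, le_antisymm ?_ (parabolic_singleton_le hBM hxM)⟩
    set N := (P.parabolic {x}).comap f with hN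
    have hBN : P.B ≤ N := fun b hb => B_le_parabolic _ (hmap ▸ ⟨b, hb, rfl⟩)
    have hNs : N ≤ P.parabolic {s} := fun y hy => by
      obtain ⟨z, hz, e⟩ := (parabolic_singleton_le hBM hxM) hy
      rwa [← hf e]
    have hsN : s ∈ N := by
      by_contra hsN
      have hempty : P.S ∩ (N : Set L) = ∅ := Set.eq_empty_of_forall_notMem fun z hz => by
        have h2 : z ∈ P.S ∩ (P.parabolic {s} : Set L) := ⟨hz.1, hNs hz.2⟩
        rw [S_inter_parabolic (Set.singleton_subset_iff.2 hs), Set.mem_singleton_iff] at h2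
        exact hsN (h2 ▸ hz.2)
      have hNB : N = P.B := by
        rw [eq_parabolic hBN, hempty, Cfsg.BNPair.parabolic, Subgroup.closure_empty, sup_bot_eq]
      refine parabolic_singleton_ne_B hx ?_
      rw [← hmap, ← hNB, hN, Subgroup.map_comap_eq_self_of_surjective t.surjective]
    exact Subgroup.map_le_iff_le_comap.2 (parabolic_singleton_le hBN hsN)
  · exfalso
    rw [Set.not_nonempty_iff_eq_empty] at hne
    have hMB : M = P.B := by
      rw [eq_parabolic hBM, hne, Cfsg.BNPair.parabolic, Subgroup.closure_empty, sup_bot_eq]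
    exact parabolic_singleton_ne_B hs (Subgroup.map_injective hf (hMB.trans hmap.symm))

/-- A set of nodes kept by `T` gives an invariant parabolic. -/
theorem inv_parabolic {T : Subgroup (MulAut L)}
    (hfix : ∀ t ∈ T, (U : Subgroup L).map (t : L ≃* L).toMonoidHom = U) {J : Set L} (hJS : J ⊆ P.S)
    (hJ : ∀ t ∈ T, ∀ s ∈ J, ∀ x ∈ P.S,
      (P.parabolic {s}).map (t : L ≃* L).toMonoidHom = P.parabolic {x} → x ∈ J) :
    Inv T (P.parabolic J) := by
  intro t ht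
  refine Subgroup.eq_of_le_of_card_ge ?_
    (le_of_eq (Subgroup.card_map_of_injective t.injective).symm)
  rw [Subgroup.map_le_iff_le_comap]
  refine sup_le (fun b hb => B_le_parabolic J ?_) ((Subgroup.closure_le _).2 fun s hs => ?_)
  · exact (map_B U hB (hfix t ht)) ▸ ⟨b, hb, rfl⟩
  · obtain ⟨x, hx, e⟩ := exists_node U hB (hfix t ht) (hJS hs)
    have hxJ := hJ t ht s hs x hx e
    exact parabolic_singleton_le (B_le_parabolic J) (mem_parabolic_of_mem hxJ)
      (e ▸ ⟨s, mem_parabolic_of_mem rfl, rfl⟩)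

variable [IsSimpleGroup L] {T : Subgroup (MulAut L)} (hT : IsPGroup p T)
  (hUT : (U : Subgroup L).map MulAut.conj ≤ T)
include hT hUT

/-- Two classes of nodes. -/
theorem two_of_nodes {J : Set L} (hJS : J ⊆ P.S) {s₀ s₁ : L} (h₀ : s₀ ∈ J) (h₁ : s₁ ∈ P.S)
    (h₁' : s₁ ∉ J)
    (hJ : ∀ t ∈ T, ∀ s ∈ J, ∀ x ∈ P.S,
      (P.parabolic {s}).map (t : L ≃* L).toMonoidHom = P.parabolic {x} → x ∈ J) :
    Two T (U : Subgroup L) := by
  have hfix : ∀ t ∈ T, (U : Subgroup L).map (t : L ≃* L).toMonoidHom = U := fun t ht =>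
    map_sylow_eq U hT hUT ht
  have hproper : ∀ {J : Set L} {s : L}, J ⊆ P.S → s ∈ P.S → s ∉ J → P.parabolic J ≠ ⊤ :=
    fun {J s} hJS hs hsJ h => hsJ (S_inter_parabolic (P := P) hJS ▸ ⟨hs, h ▸ Subgroup.mem_top s⟩)
  refine ⟨P.parabolic J, P.parabolic (P.S \ J), inv_parabolic U hB hfix hJS hJ,
    inv_parabolic U hB hfix Set.sdiff_subset fun t ht s hs x hx e => ⟨hx, fun hxJ => hs.2 ?_⟩,
    (U_le_B U hB).trans (B_le_parabolic _), (U_le_B U hB).trans (B_le_parabolic _),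
    hproper hJS h₁ h₁', hproper Set.sdiff_subset (hJS h₀) (fun h => h.2 h₀), ?_⟩
  · refine hJ t⁻¹ (inv_mem ht) x hxJ s hs.1 ?_
    rw [← e, map_map_aut, inv_mul_cancel, map_one_aut]
  · refine eq_top_iff.2 ((parabolic_S_eq_top (P := P)).ge.trans ?_)
    refine sup_le ((B_le_parabolic _).trans le_sup_left) ((Subgroup.closure_le _).2 fun s hs => ?_)
    by_cases h : s ∈ J
    · exact Subgroup.mem_sup_left (mem_parabolic_of_mem h)
    · exact Subgroup.mem_sup_right (mem_parabolic_of_mem (⟨hs, h⟩ : s ∈ P.S \ J))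

/-- Minimal parabolics of two orders. -/
theorem two_of_card {s₀ s₁ : L} (h₀ : s₀ ∈ P.S) (h₁ : s₁ ∈ P.S)
    (h : Nat.card ↥(P.parabolic {s₁}) ≠ Nat.card ↥(P.parabolic {s₀})) :
    Two T (U : Subgroup L) := by
  refine two_of_nodes U hB hT hUT
    (J := {s | s ∈ P.S ∧ Nat.card ↥(P.parabolic {s}) = Nat.card ↥(P.parabolic {s₀})})
    (fun s hs => hs.1) (s₀ := s₀) ⟨h₀, rfl⟩ h₁ (fun h' => h h'.2) ?_
  rintro t - s ⟨-, hs⟩ x hx e
  refine ⟨hx, ?_⟩
  rw [← e, Subgroup.card_map_of_injective t.injective, hs]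

omit hT hUT in
theorem swap_of_ne {t : MulAut L} (ht : (U : Subgroup L).map (t : L ≃* L).toMonoidHom = U) {a b : L}
    (hS : P.S = {a, b})
    (hne : (P.parabolic {a}).map (t : L ≃* L).toMonoidHom ≠ P.parabolic {a}) :
    (P.parabolic {a}).map (t : L ≃* L).toMonoidHom = P.parabolic {b} ∧
      (P.parabolic {b}).map (t : L ≃* L).toMonoidHom = P.parabolic {a} := by
  obtain ⟨x, hx, ex⟩ := exists_node U hB ht (hS ▸ Or.inl rfl : a ∈ P.S)
  obtain ⟨y, hy, ey⟩ := exists_node U hB ht (hS ▸ Or.inr rfl : b ∈ P.S)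
  rw [hS] at hx hy
  rcases hx with rfl | rfl
  · exact absurd ex hne
  rcases hy with rfl | rfl
  · exact ⟨ex, ey⟩
  · have h := Subgroup.map_injective (f := (t : L ≃* L).toMonoidHom) t.injective (ex.trans ey.symm)
    have : a = y := node_eq (hS ▸ Or.inl rfl) (hS ▸ Or.inr rfl) h
    subst this
    exact absurd ex hne

/-- Rank two, a node fixed by all of `T`. -/
theorem two_of_fixed {a b : L} (hS : P.S = {a, b}) (hab : a ≠ b)
    (h : ∀ t ∈ T, (P.parabolic {a}).map (t : L ≃* L).toMonoidHom = P.parabolic {a}) :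
    Two T (U : Subgroup L) := by
  refine two_of_nodes U hB hT hUT (J := {a}) (by rw [hS]; simp) (s₀ := a) rfl (s₁ := b)
    (hS ▸ Or.inr rfl) (fun e => hab e.symm) ?_
  intro t ht s hs x hx e
  rw [Set.mem_singleton_iff] at hs
  subst hs
  exact (node_eq (hS ▸ Or.inl rfl) hx ((h t ht).symm.trans e)).symm

/-- Rank two and `p` odd. -/
theorem two_of_odd (hp : p ≠ 2) {a b : L} (hS : P.S = {a, b}) (hab : a ≠ b) :
    Two T (U : Subgroup L) := by
  refine two_of_fixed U hB hT hUT hS hab fun t ht => ?_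
  by_contra hne
  obtain ⟨h1, h2⟩ := swap_of_ne U hB (map_sylow_eq U hT hUT ht) hS hne
  have hiter : ∀ k : ℕ, (P.parabolic {a}).map (t ^ (2 * k) : MulAut L).toMonoidHom =
      P.parabolic {a} := by
    intro k
    induction k with
    | zero => rw [mul_zero, pow_zero]; exact map_one_aut _
    | succ k ih =>
      rw [show 2 * (k + 1) = 2 + 2 * k by ring, pow_add, ← map_map_aut, ih, pow_two, ← map_map_aut,
        h1, h2]
  obtain ⟨c, hc⟩ := hT ⟨t, ht⟩
  have ht1 : t ^ p ^ c = 1 := congrArg Subtype.val hc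
  obtain ⟨k, hk⟩ : Odd (p ^ c) := ((Fact.out : p.Prime).odd_of_ne_two hp).pow
  rw [hk, pow_succ'] at ht1
  have h3 := map_map_aut t (t ^ (2 * k)) (P.parabolic {a})
  rw [hiter, ht1, map_one_aut] at h3
  exact hne h3

/-- Inner groups fix every parabolic. -/
theorem inner_fix (hin : T ≤ (MulAut.conj (G := L)).range) {t : MulAut L} (ht : t ∈ T) (J : Set L) :
    (P.parabolic J).map (t : L ≃* L).toMonoidHom = P.parabolic J := by
  obtain ⟨x, hx⟩ := hin ht
  obtain ⟨u, hu, he⟩ := exists_mem_of_inner U hT hUT (x := x) (hx.symm ▸ ht)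
  obtain rfl : t = MulAut.conj u := hx.symm.trans he.symm
  have huP : u ∈ P.parabolic J := B_le_parabolic J (U_le_B U hB hu)
  refine Subgroup.eq_of_le_of_card_ge ?_
    (le_of_eq (Subgroup.card_map_of_injective (MulEquiv.injective _)).symm)
  rintro _ ⟨y, hy, rfl⟩
  exact mul_mem (mul_mem huP hy) (inv_mem huP)

omit hT hUT

variable (hsplit : ∀ b ∈ P.B, ∃ u ∈ (U : Subgroup L), ∃ h ∈ P.B ⊓ P.N, b = u * h)
include hsplit

omit [IsSimpleGroup L] in
theorem split_right {b : L} (hb : b ∈ P.B) :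
    ∃ h ∈ P.B ⊓ P.N, ∃ u ∈ (U : Subgroup L), b = h * u := by
  obtain ⟨u, hu, h, hh, rfl⟩ := hsplit b hb
  refine ⟨h, hh, h⁻¹ * u * h, ?_, by group⟩
  have := (Subgroup.mem_normalizer_iff.1 (hB.ge (inv_mem (Subgroup.mem_inf.1 hh).1)) u).1 hu
  simpa using this

omit [IsSimpleGroup L] in
/-- A subgroup above `U` outside `B` meets some minimal parabolic outside `B`. -/
theorem exists_mem_minimal {A : Subgroup L} (hUA : (U : Subgroup L) ≤ A) {a : L} (haA : a ∈ A)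
    (haB : a ∉ P.B) : ∃ s ∈ P.S, ∃ y ∈ A, y ∈ P.parabolic {s} ∧ y ∉ P.B := by
  obtain ⟨n, hn, hcell⟩ := bruhat (P := P) a
  obtain ⟨c, hc, c', hc', rfl⟩ := mem_cell.1 hcell
  obtain ⟨u₁, hu₁, h₁, hh₁, rfl⟩ := hsplit c hc
  obtain ⟨h₂, hh₂, u₂, hu₂, rfl⟩ := split_right U hB hsplit hc'
  set n₀ := h₁ * n * h₂ with hn₀
  have hn₀N : n₀ ∈ P.N :=
    mul_mem (mul_mem (Subgroup.mem_inf.1 hh₁).2 hn) (Subgroup.mem_inf.1 hh₂).2
  have hn₀A : n₀ ∈ A := by
    rw [show n₀ = u₁⁻¹ * (u₁ * h₁ * n * (h₂ * u₂)) * u₂⁻¹ by rw [hn₀]; group]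
    exact mul_mem (mul_mem (inv_mem (hUA hu₁)) haA) (inv_mem (hUA hu₂))
  have hn₀B : n₀ ∉ P.B := fun h => haB (by
    rw [show u₁ * h₁ * n * (h₂ * u₂) = u₁ * n₀ * u₂ by rw [hn₀]; group]
    exact mul_mem (mul_mem (U_le_B U hB hu₁) h) (U_le_B U hB hu₂))
  obtain ⟨k, hk⟩ : ∃ k, len P n₀ = k + 1 :=
    Nat.exists_eq_succ_of_ne_zero fun h => hn₀B ((len_eq_zero hn₀N).1 h)
  obtain ⟨s, hs, n₁, hn₁, hk₁, hrel⟩ := exists_left_factor hn₀N hk
  have hsn : len P (s * n₀) ≤ len P n₀ := by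
    rw [len_eq_of_rel (mul_mem (P.subset hs) (mul_mem (P.subset hs) hn₁))
        (mul_mem (P.subset hs) hn₀N) (rel_mul_left s hrel),
      len_eq_of_rel hn₁ (mul_mem (P.subset hs) (mul_mem (P.subset hs) hn₁)) (rel_sq_mul hs hn₁)]
    omega
  obtain ⟨b, hb, hdes⟩ := exists_descent_elt hs hn₀N hsn
  obtain ⟨e, he, e', he', hee⟩ := mem_cell.1 hdes
  obtain ⟨u, hu, h, hh, rfl⟩ := hsplit b hb
  obtain ⟨u₃, hu₃, h₃, hh₃, rfl⟩ := hsplit e he
  set h₄ := n₀⁻¹ * h * n₀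
  have hh₄ : h₄ ∈ P.B := by
    simpa using P.conj_mem n₀⁻¹ (inv_mem hn₀N) h hh
  set h₅ := n₀⁻¹ * h₃ * n₀
  have hh₅ : h₅ ∈ P.B := by
    simpa using P.conj_mem n₀⁻¹ (inv_mem hn₀N) h₃ hh₃
  obtain ⟨h₆, hh₆, u₆, hu₆, he6⟩ :=
    split_right U hB hsplit (mul_mem (mul_mem hh₅ he') (inv_mem hh₄))
  set h₇ := n₀ * h₆ * n₀⁻¹
  have hh₇ : h₇ ∈ P.B := P.conj_mem n₀ hn₀N h₆ hh₆
  have key : s * u = u₃ * h₇ * (n₀ * u₆ * n₀⁻¹) := by
    calc s * u = (s * (u * h) * n₀) * h₄⁻¹ * n₀⁻¹ := by simp only [h₄]; group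
      _ = u₃ * n₀ * (h₅ * e' * h₄⁻¹) * n₀⁻¹ := by rw [hee]; simp only [h₅]; group
      _ = _ := by rw [he6]; simp only [h₇]; group
  have hy : h₇⁻¹ * u₃⁻¹ * s = n₀ * u₆ * n₀⁻¹ * u⁻¹ := by
    rw [show s = (s * u) * u⁻¹ by group, key]
    group
  refine ⟨s, hs, h₇⁻¹ * u₃⁻¹ * s, ?_, ?_, fun hin => not_mem_B_of_mem_S hs ?_⟩
  · rw [hy]
    exact mul_mem (mul_mem (mul_mem hn₀A (hUA hu₆)) (inv_mem hn₀A)) (inv_mem (hUA hu))
  · exact mul_mem (B_le_parabolic _ (mul_mem (inv_mem hh₇) (inv_mem (U_le_B U hB hu₃))))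
      (mem_parabolic_of_mem rfl)
  · rw [show s = u₃ * h₇ * (h₇⁻¹ * u₃⁻¹ * s) by group]
    exact mul_mem (mul_mem (U_le_B U hB hu₃) hh₇) hin

/-- A subgroup above `U` meeting every minimal parabolic outside `B` is everything. -/
theorem eq_top_of_forall {A : Subgroup L} (hUA : (U : Subgroup L) ≤ A) {s₀ : L} (hs₀ : s₀ ∈ P.S)
    (h : ∀ s ∈ P.S, ∃ y ∈ A, y ∈ P.parabolic {s} ∧ y ∉ P.B) : A = ⊤ := by
  set C : Set L := (A : Set L) * (P.B : Set L) with hC
  have hPs : ∀ s ∈ P.S, ∀ g ∈ P.parabolic {s}, g ∈ C := by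
    intro s hs g hg
    rcases mem_minimal hs hg with hgB | hgc
    · exact ⟨1, one_mem A, g, hgB, one_mul g⟩
    obtain ⟨y, hyA, hyP, hyB⟩ := h s hs
    obtain ⟨c, hc, c', hc', rfl⟩ := mem_cell.1 ((mem_minimal hs hyP).resolve_left hyB)
    obtain ⟨d, hd, d', hd', rfl⟩ := mem_cell.1 hgc
    obtain ⟨u, hu, k, hk, rfl⟩ := hsplit c hc
    obtain ⟨v, hv, l, hl, rfl⟩ := hsplit d hd
    have hcon : ∀ k ∈ P.B ⊓ P.N, s⁻¹ * k * s ∈ P.B := fun k hk => by
      simpa using P.conj_mem s⁻¹ (inv_mem (P.subset hs)) k hk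
    refine ⟨v * u⁻¹ * (u * k * s * c'), mul_mem (mul_mem (hUA hv) (inv_mem (hUA hu))) hyA,
      c'⁻¹ * (s⁻¹ * k * s)⁻¹ * (s⁻¹ * l * s) * d',
      mul_mem (mul_mem (mul_mem (inv_mem hc') (inv_mem (hcon k hk))) (hcon l hl)) hd', ?_⟩
    dsimp only
    group
  let Xs : Subgroup L :=
    { carrier := {g | ∀ x ∈ C, x * g ∈ C ∧ x * g⁻¹ ∈ C}
      one_mem' := fun x hx => by simpa using hx
      mul_mem' := fun {g g'} hg hg' x hx =>
        ⟨by rw [← mul_assoc]; exact (hg' _ (hg x hx).1).1,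
         by rw [mul_inv_rev, ← mul_assoc]; exact (hg _ (hg' x hx).2).2⟩
      inv_mem' := fun {g} hg x hx => ⟨(hg x hx).2, by rw [inv_inv]; exact (hg x hx).1⟩ }
  have hmul : ∀ s ∈ P.S, ∀ g ∈ P.parabolic {s}, ∀ x ∈ C, x * g ∈ C := by
    rintro s hs g hg _ ⟨a, ha, b, hb, rfl⟩
    obtain ⟨a', ha', b', hb', e⟩ := hPs s hs (b * g) (mul_mem (B_le_parabolic _ hb) hg)
    refine ⟨a * a', mul_mem ha ha', b', hb', ?_⟩
    show a * a' * b' = a * b * g
    rw [mul_assoc, show a' * b' = b * g from e, mul_assoc]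
  have hX : ∀ s ∈ P.S, P.parabolic {s} ≤ Xs := fun s hs g hg x hx =>
    ⟨hmul s hs g hg x hx, hmul s hs g⁻¹ (inv_mem hg) x hx⟩
  have htop : ∀ g : L, g ∈ C := fun g => by
    have hg : g ∈ Xs := by
      refine ((parabolic_S_eq_top (P := P)).ge.trans ?_) (Subgroup.mem_top g)
      exact sup_le ((B_le_parabolic {s₀}).trans (hX s₀ hs₀))
        ((Subgroup.closure_le _).2 fun s hs => hX s hs (mem_parabolic_of_mem rfl))
    simpa using (hg 1 ⟨1, one_mem A, 1, one_mem P.B, one_mul 1⟩).1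
  have hle : Subgroup.normalClosure ((U : Subgroup L) : Set L) ≤ A := by
    refine (Subgroup.closure_le A).2 fun x hx => ?_
    obtain ⟨w, hw, hconj⟩ := Group.mem_conjugatesOfSet_iff.1 hx
    obtain ⟨g, hg⟩ := isConj_iff.1 hconj
    obtain ⟨a, ha, b, hb, e⟩ := htop g
    have hb' : b * w * b⁻¹ ∈ (U : Subgroup L) :=
      (Subgroup.mem_normalizer_iff.1 (hB.ge hb) w).1 hw
    rw [← hg, ← show a * b = g from e, show a * b * w * (a * b)⁻¹ = a * (b * w * b⁻¹) * a⁻¹ by group]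
    exact mul_mem (mul_mem ha (hUA hb')) (inv_mem ha)
  have hU0 : (U : Subgroup L) ≠ ⊥ := fun h0 => not_mem_B_of_mem_S hs₀ (by
    rw [← hB, h0]
    exact (Subgroup.normalizer_eq_top_iff.2 (inferInstance : (⊥ : Subgroup L).Normal)).ge
      (Subgroup.mem_top _))
  rcases (Subgroup.normalClosure_normal (s := ((U : Subgroup L) : Set L))).eq_bot_or_eq_top with h0 | h0
  · exact absurd (eq_bot_iff.2 fun x hx => h0.le (Subgroup.subset_normalClosure hx)) hU0
  · exact eq_top_iff.2 (h0 ▸ hle)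

include hT hUT in
/-- Rank two: two invariant parabolics, or only `B` is invariant. -/
theorem rank_two {a b : L} (hS : P.S = {a, b}) (hab : a ≠ b) :
    (Two T (U : Subgroup L) ∨ Small T (U : Subgroup L)) ∧
      (T ≤ (MulAut.conj (G := L)).range → Two T (U : Subgroup L)) := by
  refine ⟨?_, fun hin => two_of_fixed U hB hT hUT hS hab fun t ht =>
    inner_fix U hB hT hUT hin ht {a}⟩
  by_cases hall : ∀ t ∈ T, (P.parabolic {a}).map (t : L ≃* L).toMonoidHom = P.parabolic {a}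
  · exact Or.inl (two_of_fixed U hB hT hUT hS hab hall)
  push Not at hall
  obtain ⟨t, ht, hne⟩ := hall
  obtain ⟨h1, h2⟩ := swap_of_ne U hB (map_sylow_eq U hT hUT ht) hS hne
  refine Or.inr fun A hA hUA hA1 x hx => ?_
  rw [hB]
  by_contra hxB
  refine hA1 (eq_top_of_forall U hB hsplit hUA (s₀ := a) (hS ▸ Or.inl rfl) ?_)
  obtain ⟨s, hs, y, hyA, hyP, hyB⟩ := exists_mem_minimal U hB hsplit hUA hx hxB
  have htB : t y ∉ P.B := fun h => hyB (by
    rw [← map_B U hB (map_sylow_eq U hT hUT ht)] at h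
    obtain ⟨z, hz, e⟩ := h
    rwa [← t.injective e])
  intro r hr
  rw [hS] at hs hr
  rcases hs with rfl | rfl <;> rcases hr with rfl | rfl
  · exact ⟨y, hyA, hyP, hyB⟩
  · exact ⟨t y, (hA.mem_iff ht).2 hyA, h1 ▸ ⟨y, hyP, rfl⟩, htB⟩
  · exact ⟨t y, (hA.mem_iff ht).2 hyA, h2 ▸ ⟨y, hyP, rfl⟩, htB⟩
  · exact ⟨y, hyA, hyP, hyB⟩

/-- Rank two. -/
theorem twoOrSmall_of_rank_two {a b : L} (hS : P.S = {a, b}) (hab : a ≠ b) : TwoOrSmall p L :=
  twoOrSmall_of_one U fun _ hT hUT => rank_two U hB hT hUT hsplit hS hab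

/-- Rank one. -/
theorem alwaysSmall_of_rank_one {s : L} (hS : P.S = {s}) : AlwaysSmall p L := by
  intro V A hVA hA
  obtain ⟨g, hg⟩ := MulAction.exists_smul_eq L V U
  set e : L ≃* L := MulAut.conj g
  have he : (V : Subgroup L).map e.toMonoidHom = U := by
    rw [← hg, Sylow.coe_subgroup_smul]
    rfl
  have hA' : A.map e.toMonoidHom ≠ ⊤ := fun h => hA (Subgroup.map_injective e.injective
    (h.trans (Subgroup.map_top_of_surjective _ e.surjective).symm))
  have hUA : (U : Subgroup L) ≤ A.map e.toMonoidHom := he ▸ Subgroup.map_mono hVA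
  have hle : A.map e.toMonoidHom ≤ P.B := by
    intro x hx
    by_contra hxB
    obtain ⟨r, hr, hex⟩ := exists_mem_minimal U hB hsplit hUA hx hxB
    refine hA' (eq_top_of_forall U hB hsplit hUA (hS ▸ rfl : s ∈ P.S) fun s' hs' => ?_)
    rw [hS, Set.mem_singleton_iff] at hs' hr
    subst hs' hr
    exact hex
  intro a ha
  have h := hle ⟨a, ha, rfl⟩
  rw [← hB, ← he, ← Subgroup.map_equiv_normalizer_eq] at h
  obtain ⟨z, hz, ez⟩ := h
  rwa [← e.injective ez]

end CfsgLib.PMinSocle
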