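import Cfsg.Prelude.Def_LocalEven
import Mathlib.GroupTheory.Sylow
import Mathlib.Algebra.Group.End

/-!
# `p`-minimal groups and invariant overgroups of a Sylow subgroup of a normal subgroup

`K` normal in the `p`-minimal group `X`, `U` Sylow in `K`.  The image `T` in `Aut K` of a Sylow
subgroup of `X` containing `U` is a `p`-group containing the inner automorphisms of `U`.  Two
`T`-invariant proper subgroups containing `U` and generating `K` are impossible; if every
`T`-invariant proper subgroup containing `U` normalises `U` then `N_X(U)` is maximal.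
-/

set_option autoImplicit false
set_option linter.unusedSectionVars false

namespace CfsgLib.PMinSocle

open Subgroup

variable {p : ℕ} {K : Type*} [Group K]

/-- `A` is carried to itself by every member of `T`. -/
def Inv (T : Subgroup (MulAut K)) (A : Subgroup K) : Prop :=
  ∀ t ∈ T, A.map (t : K ≃* K).toMonoidHom = A

/-- Two proper invariant subgroups above `U` which generate. -/
def Two (T : Subgroup (MulAut K)) (U : Subgroup K) : Prop :=
  ∃ A B : Subgroup K, Inv T A ∧ Inv T B ∧ U ≤ A ∧ U ≤ B ∧ A ≠ ⊤ ∧ B ≠ ⊤ ∧ A ⊔ B = ⊤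

/-- Every proper invariant subgroup above `U` normalises `U`. -/
def Small (T : Subgroup (MulAut K)) (U : Subgroup K) : Prop :=
  ∀ A : Subgroup K, Inv T A → U ≤ A → A ≠ ⊤ → A ≤ normalizer (U : Set K)

theorem map_map_aut (s t : MulAut K) (A : Subgroup K) :
    (A.map (t : K ≃* K).toMonoidHom).map (s : K ≃* K).toMonoidHom = A.map (s * t : K ≃* K).toMonoidHom := by
  rw [Subgroup.map_map]
  rfl

theorem map_one_aut (A : Subgroup K) : A.map ((1 : MulAut K) : K ≃* K).toMonoidHom = A := by
  ext x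
  simp [Subgroup.mem_map]

theorem Inv.mem_iff {T : Subgroup (MulAut K)} {A : Subgroup K} (h : Inv T A) {t : MulAut K}
    (ht : t ∈ T) {x : K} : t x ∈ A ↔ x ∈ A := by
  constructor
  · intro hx
    rw [← h t ht] at hx
    obtain ⟨y, hy, e⟩ := hx
    rwa [← t.injective (show t y = t x from e)]
  · intro hx
    rw [← h t ht]
    exact ⟨x, hx, rfl⟩

variable [Fact p.Prime] {X : Type*} [Group X] [Finite X] {N : Subgroup X} [N.Normal]

/-- The restriction of conjugation to a normal subgroup, on a subgroup. -/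
theorem map_subtype_conj (A : Subgroup ↥N) (x : X) :
    (A.map N.subtype).map (MulAut.conj x).toMonoidHom =
      (A.map (MulAut.conjNormal x : MulAut ↥N).toMonoidHom).map N.subtype := by
  rw [Subgroup.map_map, Subgroup.map_map]
  congr 1

theorem mem_normalizer_map_iff (A : Subgroup ↥N) (x : X) :
    x ∈ normalizer ((A.map N.subtype : Subgroup X) : Set X) ↔
      A.map (MulAut.conjNormal x : MulAut ↥N).toMonoidHom = A := by
  constructor
  · intro hx
    refine Subgroup.map_injective N.subtype_injective ?_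
    rw [← map_subtype_conj]
    ext y
    rw [Subgroup.mem_normalizer_iff] at hx
    constructor
    · rintro ⟨a, ha, rfl⟩
      exact (hx a).1 ha
    · intro hy
      refine ⟨x⁻¹ * y * x, (hx _).2 ?_, ?_⟩
      · simpa [mul_assoc] using hy
      · simp [mul_assoc]
  · intro hA
    rw [Subgroup.mem_normalizer_iff]
    intro y
    have h : (A.map N.subtype).map (MulAut.conj x).toMonoidHom = A.map N.subtype := by
      rw [map_subtype_conj, hA]
    constructor
    · intro hy
      rw [← h]
      exact ⟨y, hy, rfl⟩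
    · intro hy
      rw [← h] at hy
      obtain ⟨a, ha, e⟩ := hy
      rwa [← (MulAut.conj x).injective (show MulAut.conj x a = MulAut.conj x y from e)]

variable [IsSimpleGroup ↥N] (hX : Cfsg.IsPMinimal p X) (U : Sylow p ↥N)
  (hU : normalizer ((U : Subgroup ↥N) : Set ↥N) ≠ ⊤)

omit [Finite X] in
theorem isPGroup_map_subtype : IsPGroup p ((U : Subgroup ↥N).map N.subtype) := U.2.map _

/-- A Sylow subgroup of `X` above `U` normalises `U`. -/
theorem le_normalizer_of_le (S : Sylow p X) (hS : (U : Subgroup ↥N).map N.subtype ≤ S) :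
    (S : Subgroup X) ≤ normalizer (((U : Subgroup ↥N).map N.subtype : Subgroup X) : Set X) := by
  have hle : (U : Subgroup ↥N) ≤ (S : Subgroup X).subgroupOf N := fun u hu => hS ⟨u, hu, rfl⟩
  have heq := U.3 (S.2.comap_of_injective N.subtype N.subtype_injective) hle
  intro s hs
  rw [Subgroup.mem_normalizer_iff]
  intro y
  constructor
  · rintro ⟨u, hu, rfl⟩
    refine ⟨⟨s * u * s⁻¹, ‹N.Normal›.conj_mem _ u.2 s⟩, ?_, rfl⟩
    rw [← heq]
    exact mul_mem (mul_mem hs (hS ⟨u, hu, rfl⟩)) (inv_mem hs)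
  · rintro ⟨u, hu, e⟩
    refine ⟨⟨s⁻¹ * u * s, by simpa using ‹N.Normal›.conj_mem _ u.2 s⁻¹⟩, ?_, ?_⟩
    · rw [← heq]
      exact mul_mem (mul_mem (inv_mem hs) (hS ⟨u, hu, rfl⟩)) hs
    · simp only [Subgroup.coe_subtype] at e ⊢
      rw [e]
      group

include hX hU in
/-- The common part of both criteria. -/
theorem exists_setup : ∃ (S : Sylow p X) (M : Subgroup X), IsCoatom M ∧
    (U : Subgroup ↥N).map N.subtype ≤ S ∧
    normalizer (((U : Subgroup ↥N).map N.subtype : Subgroup X) : Set X) ≤ M ∧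
    (U : Subgroup ↥N) ≤ M.subgroupOf N ∧ M.subgroupOf N ≠ ⊤ ∧
    Inv ((S : Subgroup X).map (MulAut.conjNormal (H := N))) (M.subgroupOf N) ∧
    ∀ A : Subgroup ↥N, Inv ((S : Subgroup X).map (MulAut.conjNormal (H := N))) A →
      (U : Subgroup ↥N) ≤ A → A ≠ ⊤ → A ≤ M.subgroupOf N := by
  obtain ⟨S, hS⟩ := (isPGroup_map_subtype U).exists_le_sylow
  obtain ⟨-, M, ⟨hM, hSM⟩, huniq⟩ := hX S
  have key : ∀ P : Subgroup X, (S : Subgroup X) ≤ P → P ≠ ⊤ → P ≤ M := by
    intro P hSP hP
    obtain rfl | ⟨M', hM', hPM'⟩ := IsCoatomic.eq_top_or_exists_le_coatom P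
    · exact absurd rfl hP
    · exact hPM'.trans_eq (huniq M' ⟨hM', hSP.trans hPM'⟩)
  set NU := normalizer (((U : Subgroup ↥N).map N.subtype : Subgroup X) : Set X) with hNU
  have hfr : NU ⊔ N = ⊤ := Sylow.normalizer_sup_eq_top U
  have hNUtop : NU ≠ ⊤ := by
    intro h
    refine hU (eq_top_iff.2 fun k _ => ?_)
    have hk := (mem_normalizer_map_iff (U : Subgroup ↥N) (k : X)).1
      (by rw [← hNU, h]; exact Subgroup.mem_top _)
    have hu : ∀ y : ↥N, y ∈ (U : Subgroup ↥N) → k * y * k⁻¹ ∈ (U : Subgroup ↥N) := fun y hy => by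
      rw [← hk]
      exact ⟨y, hy, Subtype.ext rfl⟩
    exact Subgroup.mem_normalizer_fintype hu
  have hNUM := key NU (le_normalizer_of_le U S hS) hNUtop
  refine ⟨S, M, hM, hS, hNUM, fun u hu => hSM (hS ⟨u, hu, rfl⟩), ?_, ?_, ?_⟩
  · intro h
    refine hM.1 (eq_top_iff.2 (hfr ▸ sup_le hNUM fun x hx => ?_))
    have : (⟨x, hx⟩ : ↥N) ∈ M.subgroupOf N := h ▸ Subgroup.mem_top _
    exact this
  · rintro _ ⟨s, hs, rfl⟩
    refine (mem_normalizer_map_iff _ s).1 ?_
    rw [Subgroup.subgroupOf_map_subtype, Subgroup.mem_normalizer_iff]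
    intro y
    simp only [Subgroup.mem_inf]
    have hsM := hSM hs
    constructor
    · rintro ⟨h1, h2⟩
      exact ⟨mul_mem (mul_mem hsM h1) (inv_mem hsM), ‹N.Normal›.conj_mem _ h2 s⟩
    · rintro ⟨h1, h2⟩
      refine ⟨by simpa [mul_assoc] using mul_mem (mul_mem (inv_mem hsM) h1) hsM, ?_⟩
      simpa [mul_assoc] using ‹N.Normal›.conj_mem _ h2 s⁻¹
  · intro A hA hUA hAtop k hk
    by_cases h : normalizer ((A.map N.subtype : Subgroup X) : Set X) = ⊤
    · have hnor : normalizer (A : Set ↥N) = ⊤ :=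
        eq_top_iff.2 fun k' _ => Subgroup.mem_normalizer_fintype fun y hy => by
          have hk' := (mem_normalizer_map_iff A (k' : X)).1 (by rw [h]; exact Subgroup.mem_top _)
          rw [← hk']
          exact ⟨y, hy, Subtype.ext rfl⟩
      rcases (normalizer_eq_top_iff.1 hnor).eq_bot_or_eq_top with h0 | h0
      · rw [h0, Subgroup.mem_bot] at hk
        rw [hk]
        exact one_mem _
      · exact absurd h0 hAtop
    · refine key _ (fun s hs => (mem_normalizer_map_iff A s).2 (hA _ ⟨s, hs, rfl⟩)) h ?_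
      exact Subgroup.le_normalizer ⟨k, hk, rfl⟩

include hX hU in
/-- No two invariant proper subgroups above `U` generate, for some admissible `T`. -/
theorem not_two : ∃ T : Subgroup (MulAut ↥N), IsPGroup p T ∧
    (U : Subgroup ↥N).map MulAut.conj ≤ T ∧ ¬ Two T (U : Subgroup ↥N) ∧
    (N = ⊤ → T ≤ (MulAut.conj (G := ↥N)).range) ∧
    (Small T (U : Subgroup ↥N) →
      IsCoatom (normalizer (((U : Subgroup ↥N).map N.subtype : Subgroup X) : Set X))) := by
  obtain ⟨S, M, hM, hS, hNUM, -, hne, hinv, habove⟩ := exists_setup hX U hU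
  refine ⟨(S : Subgroup X).map (MulAut.conjNormal (H := N)), S.2.map _, ?_, ?_, ?_, ?_⟩
  · rintro _ ⟨u, hu, rfl⟩
    exact ⟨(u : X), hS ⟨u, hu, rfl⟩, MulEquiv.ext fun y => Subtype.ext rfl⟩
  · rintro ⟨A, B, hA, hB, hUA, hUB, hA1, hB1, hAB⟩
    exact hne (eq_top_iff.2 (hAB ▸ sup_le (habove A hA hUA hA1) (habove B hB hUB hB1)))
  · rintro hN _ ⟨s, -, rfl⟩
    exact ⟨⟨s, hN ▸ Subgroup.mem_top s⟩, MulEquiv.ext fun y => Subtype.ext rfl⟩
  · intro hsmall
    have hle : M ≤ normalizer (((U : Subgroup ↥N).map N.subtype : Subgroup X) : Set X) := by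
      intro m hm
      obtain ⟨a, ha, b, hb, rfl⟩ :=
        Subgroup.mem_sup_of_normal_right.1 ((Sylow.normalizer_sup_eq_top U) ▸ Subgroup.mem_top m)
      have hbM : b ∈ M := by simpa using mul_mem (inv_mem (hNUM ha)) hm
      have hU' : (U : Subgroup ↥N) ≤ M.subgroupOf N := fun u hu =>
        hNUM (Subgroup.le_normalizer ⟨u, hu, rfl⟩)
      have hb' := hsmall _ hinv hU' hne (show (⟨b, hb⟩ : ↥N) ∈ M.subgroupOf N from hbM)
      refine mul_mem ha ((mem_normalizer_map_iff _ b).2 ?_)
      ext y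
      rw [Subgroup.mem_normalizer_iff] at hb'
      constructor
      · rintro ⟨u, hu, rfl⟩
        have h2 := (hb' u).1 hu
        convert h2 using 1
        exact Subtype.ext rfl
      · intro hy
        refine ⟨(⟨b, hb⟩ : ↥N)⁻¹ * y * ⟨b, hb⟩, (hb' _).2 (by simpa [mul_assoc] using hy),
          Subtype.ext ?_⟩
        simp [mul_assoc]
    exact le_antisymm hle hNUM ▸ hM

/-! ### Properties of the simple group -/

/-- For every admissible `T` there are two invariant proper subgroups which generate. -/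
def AlwaysTwo (p : ℕ) (L : Type*) [Group L] : Prop :=
  ∀ (U : Sylow p L) (T : Subgroup (MulAut L)), IsPGroup p T →
    (U : Subgroup L).map MulAut.conj ≤ T → Two T (U : Subgroup L)

/-- For every admissible `T` either two such subgroups exist, or all are small; the first happens
if `T` is inner. -/
def TwoOrSmall (p : ℕ) (L : Type*) [Group L] : Prop :=
  ∀ (U : Sylow p L) (T : Subgroup (MulAut L)), IsPGroup p T →
    (U : Subgroup L).map MulAut.conj ≤ T →
      (Two T (U : Subgroup L) ∨ Small T (U : Subgroup L)) ∧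
        (T ≤ (MulAut.conj (G := L)).range → Two T (U : Subgroup L))

/-- Only the normaliser lies properly between `U` and the whole group. -/
def AlwaysSmall (p : ℕ) (L : Type*) [Group L] : Prop :=
  ∀ (U : Sylow p L) (A : Subgroup L), (U : Subgroup L) ≤ A → A ≠ ⊤ →
    A ≤ normalizer ((U : Subgroup L) : Set L)

section Transport

variable {L L' : Type*} [Group L] [Group L'] (e : L ≃* L')

theorem congr_conj (x : L) : MulAut.congr e (MulAut.conj x) = MulAut.conj (e x) :=
  MulEquiv.ext fun y => by simp [MulAut.congr]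

theorem range_conj_congr {T : Subgroup (MulAut L)} (h : T ≤ (MulAut.conj (G := L)).range) :
    T.map (MulAut.congr e).toMonoidHom ≤ (MulAut.conj (G := L')).range := by
  rintro _ ⟨t, ht, rfl⟩
  obtain ⟨x, rfl⟩ := h ht
  exact ⟨e x, (congr_conj e x).symm⟩

variable {T : Subgroup (MulAut L)} {U : Subgroup L}

theorem inv_comap {A : Subgroup L'} (h : Inv (T.map (MulAut.congr e).toMonoidHom) A) :
    Inv T (A.map e.symm.toMonoidHom) := by
  intro t ht
  conv_rhs => rw [← h _ ⟨t, ht, rfl⟩]
  rw [Subgroup.map_map, Subgroup.map_map]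
  congr 1
  ext y
  simp [MulAut.congr]

theorem inv_map {A : Subgroup L} (h : Inv T A) :
    Inv (T.map (MulAut.congr e).toMonoidHom) (A.map e.toMonoidHom) := by
  rintro _ ⟨t, ht, rfl⟩
  conv_rhs => rw [← h t ht]
  rw [Subgroup.map_map, Subgroup.map_map]
  congr 1
  ext y
  simp [MulAut.congr]

theorem map_eq_top_iff_aux {A : Subgroup L} : A.map e.toMonoidHom = ⊤ ↔ A = ⊤ := by
  constructor
  · intro h
    exact Subgroup.map_injective e.injective
      (by rw [h, Subgroup.map_top_of_surjective _ e.surjective])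
  · rintro rfl
    exact Subgroup.map_top_of_surjective _ e.surjective

theorem two_congr (h : Two (T.map (MulAut.congr e).toMonoidHom) (U.map e.toMonoidHom)) : Two T U := by
  obtain ⟨A, B, hA, hB, hUA, hUB, hA1, hB1, hAB⟩ := h
  have hU : ∀ {A : Subgroup L'}, U.map e.toMonoidHom ≤ A → U ≤ A.map e.symm.toMonoidHom :=
    fun h u hu => ⟨e u, h ⟨u, hu, rfl⟩, e.symm_apply_apply u⟩
  refine ⟨_, _, inv_comap e hA, inv_comap e hB, hU hUA, hU hUB,
    fun h => hA1 ((map_eq_top_iff_aux e.symm).1 h), fun h => hB1 ((map_eq_top_iff_aux e.symm).1 h), ?_⟩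
  rw [← Subgroup.map_sup, hAB, Subgroup.map_top_of_surjective _ e.symm.surjective]

theorem small_congr (h : Small (T.map (MulAut.congr e).toMonoidHom) (U.map e.toMonoidHom)) :
    Small T U := by
  intro A hA hUA hA1 a ha
  have h2 := h _ (inv_map e hA) (Subgroup.map_mono hUA)
    (fun h' => hA1 ((map_eq_top_iff_aux e).1 h')) ⟨a, ha, rfl⟩
  rw [Subgroup.mem_normalizer_iff] at h2 ⊢
  intro y
  have h3 := h2 (e y)
  simp only [MulEquiv.coe_toMonoidHom, ← map_inv, ← map_mul] at h3
  have hiff : ∀ z, e z ∈ U.map e.toMonoidHom ↔ z ∈ U :=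
    fun z => ⟨fun ⟨w, hw, ew⟩ => e.injective ew ▸ hw, fun hz => ⟨z, hz, rfl⟩⟩
  rwa [hiff, hiff] at h3

theorem admissible_congr [Finite L] (U : Sylow p L) {T : Subgroup (MulAut L)}
    (hT : IsPGroup p T) (hUT : (U : Subgroup L).map MulAut.conj ≤ T) :
    ∃ U' : Sylow p L', (U' : Subgroup L') = (U : Subgroup L).map e.toMonoidHom ∧
      IsPGroup p (T.map (MulAut.congr e).toMonoidHom) ∧
      (U' : Subgroup L').map MulAut.conj ≤ T.map (MulAut.congr e).toMonoidHom := by
  refine ⟨U.mapSurjective (f := e.toMonoidHom) e.surjective, rfl, hT.map _, ?_⟩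
  rintro _ ⟨_, ⟨u, hu, rfl⟩, rfl⟩
  exact ⟨MulAut.conj u, hUT ⟨u, hu, rfl⟩, congr_conj e u⟩

variable [Finite L]

include e in
theorem AlwaysTwo.congr (h : AlwaysTwo p L') : AlwaysTwo p L := fun U T hT hUT => by
  obtain ⟨U', hU', hT', hUT'⟩ := admissible_congr e U hT hUT
  exact two_congr e (hU' ▸ h U' _ hT' hUT')

include e in
theorem TwoOrSmall.congr (h : TwoOrSmall p L') : TwoOrSmall p L := fun U T hT hUT => by
  obtain ⟨U', hU', hT', hUT'⟩ := admissible_congr e U hT hUT
  obtain ⟨h1, h2⟩ := h U' _ hT' hUT'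
  refine ⟨h1.imp (fun h => two_congr e (hU' ▸ h)) (fun h => small_congr e (hU' ▸ h)), fun hr => ?_⟩
  exact two_congr e (hU' ▸ h2 (range_conj_congr e hr))

include e in
theorem AlwaysSmall.congr (h : AlwaysSmall p L') : AlwaysSmall p L := fun U A hUA hA => by
  have hU' : ((U.mapSurjective (f := e.toMonoidHom) e.surjective : Sylow p L') : Subgroup L') =
      (U : Subgroup L).map e.toMonoidHom := rfl
  have hinv : ∀ B : Subgroup L, Inv (⊥ : Subgroup (MulAut L)) B := fun B t ht => by
    rw [Subgroup.mem_bot.1 ht, map_one_aut]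
  exact small_congr e (T := ⊥) (U := (U : Subgroup L))
    (fun B _ hB hB1 => hU' ▸ h _ B (hU' ▸ hB) hB1) A (hinv A) hUA hA

end Transport

section Finish

variable {q : Prop}

include hX hU in
theorem coatom_of_alwaysSmall (h : AlwaysSmall p ↥N) :
    IsCoatom (normalizer (((U : Subgroup ↥N).map N.subtype : Subgroup X) : Set X)) := by
  obtain ⟨T, -, -, -, -, hc⟩ := not_two hX U hU
  exact hc fun A _ hUA hA => h U A hUA hA

include hX hU in
theorem false_of_alwaysTwo (h : AlwaysTwo p ↥N) : q := by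
  obtain ⟨T, hT, hUT, h2, -, -⟩ := not_two hX U hU
  exact absurd (h U T hT hUT) h2

include hX hU in
theorem coatom_of_twoOrSmall (h : TwoOrSmall p ↥N) :
    IsCoatom (normalizer (((U : Subgroup ↥N).map N.subtype : Subgroup X) : Set X)) ∧ N ≠ ⊤ := by
  obtain ⟨T, hT, hUT, h2, hin, hc⟩ := not_two hX U hU
  obtain ⟨h1, h1'⟩ := h U T hT hUT
  exact ⟨hc (h1.resolve_left h2), fun hN => h2 (h1' (hin hN))⟩

end Finish

end CfsgLib.PMinSocle
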