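import Cfsg.Agent.PMinSocle.CharPair

/-!
# The first two terms of the central series of a Sylow subgroup

`Z(V) = ⟨z⟩` and `Z₂(V) = ⟨z, w⟩`: every automorphism fixing `V` fixes `C(z)` and `N(⟨z, w⟩)`.
-/

set_option autoImplicit false
set_option linter.style.haveILetI false

namespace CfsgLib.PMinSocle

variable {p : ℕ} [Fact p.Prime] {L : Type*} [Group L] [Finite L] [IsSimpleGroup L]

/-- The criterion. -/
theorem alwaysTwo_of_centres (V : Sylow p L) {z w a b : L}
    (hzV : z ∈ (V : Subgroup L)) (hwV : w ∈ (V : Subgroup L)) (hz1 : z ≠ 1) (hz2 : z * z = 1)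
    (hzc : ∀ g ∈ (V : Subgroup L), z * g = g * z)
    (hwc : ∀ g ∈ (V : Subgroup L), w * g = g * w ∨ w * g = g * (w * z))
    (hzuniq : ∀ x ∈ (V : Subgroup L), (∀ g ∈ (V : Subgroup L), x * g = g * x) → x = 1 ∨ x = z)
    (hwuniq : ∀ x ∈ (V : Subgroup L),
      (∀ g ∈ (V : Subgroup L), x * g = g * x ∨ x * g = g * (x * z)) →
        x = 1 ∨ x = z ∨ x = w ∨ x = w * z)
    (haz : a * z = w * a) (haw : a * w = z * a) (hbz : b * z = z * b)
    (hne : a * z ≠ z * a)
    (hbw : b * w * b⁻¹ ≠ 1 ∧ b * w * b⁻¹ ≠ z ∧ b * w * b⁻¹ ≠ w ∧ b * w * b⁻¹ ≠ w * z)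
    (hgen : (V : Subgroup L) ⊔ Subgroup.closure {a, b} = ⊤) : AlwaysTwo p L := by
  set W := Subgroup.closure ({z, w} : Set L) with hW
  have hzW : z ∈ W := Subgroup.subset_closure (Or.inl rfl)
  have hwW : w ∈ W := Subgroup.subset_closure (Or.inr rfl)
  have hWV : W ≤ (V : Subgroup L) := (Subgroup.closure_le _).2 (by
    rintro _ (rfl | rfl)
    exacts [hzV, hwV])
  have hclosed : ∀ x ∈ W, x = 1 ∨ x = z ∨ x = w ∨ x = w * z := by
    intro x hx
    refine hwuniq x (hWV hx) fun g hg => ?_
    refine Subgroup.closure_induction (p := fun x _ => x * g = g * x ∨ x * g = g * (x * z))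
      ?_ ?_ ?_ ?_ hx
    · rintro _ (rfl | rfl)
      · exact Or.inl (hzc g hg)
      · exact hwc g hg
    · exact Or.inl (by simp)
    · intro c d _ hd hc' hd'
      have hzd : z * d = d * z := hzc d (hWV hd)
      rcases hc' with hc' | hc' <;> rcases hd' with hd' | hd'
      · left; rw [mul_assoc, hd', ← mul_assoc, hc', mul_assoc]
      · right; rw [mul_assoc, hd', ← mul_assoc, hc', mul_assoc, mul_assoc c]
      · right; rw [mul_assoc, hd', ← mul_assoc, hc', mul_assoc, mul_assoc c, hzd, ← mul_assoc c]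
      · left
        rw [mul_assoc, hd', ← mul_assoc, hc', mul_assoc, mul_assoc c, ← mul_assoc z, hzd,
          mul_assoc d, hz2, mul_one]
    · intro c hc h
      have hzc' : z * c = c * z := hzc c (hWV hc)
      rcases h with h | h
      · left
        calc c⁻¹ * g = c⁻¹ * (g * c) * c⁻¹ := by group
          _ = g * c⁻¹ := by rw [← h]; group
      · right
        have hz' : z⁻¹ = z := inv_eq_of_mul_eq_one_right hz2
        calc c⁻¹ * g = c⁻¹ * (g * (c * z)) * (z⁻¹ * c⁻¹) := by group
          _ = g * (z⁻¹ * c⁻¹) := by rw [← h]; group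
          _ = g * (c⁻¹ * z) := by
            rw [hz', show z * c⁻¹ = c⁻¹ * z from Commute.inv_right hzc']
  have hnorm : ∀ g : L, g * z * g⁻¹ ∈ W → g * w * g⁻¹ ∈ W →
      g ∈ Subgroup.normalizer (W : Set L) := fun g h1 h2 => by
    have hle : W ≤ W.comap (MulAut.conj g).toMonoidHom := (Subgroup.closure_le _).2 (by
      rintro _ (rfl | rfl)
      exacts [h1, h2])
    exact Subgroup.mem_normalizer_fintype fun x hx => hle hx
  have hαz : ∀ α : MulAut L, (V : Subgroup L).map (α : L ≃* L).toMonoidHom = V → α z = z := by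
    intro α hα
    refine (hzuniq (α z) (hα.le ⟨z, hzV, rfl⟩) fun g hg => ?_).resolve_left
      fun h => hz1 (α.injective (h.trans (map_one α).symm))
    obtain ⟨h, hh, rfl⟩ := hα.ge hg
    show α z * α h = α h * α z
    rw [← map_mul, hzc h hh, map_mul]
  have hVA : (V : Subgroup L) ≤ Subgroup.centralizer ({z} : Set L) := fun g hg =>
    Subgroup.mem_centralizer_singleton_iff.2 (hzc g hg).symm
  have hVB : (V : Subgroup L) ≤ Subgroup.normalizer (W : Set L) := fun g hg => by
    refine hnorm g ?_ ?_
    · rw [← hzc g hg, mul_inv_cancel_right]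
      exact hzW
    · rcases hwc g hg with h | h
      · rw [← h, mul_inv_cancel_right]
        exact hwW
      · have h' : g * w * g⁻¹ = w * z := by
          rw [mul_inv_eq_iff_eq_mul, mul_assoc w, hzc g hg, ← mul_assoc w, h, mul_assoc, mul_assoc,
            hz2, mul_one]
        rw [h']
        exact mul_mem hwW hzW
  refine alwaysTwo_of_fixed_pair V (fun α hα => map_centralizer_singleton (hαz α hα)) ?_ hVA hVB
    (fun h => ?_) (fun h => ?_) ?_
  · intro α hα
    have hmap : W.map (α : L ≃* L).toMonoidHom = W := by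
      refine Subgroup.eq_of_le_of_card_ge ?_
        (le_of_eq (Subgroup.card_map_of_injective α.injective).symm)
      rw [Subgroup.map_le_iff_le_comap, hW, Subgroup.closure_le]
      rintro x (hx | hx)
      · show α x ∈ W
        rw [show x = z from hx, hαz α hα]
        exact hzW
      · show α x ∈ W
        rw [show x = w from hx]
        have hd : α w = 1 ∨ α w = z ∨ α w = w ∨ α w = w * z := by
          refine hwuniq _ (hα.le ⟨w, hwV, rfl⟩) fun g hg => ?_
          obtain ⟨h, hh, rfl⟩ := hα.ge hg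
          refine (hwc h hh).imp (fun e => ?_) fun e => ?_
          · show α w * α h = α h * α w
            rw [← map_mul, e, map_mul]
          · show α w * α h = α h * (α w * z)
            rw [← hαz α hα, ← map_mul, e, map_mul, map_mul]
        rcases hd with e | e | e | e <;> rw [e]
        exacts [one_mem _, hzW, hwW, mul_mem hwW hzW]
    rw [Subgroup.map_equiv_normalizer_eq, hmap]
  · exact hne (Subgroup.mem_centralizer_singleton_iff.1 (h ▸ Subgroup.mem_top a))
  · have h1 : b ∈ Subgroup.normalizer (W : Set L) := h ▸ Subgroup.mem_top b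
    rcases hclosed _ ((Subgroup.mem_normalizer_iff.1 h1 w).1 hwW) with e | e | e | e
    exacts [hbw.1 e, hbw.2.1 e, hbw.2.2.1 e, hbw.2.2.2 e]
  · refine top_le_iff.1 (hgen ▸ sup_le (hVA.trans le_sup_left) ((Subgroup.closure_le _).2 ?_))
    rintro _ (rfl | rfl)
    · refine Subgroup.mem_sup_right (hnorm _ ?_ ?_)
      · rw [haz, mul_inv_cancel_right]; exact hwW
      · rw [haw, mul_inv_cancel_right]; exact hzW
    · exact Subgroup.mem_sup_left (Subgroup.mem_centralizer_singleton_iff.2 hbz)

/-- Generation of a derived group through one outer element. -/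
theorem commutator_le_of_outer {G : Type*} [Group G] {M : Subgroup G} {c : G}
    (hconj : c ∈ Subgroup.normalizer (M : Set G)) (htop : M ⊔ Subgroup.zpowers c = ⊤) :
    commutator G ≤ M := by
  haveI : M.Normal := Subgroup.normalizer_eq_top_iff.1 (eq_top_iff.2 (htop ▸
    sup_le Subgroup.le_normalizer ((Subgroup.zpowers_le).2 hconj)))
  exact Subgroup.Normal.commutator_le_of_self_sup_commutative_eq_top htop inferInstance

end CfsgLib.PMinSocle
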