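import Cfsg.Agent.PMinSocle.OneSylow

/-!
# Two subgroups kept by every automorphism fixing the Sylow subgroup
-/

set_option autoImplicit false

namespace CfsgLib.PMinSocle

variable {p : ℕ} [Fact p.Prime] {L : Type*} [Group L] [Finite L] [IsSimpleGroup L]

/-- If every automorphism fixing `V` fixes two proper subgroups above `V` which generate. -/
theorem alwaysTwo_of_fixed_pair (V : Sylow p L) {A B : Subgroup L}
    (hA : ∀ α : MulAut L, (V : Subgroup L).map (α : L ≃* L).toMonoidHom = V →
      A.map (α : L ≃* L).toMonoidHom = A)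
    (hB : ∀ α : MulAut L, (V : Subgroup L).map (α : L ≃* L).toMonoidHom = V →
      B.map (α : L ≃* L).toMonoidHom = B)
    (hVA : (V : Subgroup L) ≤ A) (hVB : (V : Subgroup L) ≤ B) (hA1 : A ≠ ⊤) (hB1 : B ≠ ⊤)
    (hAB : A ⊔ B = ⊤) : AlwaysTwo p L :=
  alwaysTwo_of_one V fun _ hT hUT =>
    ⟨A, B, fun _ ht => hA _ (map_sylow_eq V hT hUT ht), fun _ ht => hB _ (map_sylow_eq V hT hUT ht),
      hVA, hVB, hA1, hB1, hAB⟩

omit [Finite L] [IsSimpleGroup L] in
/-- The centraliser of an element fixed by `α` is fixed. -/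
theorem map_centralizer_singleton {α : MulAut L} {z : L} (hz : α z = z) :
    (Subgroup.centralizer ({z} : Set L)).map (α : L ≃* L).toMonoidHom =
      Subgroup.centralizer ({z} : Set L) := by
  ext x
  simp only [Subgroup.mem_map, Subgroup.mem_centralizer_singleton_iff]
  constructor
  · rintro ⟨y, hy, rfl⟩
    have h := congrArg α hy
    simpa [hz] using h
  · intro hx
    refine ⟨α.symm x, α.injective ?_, α.apply_symm_apply x⟩
    simpa [hz] using hx

end CfsgLib.PMinSocle
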