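import Cfsg.Agent.PMinSocle.BNCriterion
import Cfsg.Agent.ChevAut.Decomp
import Cfsg.Agent.ChevAut.OutGroup
import Cfsg.Agent.ChevAut.Graphs
import Cfsg.Agent.Chevalley.BNPair

/-!
# Chevalley groups: symmetries of the diagram and invariant parabolics
-/

set_option autoImplicit false
set_option linter.unusedSectionVars false
set_option linter.style.haveILetI false

namespace CfsgLib.PMinSocle

open Cfsg.Lie CfsgLib.Chevalley CfsgLib.ChevAut CfsgLib.BNPairs
open scoped MatrixGroups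

variable {D : ChevalleyDatum} {C : Weyl.Cert D.rank} {M : CoxeterMatrix (Fin D.rank)}
  {R : Weyl.RootTable} {F : Type*} [Field F] [Finite F] {p : ℕ} [Fact p.Prime] [CharP F p]

theorem isSylow_pos (hW : GoodWeyl D) (h : Weyl.RootGood C M R) :
    ∃ U : Sylow p ↥(D.group F),
      (U : Subgroup ↥(D.group F)) = (D.posUnipotent F).subgroupOf (D.group F) := by
  classical
  haveI := Fintype.ofFinite F
  haveI := h.finite_group
  haveI := Fintype.ofFinite M.Group
  obtain ⟨n, hp, hcardF⟩ := FiniteField.card F p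
  rw [← Nat.card_eq_fintype_card] at hcardF
  have hc : Nat.card ((D.posUnipotent F).subgroupOf (D.group F)) = Nat.card F ^ half D := by
    rw [Nat.card_congr (Subgroup.subgroupOfEquivOfLe (ChevAut.pos_le_group hW)).toEquiv,
      posUnipotent_eq hW.good]
    exact natCard_uGe hW.toGoodUni
  have hd : p ∣ Nat.card F := hcardF ▸ dvd_pow_self p n.2.ne'
  have hq1 : ¬ p ∣ Nat.card F - 1 := by
    intro hd'
    have h2 := Nat.dvd_sub hd hd'
    rw [Nat.sub_sub_self Nat.card_pos] at h2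
    exact hp.not_dvd_one h2
  have hP : IsPGroup p ((D.posUnipotent F).subgroupOf (D.group F)) :=
    IsPGroup.of_card (n := (n : ℕ) * half D) (by rw [hc, hcardF, ← pow_mul])
  have hindex : ¬ p ∣ ((D.posUnipotent F).subgroupOf (D.group F)).index := by
    intro hdi
    have hm := ((D.posUnipotent F).subgroupOf (D.group F)).card_mul_index
    rw [hc, natCard_group (F := F) hW h, mul_assoc (Nat.card F ^ half D)] at hm
    rw [Nat.eq_of_mul_eq_mul_left (pow_pos Nat.card_pos _) hm] at hdi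
    rcases (hp.dvd_mul).1 hdi with h1 | h1
    · rw [diagonalSubgroup_eq_range hW] at h1
      have h2 : p ∣ Nat.card (Fin D.rank → Fˣ) := h1.trans (Subgroup.card_range_dvd _)
      rw [Nat.card_fun, Nat.card_units, Nat.card_fin] at h2
      exact hq1 (hp.dvd_of_dvd_pow h2)
    · exact not_dvd_poincare h hp hd h1
  exact ⟨hP.toSylow hindex, rfl⟩

/-- The data of the criteria. -/
theorem exists_setting (hW : GoodWeyl D) (h : Weyl.RootGood C M R) :
    ∃ (P : Cfsg.BNPair ↥(D.group F)) (U : Sylow p ↥(D.group F)),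
      P.B = (D.borelSubgroup F).subgroupOf (D.group F) ∧ P.S = Set.range (nG hW F) ∧
      (U : Subgroup ↥(D.group F)) = (D.posUnipotent F).subgroupOf (D.group F) ∧
      Subgroup.normalizer ((U : Subgroup ↥(D.group F)) : Set ↥(D.group F)) = P.B ∧
      ∀ b ∈ P.B, ∃ u ∈ (U : Subgroup ↥(D.group F)), ∃ k ∈ P.B ⊓ P.N, b = u * k := by
  obtain ⟨P, hB, hN, hS⟩ := exists_bnPair (F := F) hW h
  obtain ⟨U, hU⟩ := isSylow_pos (F := F) (p := p) hW h
  refine ⟨P, U, hB, ?_, hU, ?_, ?_⟩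
  · rw [hS]
    ext n
    exact (eq_nG_iff hW).trans ⟨fun ⟨i, e⟩ => ⟨i, e.symm⟩, fun ⟨i, e⟩ => ⟨i, e.symm⟩⟩
  · refine le_antisymm (fun g hg => ?_) fun g hg => ?_
    · rw [hB]
      refine mem_borel_of_conj_pos hW h g.2 fun x hx => ?_
      have hxU : (⟨x, ChevAut.pos_le_group hW hx⟩ : ↥(D.group F)) ∈ (U : Subgroup ↥(D.group F)) := by
        rw [hU]; exact hx
      have h1 := (Subgroup.mem_normalizer_iff.1 hg _).1 hxU
      rw [hU] at h1
      exact h1
    · rw [hB] at hg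
      refine Subgroup.mem_normalizer_fintype fun x hx => ?_
      simp only [SetLike.mem_coe, hU] at hx ⊢
      exact borel_conj_pos hW hg hx
  · intro b hb
    rw [hB] at hb
    obtain ⟨u, hu, k, hk, e⟩ := (mem_borel_iff hW).1 hb
    refine ⟨⟨u, ChevAut.pos_le_group hW hu⟩, by rw [hU]; exact hu,
      ⟨k, diag_le_group hW hk⟩, ?_, Subtype.ext e.symm⟩
    rw [hB, hN]
    have hk' : k ∈ D.borelSubgroup F ⊓ D.monomialSubgroup F := by
      rw [borel_inf_monomial (F := F) hW h]; exact hk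
    exact ⟨hk'.1, hk'.2⟩

variable {P : Cfsg.BNPair ↥(D.group F)} (hW : GoodWeyl D) (h : Weyl.RootGood C M R)
  (hB : P.B = (D.borelSubgroup F).subgroupOf (D.group F)) (hS : P.S = Set.range (nG hW F))

include hB in
theorem sX_true_mem_parabolic (i : Fin D.rank) (s : F) :
    (⟨sX hW true i s, sX_mem hW true i s⟩ : ↥(D.group F)) ∈ P.parabolic {nG hW F i} := by
  by_cases hs : s = 0
  · subst hs
    have : (⟨sX hW true i (0 : F), sX_mem hW true i 0⟩ : ↥(D.group F)) = 1 :=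
      Subtype.ext (X_zero hW.good _)
    rw [this]; exact one_mem _
  have hbor : ∀ (g : ↥(D.group F)), (g : GL D.Idx F) ∈ D.borelSubgroup F →
      g ∈ P.parabolic {nG hW F i} := fun g hg => B_le_parabolic _ (hB ▸ hg)
  have hxb : ∀ u : F, X hW.good (pRoot hW i) u ∈ D.borelSubgroup F := X_pRoot_mem_borel hW i
  have hgrp : ∀ u : F, X hW.good (pRoot hW i) u ∈ D.group F := fun u => X_mem_group _ _ _
  set k : Fˣ := (Units.mk0 s hs)⁻¹
  have hh : hT F (pRoot hW i) (-k) ∈ D.borelSubgroup F :=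
    diag_le_borel D (hT_mem_diagonal hW _ _)
  have e : (⟨sX hW true i s, sX_mem hW true i s⟩ : ↥(D.group F)) =
      ⟨_, hgrp (k : F)⟩ * (⟨_, borel_le_group hW hh⟩ * nG hW F i) * ⟨_, hgrp (k : F)⟩ :=
    Subtype.ext (X_rev_eq hW i (Units.mk0 s hs))
  rw [e]
  exact mul_mem (mul_mem (hbor _ (hxb _)) (mul_mem (hbor _ hh) (mem_parabolic_of_mem rfl)))
    (hbor _ (hxb _))

include hB hS h in
/-- An automorphism fixing `U` moves the minimal parabolics by a symmetry of the diagram, and this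
is the node permutation of its part preserving both unipotent groups. -/
theorem exists_nodePerm (hD : D ∈ [chevG2, chevB2, chevD4, chevF4, chevE6, chevE7, chevE8])
    {U : Sylow p ↥(D.group F)} (hU : (U : Subgroup ↥(D.group F)) =
      (D.posUnipotent F).subgroupOf (D.group F))
    (hUB : Subgroup.normalizer ((U : Subgroup ↥(D.group F)) : Set ↥(D.group F)) = P.B)
    {t : MulAut ↥(D.group F)}
    (ht : (U : Subgroup ↥(D.group F)).map (t : _ ≃* _).toMonoidHom = U) :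
    ∃ (π : Equiv.Perm (Fin D.rank)) (φ : ↥(stab D F)), psi hW h φ = π ∧
      nodeList π ∈ symList D ∧
      ∀ i, (P.parabolic {nG hW F i}).map (t : _ ≃* _).toMonoidHom = P.parabolic {nG hW F (π i)} := by
  obtain ⟨x, φ, hφ, rfl⟩ := exists_conj_mul_stab hW h t
  obtain ⟨π, hN⟩ := exists_nodeMap hW h hφ
  obtain ⟨χ, hχ, θ', σ, -, hT'⟩ :=
    exists_charAut_mul_twist hW (ChevTorus.chainOK_of_mem hD) (chkCoef_of_mem hD) hN
  refine ⟨π, ⟨φ, hφ⟩, psi_eq hW h fun i => hN false i 1,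
    nodeList_mem_symList (hT'.isDiagramSymmetry h (chkBonds_of_mem hD)), fun i => ?_⟩
  have hxB : (x : GL D.Idx F) ∈ D.borelSubgroup F := by
    refine mem_borel_of_conj_pos hW h x.2 fun u hu => ?_
    have hu0 : app φ⁻¹ u ∈ D.posUnipotent F := ((inv_mem hφ).1 u).2 hu
    have hm : (⟨_, app_mem φ⁻¹ (ChevAut.pos_le_group hW hu)⟩ : ↥(D.group F)) ∈
        (U : Subgroup ↥(D.group F)) := by rw [hU]; exact hu0
    have h1 : (MulAut.conj x * φ) (⟨_, app_mem φ⁻¹ (ChevAut.pos_le_group hW hu)⟩ : ↥(D.group F)) ∈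
        (U : Subgroup ↥(D.group F)) := ht.le ⟨_, hm, rfl⟩
    rw [hU] at h1
    have e : (φ (⟨_, app_mem φ⁻¹ (ChevAut.pos_le_group hW hu)⟩ : ↥(D.group F)) : GL D.Idx F) = u := by
      rw [← app_coe]; exact app_app_inv φ u
    have h2 : (x : GL D.Idx F) * (φ (⟨_, app_mem φ⁻¹ (ChevAut.pos_le_group hW hu)⟩ :
        ↥(D.group F)) : GL D.Idx F) * (x : GL D.Idx F)⁻¹ ∈ D.posUnipotent F := h1
    rwa [e] at h2
  obtain ⟨y, hy, e⟩ := exists_node U hUB ht (s := nG hW F i) (hS ▸ ⟨i, rfl⟩)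
  obtain ⟨j, rfl⟩ : y ∈ Set.range (nG hW F) := hS ▸ hy
  suffices hj : j = π i by rw [e, hj]
  set g : ↥(D.group F) := ⟨sX hW true i 1, sX_mem hW true i 1⟩
  obtain ⟨s, hs⟩ := hN true i 1
  set g' : ↥(D.group F) := ⟨sX hW true (π i) s, sX_mem hW true (π i) s⟩
  have hgg : φ g = g' := Subtype.ext (by rw [← app_coe]; exact hs)
  have hxP : x ∈ P.parabolic {nG hW F j} := B_le_parabolic _ (hB ▸ hxB)
  have hg'P : g' ∈ P.parabolic {nG hW F j} := by
    have h1 : MulAut.conj x (φ g) ∈ P.parabolic {nG hW F j} :=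
      e ▸ ⟨g, sX_true_mem_parabolic hW hB i 1, rfl⟩
    rw [hgg, MulAut.conj_apply] at h1
    simpa [mul_assoc] using mul_mem (mul_mem (inv_mem hxP) h1) hxP
  have hg'B : g' ∉ P.B := fun hin => by
    rw [hB] at hin
    have h1 : sX hW true (π i) s ∈ D.borelSubgroup F ⊓ D.negUnipotent F :=
      ⟨hin, sX_true_mem_neg hW _ _⟩
    rw [borel_inf_neg hW, Subgroup.mem_bot] at h1
    exact app_sX_ne_one hW φ true i (hs.trans h1)
  by_contra hne
  have hne' : nG hW F j ≠ nG hW F (π i) := by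
    intro he
    have hp := congrArg (fun n : ↥(D.group F) => (n : GL D.Idx F)) he
    have h1 := (monBy_nR (F := F) hW j).unique (by
      rw [show (nR hW j : GL D.Idx F) = nR hW (π i) from hp]; exact monBy_nR hW (π i))
    exact hne (wPerm_injective hW h1)
  refine hg'B ?_
  have hM : P.B ≤ P.parabolic {nG hW F j} ⊓ P.parabolic {nG hW F (π i)} :=
    le_inf (B_le_parabolic _) (B_le_parabolic _)
  have hin : g' ∈ P.parabolic {nG hW F j} ⊓ P.parabolic {nG hW F (π i)} :=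
    ⟨hg'P, sX_true_mem_parabolic hW hB (π i) s⟩
  have hempty : P.S ∩ ((P.parabolic {nG hW F j} ⊓ P.parabolic {nG hW F (π i)} :
      Subgroup ↥(D.group F)) : Set ↥(D.group F)) = ∅ := by
    refine Set.eq_empty_of_forall_notMem fun z hz => hne' ?_
    have h1 : z ∈ P.S ∩ (P.parabolic {nG hW F j} : Set ↥(D.group F)) := ⟨hz.1, hz.2.1⟩
    have h2 : z ∈ P.S ∩ (P.parabolic {nG hW F (π i)} : Set ↥(D.group F)) := ⟨hz.1, hz.2.2⟩
    rw [S_inter_parabolic (Set.singleton_subset_iff.2 (hS ▸ ⟨j, rfl⟩))] at h1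
    rw [S_inter_parabolic (Set.singleton_subset_iff.2 (hS ▸ ⟨π i, rfl⟩))] at h2
    exact (Set.mem_singleton_iff.1 h1).symm.trans h2
  rw [eq_parabolic hM, hempty, Cfsg.BNPair.parabolic, Subgroup.closure_empty, sup_bot_eq] at hin
  exact hin

omit hB hS in
theorem nG_injective : Function.Injective (nG hW F) := fun i j he => by
  have h1 := (monBy_nR (F := F) hW i).unique (by
    rw [show (nR hW i : GL D.Idx F) = nR hW j from congrArg Subtype.val he]; exact monBy_nR hW j)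
  exact wPerm_injective hW h1

omit hW h hB hS in
/-- A set of nodes kept by every symmetry of the diagram. -/
theorem alwaysTwo_chev (hD : D ∈ [chevG2, chevB2, chevD4, chevF4, chevE6, chevE7, chevE8])
    (J : List ℕ) (i₀ i₁ : ℕ) (h₀ : i₀ < D.rank) (h₁ : i₁ < D.rank) (hJ₀ : i₀ ∈ J) (hJ₁ : i₁ ∉ J)
    (hchk : ((symList D).all fun L => J.all fun i => J.contains (L.getD i 0)) = true)
    [IsSimpleGroup ↥(D.group F)] : AlwaysTwo p ↥(D.group F) := by
  have hW := goodWeyl_of_mem hD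
  obtain ⟨C, M, R, h⟩ := exists_rootGood_of_mem hD
  obtain ⟨P, U, hB, hS, hU, hUB, -⟩ := exists_setting (F := F) (p := p) hW h
  haveI : Finite ↥(D.group F) := inferInstance
  refine alwaysTwo_of_one U fun T hT hUT => ?_
  refine two_of_nodes U hUB hT hUT (J := nG hW F '' {i | (i : ℕ) ∈ J}) ?_ (s₀ := nG hW F ⟨i₀, h₀⟩)
    ⟨_, hJ₀, rfl⟩ (s₁ := nG hW F ⟨i₁, h₁⟩) (hS ▸ ⟨_, rfl⟩) ?_ ?_
  · rw [hS]; exact Set.image_subset_range _ _
  · rintro ⟨i, hi, e⟩
    rw [nG_injective hW e] at hi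
    exact hJ₁ hi
  rintro t ht _ ⟨i, hi, rfl⟩ x hx e
  obtain ⟨π, φ, -, hπ, hmap⟩ := exists_nodePerm hW h hB hS hD hU hUB (map_sylow_eq U hT hUT ht)
  refine ⟨π i, ?_, node_eq (hS ▸ ⟨π i, rfl⟩) hx ((hmap i).symm.trans e)⟩
  simp only [List.all_eq_true, List.contains_iff_mem] at hchk
  have := hchk _ hπ i hi
  rwa [nodeList_getD] at this

omit hW h hB hS in
/-- Only the trivial symmetry is realised. -/
theorem alwaysTwo_chev_rigid (hD : D ∈ [chevG2, chevB2, chevD4, chevF4, chevE6, chevE7, chevE8])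
    (hrank : 2 ≤ D.rank) {c : ℕ} (hc : c = 2 ∨ c = 3) (hchk : chkForce D c = true)
    (hchar : ringChar F ≠ c) (h2 : c = 3 → ¬ ∀ x : F, x = 0 ∨ x = 1)
    [IsSimpleGroup ↥(D.group F)] : AlwaysTwo p ↥(D.group F) := by
  have hW := goodWeyl_of_mem hD
  obtain ⟨C, M, R, h⟩ := exists_rootGood_of_mem hD
  obtain ⟨P, U, hB, hS, hU, hUB, -⟩ := exists_setting (F := F) (p := p) hW h
  haveI : Finite ↥(D.group F) := inferInstance
  refine alwaysTwo_of_one U fun T hT hUT => ?_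
  let i₀ : Fin D.rank := ⟨0, by omega⟩
  refine two_of_nodes U hUB hT hUT (J := {nG hW F i₀}) ?_ (s₀ := nG hW F i₀) rfl
    (s₁ := nG hW F ⟨1, by omega⟩) (by rw [hS]; exact ⟨_, rfl⟩) ?_ ?_
  · rw [hS]; exact Set.singleton_subset_iff.2 ⟨_, rfl⟩
  · intro e
    have := congrArg Fin.val (nG_injective hW e)
    simp [i₀] at this
  rintro t ht s hs x hx e
  rw [Set.mem_singleton_iff] at hs
  subst hs
  obtain ⟨π, φ, hψ, -, hmap⟩ := exists_nodePerm hW h hB hS hD hU hUB (map_sylow_eq U hT hUT ht)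
  rw [psi_eq_one hW h hD hc hchk hchar h2 φ] at hψ
  subst hψ
  exact (node_eq (hS ▸ ⟨i₀, rfl⟩) hx ((hmap i₀).symm.trans e)).symm

omit hW h hB hS in
/-- Rank two. -/
theorem exists_pair (hD : D ∈ [chevG2, chevB2, chevD4, chevF4, chevE6, chevE7, chevE8])
    (hrank : D.rank = 2) :
    ∃ (P : Cfsg.BNPair ↥(D.group F)) (U : Sylow p ↥(D.group F)) (a b : ↥(D.group F)),
      P.S = {a, b} ∧ a ≠ b ∧
      Subgroup.normalizer ((U : Subgroup ↥(D.group F)) : Set ↥(D.group F)) = P.B ∧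
      ∀ x ∈ P.B, ∃ u ∈ (U : Subgroup ↥(D.group F)), ∃ k ∈ P.B ⊓ P.N, x = u * k := by
  have hW := goodWeyl_of_mem hD
  obtain ⟨C, M, R, h⟩ := exists_rootGood_of_mem hD
  obtain ⟨P, U, -, hS, -, hUB, hsplit⟩ := exists_setting (F := F) (p := p) hW h
  refine ⟨P, U, nG hW F ⟨0, by omega⟩, nG hW F ⟨1, by omega⟩, ?_, fun e => ?_, hUB, hsplit⟩
  · rw [hS]
    ext x
    simp only [Set.mem_range, Set.mem_insert_iff, Set.mem_singleton_iff]
    constructor
    · rintro ⟨⟨i, hi⟩, rfl⟩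
      obtain rfl | rfl : i = 0 ∨ i = 1 := by omega
      · exact Or.inl rfl
      · exact Or.inr rfl
    · rintro (rfl | rfl) <;> exact ⟨_, rfl⟩
  · simpa using congrArg Fin.val (nG_injective hW e)

omit hW h hB hS in
/-- Rank two in odd characteristic. -/
theorem alwaysTwo_chev_odd (hD : D ∈ [chevG2, chevB2, chevD4, chevF4, chevE6, chevE7, chevE8])
    (hrank : D.rank = 2) (hp : p ≠ 2) [IsSimpleGroup ↥(D.group F)] :
    AlwaysTwo p ↥(D.group F) := by
  obtain ⟨P, U, a, b, hS, hab, hUB, -⟩ := exists_pair (F := F) (p := p) hD hrank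
  exact alwaysTwo_of_one U fun T hT hUT => two_of_odd U hUB hT hUT hp hS hab

omit hW h hB hS in
/-- Rank two in general. -/
theorem twoOrSmall_chev (hD : D ∈ [chevG2, chevB2, chevD4, chevF4, chevE6, chevE7, chevE8])
    (hrank : D.rank = 2) [IsSimpleGroup ↥(D.group F)] : TwoOrSmall p ↥(D.group F) := by
  obtain ⟨P, U, a, b, hS, hab, hUB, hsplit⟩ := exists_pair (F := F) (p := p) hD hrank
  exact twoOrSmall_of_rank_two U hUB hsplit hS hab

end CfsgLib.PMinSocle
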