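import Cfsg.Agent.PMinSocle.Chev
import Cfsg.Prelude.Def_LieTypeChar

/-!
# The exceptional Chevalley families, `B₂` and `D₄`
-/

set_option autoImplicit false
set_option linter.style.haveILetI false

namespace CfsgLib.PMinSocle

open Cfsg.Lie CfsgLib.ChevAut

variable {p : ℕ} [Fact p.Prime]

theorem isSimpleGroup_congr {G H : Type*} [Group G] [Group H] [IsSimpleGroup G] (e : G ≃* H) :
    IsSimpleGroup H :=
  haveI : Nontrivial H := e.symm.toEquiv.nontrivial
  IsSimpleGroup.isSimpleGroup_of_surjective e.toMonoidHom e.surjective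

/-- `D₄(q)`. -/
theorem alwaysTwo_chevD4 (F : Type*) [Field F] [Finite F] [CharP F p]
    [IsSimpleGroup ↥(chevD4.group F)] : AlwaysTwo p ↥(chevD4.group F) :=
  alwaysTwo_chev (D := chevD4) (by simp) [1] 1 0 (by decide) (by decide) (by decide) (by decide)
    (by decide +kernel)

/-- `B₂(q)`. -/
theorem twoOrSmall_chevB2 (F : Type*) [Field F] [Finite F] [CharP F p]
    [IsSimpleGroup ↥(chevB2.group F)] : TwoOrSmall p ↥(chevB2.group F) :=
  twoOrSmall_chev (D := chevB2) (by simp) rfl

theorem alwaysTwo_chevG2 (F : Type*) [Field F] [Fintype F] [CharP F p] (h3 : 3 ≤ Fintype.card F)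
    [IsSimpleGroup ↥(chevG2.group F)] : AlwaysTwo p ↥(chevG2.group F) := by
  classical
  by_cases hp : p = 2
  · refine alwaysTwo_chev_rigid (D := chevG2) (by simp) (by decide) (c := 3) (Or.inr rfl)
      (by decide +kernel) ?_ fun _ hall => ?_
    · rw [ringChar.eq F p, hp]; decide
    · have hsub : (Finset.univ : Finset F) ⊆ {0, 1} := fun x _ => by simpa using hall x
      have h1 := (Finset.card_le_card hsub).trans Finset.card_le_two
      rw [Finset.card_univ] at h1
      omega
  · exact alwaysTwo_chev_odd (D := chevG2) (by simp) rfl hp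

/-- The five exceptional families. -/
theorem alwaysTwo_exceptional {G : Type*} [Group G] [Finite G] [IsSimpleGroup G]
    (h : Cfsg.IsExceptionalChevChar p G) : AlwaysTwo p G := by
  obtain ⟨F, _, _, _, ⟨h3, ⟨e⟩⟩ | ⟨⟨e⟩⟩ | ⟨⟨e⟩⟩ | ⟨⟨e⟩⟩ | ⟨⟨e⟩⟩⟩ := h <;>
    haveI := isSimpleGroup_congr e
  · exact (alwaysTwo_chevG2 F h3).congr e
  · exact (alwaysTwo_chev (D := chevF4) (by simp) [0, 3] 0 1 (by decide) (by decide) (by decide)
      (by decide) (by decide +kernel)).congr e
  · exact (alwaysTwo_chev (D := chevE6) (by simp) [1] 1 0 (by decide) (by decide) (by decide)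
      (by decide) (by decide +kernel)).congr e
  · exact (alwaysTwo_chev (D := chevE7) (by simp) [0] 0 1 (by decide) (by decide) (by decide)
      (by decide) (by decide +kernel)).congr e
  · exact (alwaysTwo_chev (D := chevE8) (by simp) [0] 0 1 (by decide) (by decide) (by decide)
      (by decide) (by decide +kernel)).congr e

end CfsgLib.PMinSocle
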