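import Cfsg.Agent.PMinSocle.Lift
import Cfsg.Prelude.Def_GeometricClasses
import Mathlib.LinearAlgebra.Span.Basic

/-!
# Two invariant subspace stabilisers for a classical group

`ρ : G → L` with `G` acting linearly on `V`.  If each automorphism of `L` is induced by an
admissible semilinear bijection of `V` and each `p`-group of those fixes two subspaces with
different maximal stabilisers then `AlwaysTwo p L`.
-/

set_option autoImplicit false
set_option linter.style.haveILetI false
set_option linter.unusedSectionVars false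

namespace CfsgLib.PMinSocle

open Subgroup

variable {p : ℕ} [Fact p.Prime]

/-- A maximal subgroup in the sense of `IsMaximalIn` pulls back to a coatom along an embedding. -/
theorem isCoatom_comap {G H : Type*} [Group G] [Group H] {f : G →* H} (hf : Function.Injective f)
    {S : Subgroup H} (h : Cfsg.Geo.IsMaximalIn f.range (S ⊓ f.range)) : IsCoatom (S.comap f) := by
  have hmap : (S.comap f).map f = S ⊓ f.range := by
    rw [Subgroup.map_comap_eq, inf_comm]
  refine ⟨fun htop => h.1.ne ?_, fun A hA => ?_⟩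
  · rw [← hmap, htop, MonoidHom.range_eq_map]
  · rcases h.2 (A.map f) (hmap ▸ Subgroup.map_mono hA.le) (Subgroup.map_le_range f A) with e | e
    · exact absurd (Subgroup.map_injective hf (e.trans hmap.symm)) hA.ne'
    · rw [MonoidHom.range_eq_map] at e
      exact Subgroup.map_injective hf e

/-- The image of a coatom containing the kernel. -/
theorem isCoatom_map {G L : Type*} [Group G] [Group L] {f : G →* L} (hf : Function.Surjective f)
    {A : Subgroup G} (hA : IsCoatom A) (hker : f.ker ≤ A) : IsCoatom (A.map f) := by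
  refine ⟨fun htop => hA.1 ?_, fun B hB => ?_⟩
  · rw [← Subgroup.comap_map_eq_self hker, htop, Subgroup.comap_top]
  · have h : A < B.comap f := by
      refine lt_of_le_of_ne (fun a ha => hB.le ⟨a, ha, rfl⟩) fun e => hB.ne ?_
      rw [e, Subgroup.map_comap_eq_self_of_surjective hf]
    rw [← Subgroup.map_comap_eq_self_of_surjective hf B, hA.2 _ h,
      Subgroup.map_top_of_surjective _ hf]

/-- An invariant coatom of a simple group contains the subgroup whose inner automorphisms lie in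
the group leaving it invariant. -/
theorem le_of_inv {L : Type*} [Group L] [IsSimpleGroup L] {T : Subgroup (MulAut L)}
    {U A : Subgroup L} (hUT : U.map MulAut.conj ≤ T) (hA : Inv T A) (hA1 : IsCoatom A)
    (hA0 : A ≠ ⊥) : U ≤ A := by
  intro u hu
  have hun : u ∈ normalizer (A : Set L) := Subgroup.mem_normalizer_iff.2 fun y => by
    have := hA.mem_iff (hUT ⟨u, hu, rfl⟩) (x := y)
    rw [MulAut.conj_apply] at this
    exact this.symm
  rcases eq_or_ne (normalizer (A : Set L)) ⊤ with h | h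
  · exact ((normalizer_eq_top_iff.1 h).eq_bot_or_eq_top.elim hA0 hA1.1).elim
  · have := hA1.2 (normalizer (A : Set L))
    rcases eq_or_lt_of_le (Subgroup.le_normalizer (H := A)) with e | e
    · rwa [← e] at hun
    · exact absurd (this e) h

/-- Two invariant coatoms. -/
theorem two_of_coatoms {L : Type*} [Group L] [IsSimpleGroup L] {T : Subgroup (MulAut L)}
    {U A B : Subgroup L} (hUT : U.map MulAut.conj ≤ T) (hA : Inv T A) (hB : Inv T B)
    (hA1 : IsCoatom A) (hB1 : IsCoatom B) (hAB : A ≠ B) :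
    Two T U := by
  have hA0 : A ≠ ⊥ := fun h => hB1.1 (hA1.2 B (by
    subst h; exact bot_lt_iff_ne_bot.2 (Ne.symm hAB)))
  have hB0 : B ≠ ⊥ := fun h => hA1.1 (hB1.2 A (by
    subst h; exact bot_lt_iff_ne_bot.2 hAB))
  refine ⟨A, B, hA, hB, le_of_inv hUT hA hA1 hA0, le_of_inv hUT hB hB1 hB0, hA1.1, hB1.1, ?_⟩
  exact hA1.2 _ (lt_of_le_of_ne le_sup_left fun h => by
    have hle : B ≤ A := h ▸ le_sup_right
    rcases eq_or_lt_of_le hle with e | e
    · exact hAB e.symm
    · exact hA1.1 (hB1.2 A e))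

section action

variable {F V : Type*} [Field F] [AddCommGroup V] [Module F V] [Finite V]
  {G : Type*} [Group G] {L : Type*} [Group L] (ρ : G →* L) (act : G → V → V)

/-- `f` induces `t` through `ρ`. -/
def Induces (f : Equiv.Perm V) (t : MulAut L) : Prop :=
  ∀ k : G, ∃ k' : G, ρ k' = t (ρ k) ∧ ∀ v, act k' (f v) = f (act k v)

theorem Induces.mul {f g : Equiv.Perm V} {s t : MulAut L} (hf : Induces ρ act f s)
    (hg : Induces ρ act g t) : Induces ρ act (f * g) (s * t) := fun k => by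
  obtain ⟨k₁, e₁, h₁⟩ := hg k
  obtain ⟨k₂, e₂, h₂⟩ := hf k₁
  refine ⟨k₂, by rw [e₂, e₁]; rfl, fun v => ?_⟩
  rw [Equiv.Perm.mul_apply, Equiv.Perm.mul_apply, h₂, h₁]

theorem Induces.one : Induces ρ act (1 : Equiv.Perm V) (1 : MulAut L) :=
  fun k => ⟨k, rfl, fun _ => rfl⟩

/-- An admissible class of bijections. -/
structure IsClass (Good : Equiv.Perm V → Prop) : Prop where
  one : Good 1
  mul : ∀ {f g}, Good f → Good g → Good (f * g)

variable {ρ act}

/-- A set fixed by the lifts has an invariant stabiliser image. -/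
theorem inv_map_stab [Finite L] {T : Subgroup (MulAut L)} {A : Subgroup G} {W : Set V}
    (hA : ∀ k, k ∈ A ↔ ∀ w ∈ W, act k w ∈ W) {H : Subgroup (Equiv.Perm V)}
    (hHW : ∀ f ∈ H, ∀ w ∈ W, f w ∈ W) (hex : ∀ t ∈ T, ∃ f ∈ H, Induces ρ act f t) :
    Inv T (A.map ρ) := by
  intro t ht
  have hle : (A.map ρ).map (t : L ≃* L).toMonoidHom ≤ A.map ρ := by
    rintro _ ⟨_, ⟨k, hk, rfl⟩, rfl⟩
    obtain ⟨f, hf, hind⟩ := hex t ht
    obtain ⟨k', e, hk'⟩ := hind k
    refine ⟨k', (hA k').2 fun w hw => ?_, e⟩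
    obtain ⟨v, rfl⟩ := f.surjective w
    have hv : v ∈ W := by
      have := hHW f⁻¹ (inv_mem hf) _ hw
      simpa using this
    rw [hk']
    exact hHW f hf _ ((hA k).1 hk v hv)
  refine Subgroup.eq_of_le_of_card_ge hle (le_of_eq ?_)
  exact (Nat.card_congr ((A.map ρ).equivMapOfInjective _ t.injective).toEquiv)

/-- The criterion. -/
theorem alwaysTwo_of_stab [Finite L] [IsSimpleGroup L] (Good : Equiv.Perm V → Prop)
    (hGood : IsClass Good) (hlift : ∀ t : MulAut L, ∃ f, Good f ∧ Induces ρ act f t)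
    (hfix : ∀ H : Subgroup (Equiv.Perm V), IsPGroup p H → (∀ f ∈ H, Good f) →
      ∃ (W₁ W₂ : Set V) (A B : Subgroup G), (∀ k, k ∈ A ↔ ∀ w ∈ W₁, act k w ∈ W₁) ∧
        (∀ k, k ∈ B ↔ ∀ w ∈ W₂, act k w ∈ W₂) ∧
        (∀ f ∈ H, ∀ w ∈ W₁, f w ∈ W₁) ∧ (∀ f ∈ H, ∀ w ∈ W₂, f w ∈ W₂) ∧
        IsCoatom (A.map ρ) ∧ IsCoatom (B.map ρ) ∧ A.map ρ ≠ B.map ρ) :
    AlwaysTwo p L := by
  intro U T hT hUT
  haveI : Finite (MulAut L) := Finite.of_injective (fun f : MulAut L => (f : L → L))
    DFunLike.coe_injective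
  obtain ⟨H, hH, hH1, hH2⟩ := exists_lift hT (fun f t => Good f ∧ Induces ρ act f t)
    ⟨hGood.one, Induces.one ρ act⟩
    (fun f g s t hf hg => ⟨hGood.mul hf.1 hg.1, hf.2.mul ρ act hg.2⟩) (fun t _ => hlift t)
  obtain ⟨W₁, W₂, A, B, hA, hB, hW₁, hW₂, hA1, hB1, hAB⟩ :=
    hfix H hH fun f hf => by obtain ⟨t, -, h⟩ := hH1 f hf; exact h.1
  have hex : ∀ t ∈ T, ∃ f ∈ H, Induces ρ act f t := fun t ht => by
    obtain ⟨f, hf, h⟩ := hH2 t ht
    exact ⟨f, hf, h.2⟩
  exact two_of_coatoms hUT (inv_map_stab hA hW₁ hex) (inv_map_stab hB hW₂ hex) hA1 hB1 hAB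

end action

end CfsgLib.PMinSocle
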