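import Cfsg.Agent.PMinSocle.Lift
import Mathlib.LinearAlgebra.Quotient.Basic
import Mathlib.LinearAlgebra.FiniteDimensional.Defs

/-!
# Fixed cosets of a `p`-group of additive bijections
-/

set_option autoImplicit false

namespace CfsgLib.PMinSocle

variable {p : ℕ} [Fact p.Prime] {F V : Type*} [Field F] [AddCommGroup V] [Module F V] [Finite V]

/-- If the number of cosets meeting an invariant set containing `0` is divisible by `p`, then a
nontrivial one of them is fixed. -/
theorem exists_fixed_coset_of_dvd {H : Subgroup (Equiv.Perm V)} (hH : IsPGroup p H)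
    (hadd : ∀ f ∈ H, ∀ u v, f (u + v) = f u + f v) {W : Submodule F V}
    (hWH : ∀ f ∈ H, ∀ w ∈ W, f w ∈ W) {P : Set V} (hP : ∀ f ∈ H, ∀ v ∈ P, f v ∈ P) (h0 : (0 : V) ∈ P)
    (hd : p ∣ Nat.card ((Submodule.Quotient.mk (p := W)) '' P)) :
    ∃ y ∈ P, y ∉ W ∧ ∀ f ∈ H, f y - y ∈ W := by
  classical
  haveI : Finite (V ⧸ W) := Finite.of_surjective _ (Submodule.Quotient.mk_surjective W)
  have hcong : ∀ (h : Equiv.Perm V), h ∈ H → ∀ a b : V,
      (Submodule.quotientRel W).r a b → (Submodule.quotientRel W).r (h a) (h b) := by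
    intro h hh a b hab
    rw [Submodule.quotientRel_def] at hab ⊢
    have e := hadd h hh (a - b) b
    rw [sub_add_cancel] at e
    rw [e, add_sub_cancel_right]
    exact hWH h hh _ hab
  let g : ∀ f ∈ H, Equiv.Perm (V ⧸ W) := fun f hf =>
    { toFun := Quotient.map' f (hcong f hf)
      invFun := Quotient.map' ⇑(f⁻¹ : Equiv.Perm V) (hcong _ (inv_mem hf))
      left_inv := fun x => by
        induction x using Quotient.inductionOn' with
        | h a => exact congrArg Quotient.mk'' (f.symm_apply_apply a)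
      right_inv := fun x => by
        induction x using Quotient.inductionOn' with
        | h a => exact congrArg Quotient.mk'' (f.apply_symm_apply a) }
  let π : ↥H →* Equiv.Perm (V ⧸ W) :=
    { toFun := fun f => g f.1 f.2
      map_one' := Equiv.ext fun x => by
        induction x using Quotient.inductionOn' with
        | h a => rfl
      map_mul' := fun f f' => Equiv.ext fun x => by
        induction x using Quotient.inductionOn' with
        | h a => rfl }
  have hπ : IsPGroup p π.range := by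
    rw [MonoidHom.range_eq_map]; exact (hH.to_subgroup ⊤ |>.map π)
  set S : Set (V ⧸ W) := Submodule.Quotient.mk '' P
  have hzero : (0 : V ⧸ W) ∈ S := ⟨0, h0, rfl⟩
  set Z : Set (V ⧸ W) := S \ {0} with hZ
  have hcard : ¬ p ∣ Nat.card Z := fun hd' => by
    have h2 : S.ncard = Z.ncard + 1 :=
      (Set.ncard_sdiff_singleton_add_one hzero (Set.toFinite _)).symm
    rw [Nat.card_coe_set_eq] at hd hd'
    rw [h2] at hd
    exact (Fact.out : p.Prime).one_lt.ne' (Nat.dvd_one.1 ((Nat.dvd_add_iff_right hd').2 hd))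
  have hinv : ∀ h ∈ π.range, ∀ x ∈ Z, h x ∈ Z := by
    rintro _ ⟨f, rfl⟩ x ⟨⟨v, hv, rfl⟩, hx⟩
    refine ⟨⟨f.1 v, hP f.1 f.2 v hv, rfl⟩, fun h' => hx ?_⟩
    have h0' : f.1 v ∈ W := (Submodule.Quotient.mk_eq_zero W).1 h'
    have := hWH _ (inv_mem f.2) _ h0'
    simp at this
    exact (Submodule.Quotient.mk_eq_zero W).2 this
  obtain ⟨x, ⟨⟨y, hy, rfl⟩, hy0⟩, hfix⟩ := exists_fixed_mem hπ hinv hcard
  exact ⟨y, hy, fun h => hy0 ((Submodule.Quotient.mk_eq_zero W).2 h),
    fun f hf => (Submodule.Quotient.eq W).1 (hfix _ ⟨⟨f, hf⟩, rfl⟩)⟩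

/-- The cosets of `W` meeting `P` are permuted freely by adding `d`, a multiple of `p` many. -/
theorem dvd_card_image_of_shift {W : Submodule F V} {P : Set V} (d : V → V)
    (hd : ∀ r ∈ P, r + d r ∈ P) (hinv : ∀ r ∈ P, ∀ a ∈ W, d (r + a) = d r)
    (hstep : ∀ r ∈ P, d (r + d r) = d r) (hne : ∀ r ∈ P, d r ∉ W)
    (hp : ∀ v : V, p • v = 0) : p ∣ Nat.card ((Submodule.Quotient.mk (p := W)) '' P) := by
  classical
  set S : Set (V ⧸ W) := Submodule.Quotient.mk '' P
  haveI : Finite (V ⧸ W) := Finite.of_surjective _ (Submodule.Quotient.mk_surjective W)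
  let r : S → V := fun x => Classical.choose x.2
  have hr : ∀ x : S, r x ∈ P ∧ Submodule.Quotient.mk (r x) = x.1 :=
    fun x => Classical.choose_spec x.2
  have hwd : ∀ (x : S) (v : V), v ∈ P → Submodule.Quotient.mk v = x.1 → d v = d (r x) := by
    intro x v hv e
    have hm : v - r x ∈ W := (Submodule.Quotient.eq W).1 (e.trans (hr x).2.symm)
    rw [show v = r x + (v - r x) by abel, hinv _ (hr x).1 _ hm]
  let φ : S → S := fun x => ⟨Submodule.Quotient.mk (r x + d (r x)), _, hd _ (hr x).1, rfl⟩
  refine dvd_card_of_iterate φ ?_ ?_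
  · funext x
    have key : ∀ k : ℕ, d (r (φ^[k] x)) = d (r x) ∧
        (φ^[k] x).1 = Submodule.Quotient.mk (r x + k • d (r x)) := by
      intro k
      induction k with
      | zero => exact ⟨rfl, by rw [Function.iterate_zero, id, zero_smul, add_zero, (hr x).2]⟩
      | succ k ih =>
        rw [Function.iterate_succ_apply']
        set y := φ^[k] x
        refine ⟨?_, ?_⟩
        · rw [← hwd (φ y) (r y + d (r y)) (hd _ (hr y).1) rfl, hstep _ (hr y).1, ih.1]
        · show Submodule.Quotient.mk (r y + d (r y)) = _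
          rw [Submodule.Quotient.mk_add, (hr y).2, ih.2, ih.1, ← Submodule.Quotient.mk_add,
            succ_nsmul, add_assoc]
    refine Subtype.ext ?_
    rw [(key p).2, hp, add_zero, (hr x).2]
    rfl
  · intro x hx
    have h := congrArg Subtype.val hx
    rw [← (hr x).2] at h
    exact hne _ (hr x).1 (by simpa using (Submodule.Quotient.eq W).1 h)

end CfsgLib.PMinSocle
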