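import Cfsg.Agent.PMinSocle.Linear
import Cfsg.Agent.AutPSL.Realise

/-!
# `PSL_3(q)`: two invariant parabolics, or only the Borel subgroup is invariant
-/

set_option autoImplicit false
set_option linter.unusedSectionVars false
set_option linter.style.haveILetI false

namespace CfsgLib.PMinSocle

open Matrix Subgroup CfsgLib.AutPSL Cfsg.Geo

variable {p : ℕ} [Fact p.Prime] {F : Type*} [Field F] [Fintype F] [CharP F p]

local notation "SL₃" => Matrix.SpecialLinearGroup (Fin (2 + 1)) F
local notation "L₃" => Matrix.ProjectiveSpecialLinearGroup (Fin (2 + 1)) F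

/-- An element fixing all coordinate subspaces normalises `upP`. -/
theorem mem_normalizer_upP {m : ℕ} {s : Matrix.SpecialLinearGroup (Fin (m + 1)) F}
    (h : ∀ k : Fin m, s ∈ stabC F k) :
    mkP s ∈ normalizer ((upP (m + 1) F : Subgroup _) : Set _) := by
  have htri : (s.1).BlockTriangular (upB (n := m + 1)) := by
    intro i j hji
    have hji' : j.val < i.val := by simpa [upB] using hji
    have hi := i.2
    have hw : (Pi.single j 1 : Fin (m + 1) → F) ∈ coordSub (F := F) (⟨j.val, by omega⟩ : Fin m) :=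
      fun r hr => Pi.single_eq_of_ne (fun e => by subst e; exact lt_irrefl _ hr) _
    have h2 := mem_stabC.1 (h _) _ hw i hji'
    rwa [Matrix.mulVec_single_one] at h2
  refine Subgroup.mem_normalizer_fintype fun y hy => ?_
  obtain ⟨x, hx, rfl⟩ := hy
  have h2 := conjSL_mem_uni upB_injective (A := Matrix.SpecialLinearGroup.toGL s) htri hx
  rw [conjSL_toGL, MulAut.conj_apply] at h2
  refine ⟨_, h2, ?_⟩
  simp

set_option maxHeartbeats 1000000 in
include p in
/-- **`PSL_3(q)`.** -/
theorem twoOrSmall_PSL_three [IsSimpleGroup L₃] : TwoOrSmall p L₃ := by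
  classical
  obtain ⟨U₀, hU₀⟩ := upP_isSylow (p := p) (F := F) (m := 2)
  refine twoOrSmall_of_one U₀ fun T hT hUT => ?_
  have hfix : ∀ t ∈ T, (upP (2 + 1) F).map (t : L₃ ≃* L₃).toMonoidHom = upP (2 + 1) F :=
    fun t ht => by rw [← hU₀]; exact map_sylow_eq U₀ hT hUT ht
  rw [hU₀]
  have hother : ∀ k l : Fin 2, l ∈ ({k}ᶜ : Set (Fin 2)) → l = k.rev := by
    intro k l hl
    simp only [Set.mem_compl_iff, Set.mem_singleton_iff] at hl
    revert hl; revert k l; decide
  have hrevne : ∀ k : Fin 2, k.rev ≠ k := by decide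
  have htwo : (∀ t ∈ T, (par F ({0} : Set (Fin 2))).map (t : L₃ ≃* L₃).toMonoidHom =
      par F ({0} : Set (Fin 2))) → Two T (upP (2 + 1) F) := by
    intro hall
    refine two_par (by omega) (J₁ := {0}) (J₂ := {1}) (k₁ := 1) (k₂ := 0) (by decide) (by decide)
      (by decide) hall fun t ht => ?_
    obtain ⟨e, he, heq⟩ := exists_perm_par (p := p) (hfix t ht)
    rcases he with rfl | rfl
    · exact (heq _).trans (by rw [Equiv.Perm.coe_one, Set.image_id])
    · exfalso
      have h := (heq {0}).symm.trans (hall t ht)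
      have h01 : (Fin.revPerm : Equiv.Perm (Fin 2)) 0 = 1 := by decide
      rw [Set.image_singleton, h01] at h
      exact par_ne (k := (1 : Fin 2)) (Set.mem_singleton _) (fun e => absurd e (by simp)) h
  refine ⟨?_, fun hin => htwo fun t ht => ?_⟩
  swap
  · obtain ⟨x, hx⟩ := hin ht
    obtain ⟨u, hu, he⟩ := exists_mem_of_inner U₀ hT hUT (x := x) (hx.symm ▸ ht)
    rw [hU₀] at hu
    have htu : t = MulAut.conj u := hx.symm.trans he.symm
    subst htu
    refine Subgroup.eq_of_le_of_card_ge ?_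
      (le_of_eq (Subgroup.card_map_of_injective (MulEquiv.injective _)).symm)
    rintro _ ⟨y, hy, rfl⟩
    exact mul_mem (mul_mem (Subgroup.mem_sup_left hu) hy) (inv_mem (Subgroup.mem_sup_left hu))
  by_cases hall : ∀ t ∈ T, (par F ({0} : Set (Fin 2))).map (t : L₃ ≃* L₃).toMonoidHom =
      par F ({0} : Set (Fin 2))
  · exact Or.inl (htwo hall)
  push Not at hall
  obtain ⟨t, ht, htne⟩ := hall
  obtain ⟨e, he, heq⟩ := exists_perm_par (p := p) (hfix t ht)
  rcases he with rfl | rfl
  · exact absurd ((heq _).trans (by rw [Equiv.Perm.coe_one, Set.image_id])) htne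
  refine Or.inr fun A hA hUA hA1 => ?_
  -- containment in one maximal parabolic
  have hone : ∀ B : Subgroup L₃, upP (2 + 1) F ≤ B → B ≠ ⊤ →
      ∃ k : Fin 2, B ≤ (stabC F k).map mkP := by
    intro B hB hB1
    have h1 : upU (2 + 1) F ≤ B.comap mkP := fun x hx => hB ⟨x, hx, rfl⟩
    have h2 : B.comap mkP ≠ ⊤ := fun h => hB1 (by
      rw [← Subgroup.map_comap_eq_self_of_surjective (QuotientGroup.mk'_surjective _) B, h,
        Subgroup.map_top_of_surjective _ (QuotientGroup.mk'_surjective _)])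
    obtain ⟨k, hk⟩ := exists_le_stabC h1 h2
    refine ⟨k, ?_⟩
    rw [← Subgroup.map_comap_eq_self_of_surjective (QuotientGroup.mk'_surjective _) B]
    exact Subgroup.map_mono hk
  obtain ⟨k, hk⟩ := hone A hUA hA1
  set S := fun k : Fin 2 => (stabC F k).map (mkP (n := 2 + 1) (F := F))
  have hparS : ∀ k : Fin 2, par F ({k}ᶜ : Set (Fin 2)) ≤ S k := fun k => par_le (by simp)
  have hStop : ∀ k : Fin 2, S k ≠ ⊤ := fun k h => ys_notMem_stabC (F := F) k (by
    have h1 : ys k (1 : F) ∈ ((stabC F k).map mkP).comap mkP :=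
      (show (mkP (ys k (1 : F))) ∈ S k from h ▸ Subgroup.mem_top _)
    rwa [comap_map_stabC] at h1)
  have hUS : upP (2 + 1) F ≤ (S k).map (t : L₃ ≃* L₃).toMonoidHom :=
    (hfix t ht).ge.trans (Subgroup.map_mono (Subgroup.map_mono (upU_le_stabC k)))
  obtain ⟨j, hj⟩ := hone _ hUS fun h => hStop k
    (Subgroup.map_injective (t.injective) (h.trans (Subgroup.map_top_of_surjective _ t.surjective).symm))
  have hAj : A ≤ S j := by
    intro a ha
    rw [← hA t ht] at ha
    exact hj (Subgroup.map_mono hk ha)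
  have hjk : j ≠ k := by
    rintro rfl
    have hmem : j ∈ Fin.revPerm '' ({j}ᶜ : Set (Fin 2)) := ⟨j.rev, hrevne j, by simp⟩
    have h1 : mkP (ys j (1 : F)) ∈ par F (Fin.revPerm '' ({j}ᶜ : Set (Fin 2))) :=
      ys_mem_par hmem 1
    rw [← heq] at h1
    have h2 : ys j (1 : F) ∈ ((stabC F j).map mkP).comap mkP :=
      hj (Subgroup.map_mono (hparS j) h1)
    rw [comap_map_stabC] at h2
    exact ys_notMem_stabC j h2
  intro a ha
  obtain ⟨s, hs⟩ := QuotientGroup.mk'_surjective _ a
  subst hs
  refine mem_normalizer_upP fun i => ?_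
  have hcases : i = j ∨ i = k :=
    (show ∀ i j k : Fin 2, j ≠ k → i = j ∨ i = k by decide) i j k hjk
  have h1 : s ∈ ((stabC F i).map mkP).comap mkP := by
    rcases hcases with rfl | rfl
    · exact hAj ha
    · exact hk ha
  rwa [comap_map_stabC] at h1

end CfsgLib.PMinSocle
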