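import Cfsg.Agent.PMinSocle.Classical
import Cfsg.Agent.AutPOmega.Final
import Cfsg.Agent.AutPOmega.Group
import Cfsg.Agent.OrthMax.TotallySingular

/-!
# `PΩ(Q)`: the stabilisers of a fixed singular point and line

The singular vectors modulo a totally singular subspace have number prime to `p`, as the singular
cosets are permuted freely by a map of order `p`; so a `p`-group of semisimilarities fixes one.
-/

set_option autoImplicit false
set_option linter.unusedSectionVars false
set_option linter.style.haveILetI false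

namespace CfsgLib.PMinSocle

open Matrix Module CfsgLib.Spinor CfsgLib.Forms CfsgLib.Forms4 CfsgLib.AutPOmega

variable {p : ℕ} [Fact p.Prime] {F : Type*} [Field F] [Finite F] [CharP F p] {ι : Type} [Fintype ι]
  [DecidableEq ι] {Q : QuadraticForm F (ι → F)}

set_option quotPrecheck false in
local notation "B" => QuadraticMap.polar (DFunLike.coe Q)

theorem nsmul_vec_eq_zero (v : ι → F) : p • v = 0 := by
  funext i
  simp

/-- The singular cosets of `W` inside its orthogonal complement, zero included. -/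
def singCosets (Q : QuadraticForm F (ι → F)) (W : Submodule F (ι → F)) : Set ((ι → F) ⧸ W) :=
  {x | ∃ v, Submodule.Quotient.mk v = x ∧ v ∈ perp Q W ∧ Q v = 0}

variable {W : Submodule F (ι → F)}

theorem quad_add_of_mem (hW : ∀ w ∈ W, Q w = 0) {v a : ι → F} (hv : v ∈ perp Q W) (ha : a ∈ W) :
    Q (v + a) = Q v := by
  rw [QuadraticMap.map_add (⇑Q), hW a ha, show B v a = 0 by
    rw [QuadraticMap.polar_comm]; exact hv a ha]
  simp

theorem le_perp (hW : ∀ w ∈ W, Q w = 0) : W ≤ perp Q W := fun u hu w hw => by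
  show B w u = 0
  simp [QuadraticMap.polar, hW _ hu, hW _ hw, hW _ (add_mem hw hu)]

theorem of_mk_mem (hW : ∀ w ∈ W, Q w = 0) {v : ι → F}
    (h : Submodule.Quotient.mk v ∈ singCosets Q W) : v ∈ perp Q W ∧ Q v = 0 := by
  obtain ⟨u, e, hu, hq⟩ := h
  have hmem : v - u ∈ W := (Submodule.Quotient.eq W).1 e.symm
  have hv : v = u + (v - u) := by abel
  rw [hv]
  exact ⟨add_mem hu (le_perp hW hmem), by rw [quad_add_of_mem hW hu hmem, hq]⟩

/-- The number of singular cosets is divisible by `p`. -/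
theorem dvd_card_singCosets (hW : ∀ w ∈ W, Q w = 0) {w u : ι → F} (hw : w ∈ perp Q W)
    (hwq : Q w = 0) (hwW : w ∉ W) (hu : u ∈ perp Q W) (hwu : B w u = 0)
    (huW : u ∉ W ⊔ F ∙ w) : p ∣ Nat.card (singCosets Q W) := by
  classical
  haveI := Fintype.ofFinite F
  set S := singCosets Q W
  haveI : Finite ↥S := Subtype.finite
  let r : S → ι → F := fun x => Classical.choose x.2
  have hr : ∀ x : S, Submodule.Quotient.mk (r x) = x.1 ∧ r x ∈ perp Q W ∧ Q (r x) = 0 :=
    fun x => Classical.choose_spec x.2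
  -- the move
  let d : S → ι → F := fun x => if B w (r x) = 0 then w else u - (Q (r x + u) / B w (r x)) • w
  have hd : ∀ x : S, d x ∈ perp Q W ∧ Q (r x + d x) = 0 ∧ B w (d x) = 0 := by
    intro x
    obtain ⟨-, hxp, hxq⟩ := hr x
    have hww : B w w = 0 := by simp [QuadraticMap.polar, hwq, QuadraticMap.map_add_self]
    simp only [d]
    split_ifs with h
    · exact ⟨hw, by rw [QuadraticMap.map_add (⇑Q), hxq, hwq, QuadraticMap.polar_comm, h]; simp,
        hww⟩
    · refine ⟨sub_mem hu (Submodule.smul_mem _ _ hw), ?_, ?_⟩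
      · rw [← add_sub_assoc, sub_eq_add_neg, ← neg_smul, QuadraticMap.map_add (⇑Q),
          QuadraticMap.map_smul, hwq, QuadraticMap.polar_smul_right,
          QuadraticMap.polar_comm (⇑Q) (r x + u) w, QuadraticMap.polar_add_right, hwu]
        simp only [smul_eq_mul, mul_zero, add_zero, neg_mul, div_mul_cancel₀ _ h, add_neg_cancel]
      · rw [QuadraticMap.polar_sub_right, QuadraticMap.polar_smul_right, hwu, hww, smul_zero,
          sub_zero]
  let φ : S → S := fun x =>
    ⟨Submodule.Quotient.mk (r x + d x), _, rfl, add_mem (hr x).2.1 (hd x).1, (hd x).2.1⟩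
  have hBr : ∀ (x : S) (v : ι → F), Submodule.Quotient.mk v = x.1 → B w v = B w (r x) := by
    intro x v hv
    have hm : v - r x ∈ W := (Submodule.Quotient.eq W).1 (hv.trans (hr x).1.symm)
    have h0 : B w (v - r x) = 0 := by
      rw [QuadraticMap.polar_comm]; exact hw _ hm
    rwa [QuadraticMap.polar_sub_right, sub_eq_zero] at h0
  refine dvd_card_of_iterate φ ?_ ?_
  · funext x
    have key : ∀ k : ℕ, B w (r (φ^[k] x)) = B w (r x) ∧ ∃ t : F,
        (φ^[k] x).1 = Submodule.Quotient.mk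
          (r x + (if B w (r x) = 0 then (k : F) • w else (k : F) • u + t • w)) := by
      intro k
      induction k with
      | zero =>
        refine ⟨rfl, 0, ?_⟩
        rw [Function.iterate_zero, id, Nat.cast_zero, zero_smul, zero_smul, zero_add, ite_self,
          add_zero, (hr x).1]
      | succ k ih =>
        obtain ⟨hk, t, ht⟩ := ih
        rw [Function.iterate_succ_apply']
        set y := φ^[k] x
        refine ⟨?_, t - (Q (r y + u) / B w (r y)), ?_⟩
        · rw [← hBr (φ y) (r y + d y) rfl, QuadraticMap.polar_add_right, (hd y).2.2, add_zero, hk]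
        · show Submodule.Quotient.mk (r y + d y) = _
          rw [← (hr y).1] at ht
          rw [Submodule.Quotient.mk_add, ht, ← Submodule.Quotient.mk_add]
          congr 1
          simp only [d, hk]
          split_ifs with h
          · push_cast; module
          · push_cast; module
    obtain ⟨-, t, ht⟩ := key p
    simp only [CharP.cast_eq_zero, zero_smul, zero_add] at ht
    refine Subtype.ext ?_
    by_cases h : B w (r x) = 0
    · rw [ht, if_pos h, add_zero, (hr x).1]; rfl
    · rw [if_neg h] at ht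
      have hq := (of_mk_mem hW (ht ▸ (φ^[p] x).2)).2
      rw [QuadraticMap.map_add (⇑Q), (hr x).2.2, QuadraticMap.map_smul, hwq,
        QuadraticMap.polar_smul_right, QuadraticMap.polar_comm] at hq
      simp only [smul_eq_mul, mul_zero, zero_add, mul_eq_zero, h, or_false] at hq
      rw [ht, hq, zero_smul, add_zero, (hr x).1]; rfl
  · intro x hx
    have hmem : d x ∈ W := by
      have h := congrArg Subtype.val hx
      rw [← (hr x).1] at h
      simpa using (Submodule.Quotient.eq W).1 h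
    simp only [d] at hmem
    split_ifs at hmem
    · exact hwW hmem
    · refine huW ?_
      rw [show u = (u - (Q (r x + u) / B w (r x)) • w) + (Q (r x + u) / B w (r x)) • w by abel]
      exact add_mem (Submodule.mem_sup_left hmem)
        (Submodule.mem_sup_right (Submodule.smul_mem _ _ (Submodule.mem_span_singleton_self w)))

/-- The bijection is a semisimilarity. -/
def IsSemi (Q : QuadraticForm F (ι → F)) (f : Equiv.Perm (ι → F)) : Prop :=
  ∃ S : Semi Q, ∀ v, f v = S.fn v

theorem isClass_isSemi : IsClass (IsSemi Q) where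
  one := ⟨Semi.one Q, fun v => by
    show v = ((1 : GL ι F) : Matrix ι ι F) *ᵥ fun i => (1 : F ≃+* F) (v i)
    rw [Units.val_one, Matrix.one_mulVec]
    rfl⟩
  mul := by
    rintro f g ⟨S, hS⟩ ⟨S', hS'⟩
    exact ⟨S.mul S', fun v => by rw [Equiv.Perm.mul_apply, hS, hS', Semi.fn_mul]⟩

theorem IsSemi.quad_eq {f : Equiv.Perm (ι → F)} (hf : IsSemi Q f) {v : ι → F} (hv : Q v = 0) :
    Q (f v) = 0 := by
  obtain ⟨S, hS⟩ := hf
  rw [hS, show Q (S.fn v) = (S.c : F) * S.σ (Q v) from S.quad v, hv, map_zero, mul_zero]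

theorem IsSemi.add {f : Equiv.Perm (ι → F)} (hf : IsSemi Q f) (u v : ι → F) :
    f (u + v) = f u + f v := by
  obtain ⟨S, hS⟩ := hf
  rw [hS, hS, hS, S.fn_add]

theorem IsSemi.polar_eq {f : Equiv.Perm (ι → F)} (hf : IsSemi Q f) {u v : ι → F}
    (h : B u v = 0) : B (f u) (f v) = 0 := by
  obtain ⟨S, hS⟩ := hf
  have hq : ∀ x, Q (S.fn x) = (S.c : F) * S.σ (Q x) := S.quad
  rw [QuadraticMap.polar, hS, hS, ← S.fn_add, hq, hq, hq, ← mul_sub, ← mul_sub, ← map_sub,
    ← map_sub]
  rw [QuadraticMap.polar] at h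
  rw [h, map_zero, mul_zero]

/-- A `p`-group of semisimilarities fixing `W` fixes a further singular coset. -/
theorem exists_fixed_singular_coset {H : Subgroup (Equiv.Perm (ι → F))} (hH : IsPGroup p H)
    (hs : ∀ f ∈ H, IsSemi Q f) (hWH : ∀ f ∈ H, ∀ w ∈ W, f w ∈ W) (hW : ∀ w ∈ W, Q w = 0)
    {w u : ι → F} (hw : w ∈ perp Q W) (hwq : Q w = 0) (hwW : w ∉ W) (hu : u ∈ perp Q W)
    (hwu : B w u = 0) (huW : u ∉ W ⊔ F ∙ w) :
    ∃ y, y ∈ perp Q W ∧ Q y = 0 ∧ y ∉ W ∧ ∀ f ∈ H, f y - y ∈ W := by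
  classical
  haveI := Fintype.ofFinite F
  haveI : Finite ((ι → F) ⧸ W) := Finite.of_surjective _ (Submodule.Quotient.mk_surjective W)
  haveI : Finite ↥(singCosets Q W) := Subtype.finite
  have hperp : ∀ f ∈ H, ∀ v ∈ perp Q W, f v ∈ perp Q W := fun f hf v hv a ha => by
    show B a (f v) = 0
    have ha' : f⁻¹ a ∈ W := hWH f⁻¹ (inv_mem hf) a ha
    simpa using (hs f hf).polar_eq (hv _ ha')
  let g : ∀ f ∈ H, Equiv.Perm ((ι → F) ⧸ W) := fun f hf =>
    have hcong : ∀ (h : Equiv.Perm (ι → F)), h ∈ H → ∀ a b : ι → F,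
        (Submodule.quotientRel W).r a b → (Submodule.quotientRel W).r (h a) (h b) := by
      intro h hh a b hab
      rw [Submodule.quotientRel_def] at hab ⊢
      have e := (hs h hh).add (a - b) b
      rw [sub_add_cancel] at e
      rw [e, add_sub_cancel_right]
      exact hWH h hh _ hab
    { toFun := Quotient.map' f (hcong f hf)
      invFun := Quotient.map' ⇑(f⁻¹ : Equiv.Perm (ι → F)) (hcong _ (inv_mem hf))
      left_inv := fun x => by
        induction x using Quotient.inductionOn' with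
        | h a => exact congrArg Quotient.mk'' (f.symm_apply_apply a)
      right_inv := fun x => by
        induction x using Quotient.inductionOn' with
        | h a => exact congrArg Quotient.mk'' (f.apply_symm_apply a) }
  let π : ↥H →* Equiv.Perm ((ι → F) ⧸ W) :=
    { toFun := fun f => g f.1 f.2
      map_one' := Equiv.ext fun x => by
        induction x using Quotient.inductionOn' with
        | h a => rfl
      map_mul' := fun f f' => Equiv.ext fun x => by
        induction x using Quotient.inductionOn' with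
        | h a => rfl }
  have hπ : IsPGroup p π.range := by
    rw [MonoidHom.range_eq_map]; exact (hH.to_subgroup ⊤ |>.map π)
  have hzero : (0 : (ι → F) ⧸ W) ∈ singCosets Q W := ⟨0, rfl, zero_mem _, QuadraticMap.map_zero Q⟩
  set Z : Set ((ι → F) ⧸ W) := singCosets Q W \ {0} with hZ
  have hcard : ¬ p ∣ Nat.card Z := fun hd => by
    have h1 := dvd_card_singCosets (p := p) hW hw hwq hwW hu hwu huW
    have h2 : (singCosets Q W).ncard = Z.ncard + 1 :=
      (Set.ncard_sdiff_singleton_add_one hzero (Set.toFinite _)).symm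
    rw [Nat.card_coe_set_eq] at h1 hd
    rw [h2] at h1
    exact (Fact.out : p.Prime).one_lt.ne' (Nat.dvd_one.1 ((Nat.dvd_add_iff_right hd).2 h1))
  have hinv : ∀ h ∈ π.range, ∀ x ∈ Z, h x ∈ Z := by
    rintro _ ⟨f, rfl⟩ x ⟨⟨v, rfl, hv, hq⟩, hx⟩
    refine ⟨⟨f.1 v, rfl, hperp f.1 f.2 v hv, (hs f.1 f.2).quad_eq hq⟩, fun h0 => hx ?_⟩
    have h0' : f.1 v ∈ W := (Submodule.Quotient.mk_eq_zero W).1 h0
    have := hWH f.1⁻¹ (inv_mem f.2) _ h0'
    simp at this
    exact (Submodule.Quotient.mk_eq_zero W).2 this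
  obtain ⟨x, ⟨⟨y, rfl, hy, hyq⟩, hy0⟩, hfix⟩ := exists_fixed_mem hπ hinv hcard
  exact ⟨y, hy, hyq, fun h => hy0 ((Submodule.Quotient.mk_eq_zero W).2 h),
    fun f hf => (Submodule.Quotient.eq W).1 (hfix _ ⟨⟨f, hf⟩, rfl⟩)⟩

/-- The embedding of `Ω(Q)` in `GL`. -/
def omegaToGL (Q : QuadraticForm F (ι → F)) : OG Q →* GL ι F :=
  (Cfsg.isometryGroup F ⇑Q).subtype.comp (Cfsg.Omega F ⇑Q).subtype

theorem range_omegaToGL : (omegaToGL Q).range = Cfsg.Geo.omegaGL ⇑Q := by
  rw [omegaToGL, MonoidHom.range_comp, Subgroup.range_subtype]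
  rfl

theorem mem_stab_iff_forall {W : Submodule F (ι → F)} (k : OG Q) :
    k ∈ (Cfsg.Geo.subspaceStabilizer W).comap (omegaToGL Q) ↔ ∀ w ∈ W, app k w ∈ W :=
  ⟨fun h w hw => ((MaxSub.mem_subspaceStabilizer_iff.1 h) w).1 hw,
    fun h => MaxSub.mem_subspaceStabilizer_of_le h⟩

theorem center_le_comap (C : Ctx Q) (W : Submodule F (ι → F)) :
    (pr Q).ker ≤ (Cfsg.Geo.subspaceStabilizer W).comap (omegaToGL Q) := fun z hz => by
  rw [QuotientGroup.ker_mk'] at hz
  obtain ⟨r, -, hr⟩ := C.central_scalar hz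
  exact (mem_stab_iff_forall z).2 fun w hw => by rw [hr]; exact W.smul_mem r hw

/-- **Two invariant parabolics for `PΩ(Q)`** when all automorphisms are semisimilarities. -/
theorem alwaysTwo_POmega [Fintype F] (C : Ctx Q)
    (hall : ∀ β : MulAut (Cfsg.POmega F ⇑Q), ∃ S : Semi Q, S.aut = β)
    [IsSimpleGroup (Cfsg.POmega F ⇑Q)] : AlwaysTwo p (Cfsg.POmega F ⇑Q) := by
  classical
  refine alwaysTwo_of_stab (ρ := pr Q) (act := fun k v => app k v) (IsSemi Q) isClass_isSemi ?_ ?_
  · intro β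
    obtain ⟨S, rfl⟩ := hall β
    exact ⟨Equiv.ofBijective S.fn ⟨S.fn_injective, S.fn_surjective⟩, ⟨S, fun v => rfl⟩,
      fun k => ⟨S.omegaMap k, (S.aut_pr k).symm, fun v => S.app_omegaMap k v⟩⟩
  intro H hH hs
  obtain ⟨P⟩ := C.pairs
  have hbot : ∀ f ∈ H, ∀ w ∈ (⊥ : Submodule F (ι → F)), f w ∈ (⊥ : Submodule F (ι → F)) := by
    intro f hf w hw
    rw [Submodule.mem_bot] at hw ⊢
    have h := (hs f hf).add 0 0
    rw [add_zero] at h
    rw [hw]
    simpa using h.symm
  have hperpbot : ∀ v : ι → F, v ∈ perp Q (⊥ : Submodule F (ι → F)) := fun v w hw => by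
    rw [Submodule.mem_bot] at hw
    show B w v = 0
    rw [hw, QuadraticMap.polar_zero_left]
  obtain ⟨x, -, hxq, hx0, hxfix⟩ := exists_fixed_singular_coset hH hs hbot
    (fun w hw => by rw [(Submodule.mem_bot F).1 hw, QuadraticMap.map_zero])
    (hperpbot P.e) P.qe (fun h => P.e_ne_zero ((Submodule.mem_bot F).1 h)) (hperpbot P.a) P.ea
    (by
      rw [bot_sup_eq]
      intro h
      obtain ⟨t, ht⟩ := Submodule.mem_span_singleton.1 h
      have := congrArg (fun z => B z P.b) ht
      simp [QuadraticMap.polar_smul_left, P.eb, P.ab] at this)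
  rw [Submodule.mem_bot] at hx0
  have hxfix' : ∀ f ∈ H, f x = x := fun f hf =>
    sub_eq_zero.1 ((Submodule.mem_bot F).1 (hxfix f hf))
  set W₁ := F ∙ x with hW₁
  have hW₁inv : ∀ f ∈ H, ∀ w ∈ W₁, f w ∈ W₁ := fun f hf w hw => by
    obtain ⟨t, rfl⟩ := Submodule.mem_span_singleton.1 hw
    obtain ⟨S, hS⟩ := hs f hf
    rw [hS, S.fn_smul, ← hS, hxfix' f hf]
    exact Submodule.smul_mem _ _ (Submodule.mem_span_singleton_self x)
  have hW₁q : ∀ w ∈ W₁, Q w = 0 := fun w hw => by
    obtain ⟨t, rfl⟩ := Submodule.mem_span_singleton.1 hw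
    rw [QuadraticMap.map_smul, hxq, smul_zero]
  obtain ⟨P', hP'⟩ := C.exists_frame_left hx0 hxq
  obtain ⟨y, hy, hyq, hyW, hyfix⟩ := exists_fixed_singular_coset hH hs hW₁inv hW₁q
    (w := P'.a) (u := P'.c) (mem_perp_span.2 (hP' ▸ P'.ea)) P'.qa
    (fun h => by
      obtain ⟨t, ht⟩ := Submodule.mem_span_singleton.1 h
      have := congrArg (fun z => B z P'.b) ht
      simp [← hP', QuadraticMap.polar_smul_left, P'.eb, P'.ab] at this)
    (mem_perp_span.2 (hP' ▸ P'.ec)) P'.ac
    (fun h => by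
      obtain ⟨a, ha, b, hb, e⟩ := Submodule.mem_sup.1 h
      obtain ⟨t, rfl⟩ := Submodule.mem_span_singleton.1 ha
      obtain ⟨s, rfl⟩ := Submodule.mem_span_singleton.1 hb
      have := congrArg (fun z => B z P'.d) e
      simp [← hP', QuadraticMap.polar_add_left, QuadraticMap.polar_smul_left, P'.ed, P'.ad,
        P'.cd] at this)
  set W₂ := W₁ ⊔ F ∙ y with hW₂
  have hxy : B x y = 0 := mem_perp_span.1 hy
  have hW₂q : ∀ w ∈ W₂, Q w = 0 := fun w hw => by
    obtain ⟨a, ha, b, hb, rfl⟩ := Submodule.mem_sup.1 hw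
    obtain ⟨t, rfl⟩ := Submodule.mem_span_singleton.1 hb
    rw [add_comm, quad_add_of_mem hW₁q (Submodule.smul_mem _ t hy) ha, QuadraticMap.map_smul, hyq,
      smul_zero]
  have hW₂inv : ∀ f ∈ H, ∀ w ∈ W₂, f w ∈ W₂ := fun f hf w hw => by
    obtain ⟨a, ha, b, hb, rfl⟩ := Submodule.mem_sup.1 hw
    obtain ⟨t, rfl⟩ := Submodule.mem_span_singleton.1 hb
    obtain ⟨S, hS⟩ := hs f hf
    rw [hS, S.fn_add, S.fn_smul, ← hS, ← hS]
    refine add_mem (Submodule.mem_sup_left (hW₁inv f hf a ha)) (Submodule.smul_mem _ _ ?_)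
    rw [show f y = (f y - y) + y by abel]
    exact add_mem (Submodule.mem_sup_left (hyfix f hf))
      (Submodule.mem_sup_right (Submodule.mem_span_singleton_self y))
  have hcard := C.card_ge
  have hxmem : x ∈ W₁ := Submodule.mem_span_singleton_self x
  have hW₁0 : W₁ ≠ ⊥ := fun h => hx0 ((Submodule.mem_bot F).1 (h ▸ hxmem))
  have hW₂0 : W₂ ≠ ⊥ := fun h => hW₁0 (eq_bot_iff.2 (h ▸ le_sup_left))
  have hd1 : finrank F W₁ = 1 := finrank_span_singleton hx0
  have hy0 : y ≠ 0 := fun h => hyW (h ▸ zero_mem _)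
  have hd2 : finrank F W₂ ≤ 2 :=
    (Submodule.finrank_add_le_finrank_add_finrank W₁ (F ∙ y)).trans (by
      rw [hd1, finrank_span_singleton hy0])
  have hmax : ∀ {W : Submodule F (ι → F)}, W ≠ ⊥ → (∀ w ∈ W, Q w = 0) → finrank F W ≤ 2 →
      IsCoatom (((Cfsg.Geo.subspaceStabilizer W).comap (omegaToGL Q)).map (pr Q)) := by
    intro W h0 hq hle
    refine isCoatom_map pr_surjective (isCoatom_comap ?_ ?_) (center_le_comap C W)
    · intro a b h
      exact Subtype.ext (Subtype.ext h)
    · rw [range_omegaToGL]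
      exact OrthMax.isMaximalIn_singular C.nondeg C.five h0 hq fun _ _ _ => by omega
  refine ⟨(W₁ : Set (ι → F)), (W₂ : Set (ι → F)), _, _, mem_stab_iff_forall, mem_stab_iff_forall,
    hW₁inv, hW₂inv, hmax hW₁0 hW₁q (by omega), hmax hW₂0 hW₂q hd2, ?_⟩
  intro heq
  obtain ⟨w, hwy, hwx⟩ : ∃ w, B y w = 0 ∧ B w x ≠ 0 := by
    by_contra hcon
    push Not at hcon
    have hmem : x ∈ perp Q (perp Q (F ∙ y)) := fun v hv => hcon v (mem_perp_span.1 hv)
    rw [perp_perp C.nondeg] at hmem
    obtain ⟨t, ht⟩ := Submodule.mem_span_singleton.1 hmem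
    have ht0 : t ≠ 0 := fun h => hx0 (by rw [← ht, h, zero_smul])
    exact hyW (Submodule.mem_span_singleton.2 ⟨t⁻¹, by rw [← ht, inv_smul_smul₀ ht0]⟩)
  set g := C.eichG y w hyq hwy
  have hyx : B y x = 0 := by rw [QuadraticMap.polar_comm]; exact hxy
  have hgx : app g x = x - B w x • y := by
    rw [C.app_eichG, eich_mulVec, hyx]; simp [sub_eq_add_neg]
  have hgy : app g y = y := by
    rw [C.app_eichG, eich_mulVec, show B y y = 0 by
      simp [QuadraticMap.polar, hyq, QuadraticMap.map_add_self],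
      show B w y = 0 by rw [QuadraticMap.polar_comm]; exact hwy]
    simp
  have hg2 : g ∈ (Cfsg.Geo.subspaceStabilizer W₂).comap (omegaToGL Q) :=
    (mem_stab_iff_forall g).2 fun v hv => by
      obtain ⟨a, ha, b, hb, rfl⟩ := Submodule.mem_sup.1 hv
      obtain ⟨t, rfl⟩ := Submodule.mem_span_singleton.1 hb
      obtain ⟨s, rfl⟩ := Submodule.mem_span_singleton.1 ha
      rw [app_add, app_smul, app_smul, hgy, hgx]
      exact add_mem (Submodule.smul_mem _ _ (sub_mem (Submodule.mem_sup_left hxmem)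
        (Submodule.smul_mem _ _ (Submodule.mem_sup_right (Submodule.mem_span_singleton_self y)))))
        (Submodule.mem_sup_right hb)
  rw [← Subgroup.comap_map_eq_self (center_le_comap C W₂), ← heq,
    Subgroup.comap_map_eq_self (center_le_comap C W₁)] at hg2
  have h := (mem_stab_iff_forall g).1 hg2 x hxmem
  rw [hgx, W₁.sub_mem_iff_right hxmem] at h
  exact hyW ((Submodule.smul_mem_iff _ hwx).1 h)

end CfsgLib.PMinSocle
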