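import Cfsg.Agent.PMinSocle.BNCriterion
import Cfsg.Agent.PMinSocle.ChevInstances
import Cfsg.Agent.ReeF4.BN
import Cfsg.Agent.ReeF4Aut.Out
import Cfsg.Agent.LieCharP.TwistedReeF4

/-!
# `²F₄(q)`, `q ≥ 8`: both minimal parabolics above `B` are fixed by every automorphism fixing `U`
-/

set_option autoImplicit false
set_option linter.unusedSectionVars false
set_option linter.style.haveILetI false

namespace CfsgLib.PMinSocle

open Cfsg.Lie CfsgLib.ReeF4 CfsgLib.BNPairs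
open scoped MatrixGroups

variable {K : Type*} [Field K] [CharP K 2] [Finite K]

theorem alwaysTwo_reeF4 (T : Tw K) {q : ℕ} (hq : Nat.card K = 2 ^ q) (hq2 : 2 ≤ q)
    [IsSimpleGroup ↥T.G1] : AlwaysTwo 2 ↥T.G1 := by
  haveI : Fact (Nat.Prime 2) := ⟨Nat.prime_two⟩
  haveI : Finite ↥T.G1 := inferInstance
  letI := Fintype.ofFinite ↥T.G1
  obtain ⟨P, hB, -, hS⟩ := T.exists_bnPair
  obtain ⟨V, hV⟩ := T.exists_sylow hq hq2
  have hVB : Subgroup.normalizer ((V : Subgroup ↥T.G1) : Set ↥T.G1) = P.B := by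
    refine le_antisymm (fun g hg => ?_) fun g hg => ?_
    · rw [hB, Subgroup.mem_subgroupOf]
      obtain ⟨u, hu, h, hh, e⟩ := T.mem_B_of_conj_U1 (T.G1_le_fix g.2) fun x hx => by
        have hxV : (⟨x, T.U1_le_G1 hx⟩ : ↥T.G1) ∈ (V : Subgroup ↥T.G1) := by rw [hV]; exact hx
        have h1 := (Subgroup.mem_normalizer_iff.1 hg _).1 hxV
        rw [hV] at h1
        exact h1
      rw [← e]
      exact mul_mem (T.U1_le_B hu) (T.H1_le_B hh)
    · rw [hB, Subgroup.mem_subgroupOf] at hg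
      obtain ⟨u, hu, h, hh, e⟩ := T.borel_mem hg
      refine Subgroup.mem_normalizer_fintype fun x hx => ?_
      simp only [SetLike.mem_coe, hV] at hx ⊢
      show (g : GL D.Idx K) * (x : GL D.Idx K) * (g : GL D.Idx K)⁻¹ ∈ T.U1
      rw [← e]
      rw [show u * h * (x : GL D.Idx K) * (u * h)⁻¹ = u * (h * (x : GL D.Idx K) * h⁻¹) * u⁻¹ by group]
      exact mul_mem (mul_mem hu (T.conj_U1 hh hx)) (inv_mem hu)
  refine alwaysTwo_of_one V fun S hS' hUS => ?_
  have hne : T.nG false ≠ T.nG true := fun e => dJ_apart.1 (dP_injective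
    ((monBy_nJ false).unique (by rw [← T.coe_nG, e, T.coe_nG]; exact monBy_nJ true)))
  refine two_of_fixed V hVB hS' hUS (a := T.nG false) (b := T.nG true)
    (by rw [hS]; ext x; simp) hne fun φ hφ => ?_
  obtain ⟨g, hU, hH⟩ := T.exists_conj_preserving hq hq2 φ
  have hfixV := map_sylow_eq V hS' hUS hφ
  have hφU : ∀ x ∈ T.U1, T.app φ x ∈ T.U1 := by
    intro x hx
    have hxV : (⟨x, T.U1_le_G1 hx⟩ : ↥T.G1) ∈ (V : Subgroup ↥T.G1) := by rw [hV]; exact hx
    have h1 : φ ⟨x, T.U1_le_G1 hx⟩ ∈ (V : Subgroup ↥T.G1) := hfixV.le ⟨_, hxV, rfl⟩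
    rw [hV] at h1
    rw [T.app_coe ⟨x, T.U1_le_G1 hx⟩]
    exact h1
  have hsurj : ∀ y ∈ T.U1, ∃ x ∈ T.U1, T.app φ x = y := by
    intro y hy
    have hinj : Function.Injective (fun x : ↥T.U1 => (⟨T.app φ x, hφU _ x.2⟩ : ↥T.U1)) :=
      fun a b e => Subtype.ext (T.app_inj (T.U1_le_G1 a.2) (T.U1_le_G1 b.2)
        (congrArg Subtype.val e))
    obtain ⟨x, hx⟩ := Finite.surjective_of_injective hinj ⟨y, hy⟩
    exact ⟨x, x.2, congrArg Subtype.val hx⟩
  have hgB : g ∈ P.B := by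
    rw [hB, Subgroup.mem_subgroupOf]
    obtain ⟨u, hu, h, hh, e⟩ := T.mem_B_of_conj_U1 (T.G1_le_fix g.2) fun y hy => by
      obtain ⟨x, hx, rfl⟩ := hsurj y hy
      have h1 := hU x hx
      rw [T.app_coe ⟨x, T.U1_le_G1 hx⟩] at h1 ⊢
      exact h1
    rw [← e]
    exact mul_mem (T.U1_le_B hu) (T.H1_le_B hh)
  obtain ⟨h, hh, e⟩ := (T.preserves hq hq2 hU hH false).1
  have hmem : φ (T.nG false) ∈ P.parabolic {T.nG false} := by
    have h1 : (MulAut.conj g * φ) (T.nG false) = ⟨h, T.H1_le_G1 hh⟩ * T.nG false :=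
      Subtype.ext (by rw [← T.app_coe]; exact e)
    have hgP : g ∈ P.parabolic {T.nG false} := B_le_parabolic _ hgB
    have h2 : (⟨h, T.H1_le_G1 hh⟩ : ↥T.G1) * T.nG false ∈ P.parabolic {T.nG false} :=
      mul_mem (B_le_parabolic _ (hB ▸ T.H1_le_B hh)) (mem_parabolic_of_mem rfl)
    rw [← h1, MulAut.mul_apply, MulAut.conj_apply] at h2
    simpa [mul_assoc] using mul_mem (mul_mem (inv_mem hgP) h2) hgP
  refine Subgroup.eq_of_le_of_card_ge ?_
    (le_of_eq (Subgroup.card_map_of_injective φ.injective).symm)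
  rw [Subgroup.map_le_iff_le_comap]
  refine sup_le (fun b hb => B_le_parabolic _ ?_) ((Subgroup.closure_le _).2
    (Set.singleton_subset_iff.2 hmem))
  exact (map_B V hVB hfixV) ▸ ⟨b, hb, rfl⟩

/-- The family `²F₄`. -/
theorem alwaysTwo_iso2F4 {G : Type*} [Group G] [Finite G] [IsSimpleGroup G]
    (h : Cfsg.Lie.Iso2F4 G) : AlwaysTwo 2 G := by
  obtain ⟨K, _, _, m, hm, hK, ⟨e⟩⟩ := h
  haveI : Fact (Nat.Prime 2) := ⟨Nat.prime_two⟩
  haveI := CfsgLib.ReeF4.charP_of_card hK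
  haveI : IsSimpleGroup ↥(mkTw hK).G1 := isSimpleGroup_congr e
  exact (alwaysTwo_reeF4 (mkTw hK) (q := 2 * m + 1) (by rw [Nat.card_eq_fintype_card, hK])
    (by omega)).congr e

end CfsgLib.PMinSocle
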