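import Cfsg.Agent.PMinSocle.Classical
import Cfsg.Agent.AutPSp.CharTwo
import Cfsg.Agent.LieCharP.Symplectic
import Cfsg.Agent.MaxSub.SymplecticSubspace
import Cfsg.Agent.NormalCover.SympCenter

/-!
# `PSp_2m(q)`: the stabilisers of a fixed point and a fixed totally isotropic line
-/

set_option autoImplicit false
set_option linter.unusedSectionVars false
set_option linter.style.haveILetI false

namespace CfsgLib.PMinSocle

open Matrix Module CfsgLib.Forms CfsgLib.Forms4 CfsgLib.MaxSub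

variable {p : ℕ} [Fact p.Prime] {F : Type*} [Field F] [Fintype F] [CharP F p] {m : ℕ}

local notation "V" => Fin m ⊕ Fin m → F
local notation "SP" => Matrix.symplecticGroup (Fin m) F
local notation "ω" => Cfsg.sympForm m F

/-- A semilinear similitude of the symplectic space. -/
def IsSemiSp (f : Equiv.Perm V) : Prop :=
  ∃ σ : F ≃+* F, ∃ c : F, (∀ u v, f (u + v) = f u + f v) ∧ (∀ (t : F) v, f (t • v) = σ t • f v) ∧
    ∀ u v, ω (f u) (f v) = c * σ (ω u v)

theorem isClass_isSemiSp : IsClass (IsSemiSp (F := F) (m := m)) where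
  one := ⟨RingEquiv.refl F, 1, fun _ _ => rfl, fun _ _ => rfl, fun u v => (one_mul _).symm⟩
  mul := by
    rintro f g ⟨σ, c, ha, hs, hc⟩ ⟨σ', c', ha', hs', hc'⟩
    refine ⟨σ'.trans σ, c * σ c', fun u v => ?_, fun t v => ?_, fun u v => ?_⟩
    · simp only [Equiv.Perm.mul_apply, ha', ha]
    · simp only [Equiv.Perm.mul_apply, hs', hs, RingEquiv.trans_apply]
    · simp only [Equiv.Perm.mul_apply, hc, hc', map_mul, RingEquiv.trans_apply, mul_assoc]

omit [Fintype F] in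
theorem field_mulVec (σ : F ≃+* F) {ι : Type*} [Fintype ι] (A : Matrix ι ι F) (v : ι → F) :
    (σ ∘ (A *ᵥ v) : ι → F) = A.map σ *ᵥ (σ ∘ v) :=
  funext fun i => σ.toRingHom.map_mulVec A v i

theorem exists_induces_sp {g : ↥(Cfsg.GSp m F)} {σ : F ≃+* F} :
    ∃ f : Equiv.Perm V, IsSemiSp f ∧ Induces (QuotientGroup.mk' (Subgroup.center SP))
      (fun (k : SP) v => k.1 *ᵥ v) f (AutPSp.semiAut g σ) := by
  let f : Equiv.Perm V :=
    { toFun := fun v => g.1.1 *ᵥ (σ ∘ v)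
      invFun := fun v => σ.symm ∘ ((g.1⁻¹ : GL (Fin m ⊕ Fin m) F).1 *ᵥ v)
      left_inv := fun v => by
        simp only [Matrix.mulVec_mulVec, g.1.inv_mul, Matrix.one_mulVec]
        funext i; simp
      right_inv := fun v => by
        have : (σ ∘ (σ.symm ∘ ((g.1⁻¹ : GL (Fin m ⊕ Fin m) F).1 *ᵥ v)) : V) =
            (g.1⁻¹ : GL (Fin m ⊕ Fin m) F).1 *ᵥ v := by funext i; simp
        simp only [this, Matrix.mulVec_mulVec, g.1.mul_inv, Matrix.one_mulVec] }
  obtain ⟨c, hc⟩ := AutPSp.mem_GSp_iff.1 g.2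
  have hadd : ∀ u v : V, (σ ∘ (u + v) : V) = σ ∘ u + σ ∘ v := fun u v => funext fun i => map_add σ _ _
  have hsmul : ∀ (t : F) (v : V), (σ ∘ (t • v) : V) = σ t • (σ ∘ v) := fun t v =>
    funext fun i => map_mul σ _ _
  refine ⟨f, ⟨σ, c, fun u v => ?_, fun t v => ?_, fun u v => ?_⟩,
    fun k => ⟨AutPSp.conjSp g (AutPSp.fieldSp σ k), rfl, fun v => ?_⟩⟩
  · show g.1.1 *ᵥ (σ ∘ (u + v)) = _
    rw [hadd, Matrix.mulVec_add]; rfl
  · show g.1.1 *ᵥ (σ ∘ (t • v)) = _
    rw [hsmul, Matrix.mulVec_smul]; rfl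
  · show ω (g.1.1 *ᵥ (σ ∘ u)) (g.1.1 *ᵥ (σ ∘ v)) = _
    rw [hc]
    congr 1
    rw [sympForm_eq_sum, sympForm_eq_sum, map_sum]
    exact Finset.sum_congr rfl fun i _ => by simp
  · show (AutPSp.conjSp g (AutPSp.fieldSp σ k)).1 *ᵥ (g.1.1 *ᵥ (σ ∘ v)) =
      g.1.1 *ᵥ (σ ∘ (k.1 *ᵥ v))
    rw [AutPSp.conjSp_coe, field_mulVec, Matrix.mulVec_mulVec, Matrix.mulVec_mulVec, mul_assoc,
      g.1.inv_mul, mul_one]
    rfl

/-- The embedding of `Sp` in `GL`. -/
noncomputable def spToGL : SP →* GL (Fin m ⊕ Fin m) F :=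
  (Cfsg.spGL m F).subtype.comp toSpGL

theorem range_spToGL : (spToGL (F := F) (m := m)).range = Cfsg.spGL m F := by
  rw [spToGL, MonoidHom.range_comp, MonoidHom.range_eq_top.2 toSpGL_surjective,
    ← MonoidHom.range_eq_map, Subgroup.range_subtype]

theorem spToGL_injective : Function.Injective (spToGL (F := F) (m := m)) := fun a b h =>
  Subtype.ext (congrArg (fun g : GL (Fin m ⊕ Fin m) F => g.1) h)

theorem mem_spStab {W : Submodule F V} (k : SP) :
    k ∈ (Cfsg.Geo.subspaceStabilizer W).comap spToGL ↔ ∀ w ∈ W, k.1 *ᵥ w ∈ W :=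
  ⟨fun h w hw => ((mem_subspaceStabilizer_iff.1 h) w).1 hw,
    fun h => mem_subspaceStabilizer_of_le h⟩

theorem center_le_spStab (W : Submodule F V) :
    (QuotientGroup.mk' (Subgroup.center SP)).ker ≤
      (Cfsg.Geo.subspaceStabilizer W).comap spToGL := fun z hz => by
  rw [QuotientGroup.ker_mk'] at hz
  obtain ⟨c, hc, -⟩ := NormalCover.sp_scalar_of_center hz
  exact (mem_spStab z).2 fun w hw => by rw [hc]; exact W.smul_mem c hw

/-- **Two invariant parabolics for `PSp_2m(q)`**, `q` odd or `m ≥ 3`. -/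
theorem alwaysTwo_PSp (hm : 2 ≤ m) (h4 : m = 2 → p ≠ 2) [IsSimpleGroup (Cfsg.PSp m F)] :
    AlwaysTwo p (Cfsg.PSp m F) := by
  classical
  haveI : Finite SP := Subtype.finite
  haveI : Finite (Cfsg.PSp m F) := Quotient.finite _
  refine alwaysTwo_of_stab (ρ := QuotientGroup.mk' (Subgroup.center SP))
    (act := fun (k : SP) v => k.1 *ᵥ v) (IsSemiSp (F := F) (m := m)) isClass_isSemiSp ?_ ?_
  · intro β
    obtain ⟨g, σ, rfl⟩ := AutPSp.exists_semiAut p hm h4 β
    exact exists_induces_sp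
  intro H hH hs
  have hadd : ∀ f ∈ H, ∀ u v : V, f (u + v) = f u + f v := fun f hf => by
    obtain ⟨σ, c, h, -, -⟩ := hs f hf; exact h
  have hp : ∀ v : V, p • v = 0 := fun v => funext fun i => by simp
  have hne : (⊤ : AddSubgroup V) ≠ ⊥ := fun h => by
    have h1 : (Pi.single (Sum.inl ⟨0, by omega⟩) 1 : V) ∈ (⊥ : AddSubgroup V) := h ▸ trivial
    simpa using congrFun (AddSubgroup.mem_bot.1 h1) (Sum.inl ⟨0, by omega⟩)
  obtain ⟨x, -, hx0, hxfix⟩ := exists_fixed_vector hH hadd (U := ⊤) (fun _ _ _ _ => trivial) hne hp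
  set W₁ := F ∙ x with hW₁
  have hsmul : ∀ f ∈ H, ∀ (t : F) (v : V), ∃ t', f (t • v) = t' • f v := fun f hf t v => by
    obtain ⟨σ, c, -, h, -⟩ := hs f hf; exact ⟨σ t, h t v⟩
  have hW₁inv : ∀ f ∈ H, ∀ w ∈ W₁, f w ∈ W₁ := fun f hf w hw => by
    obtain ⟨t, rfl⟩ := Submodule.mem_span_singleton.1 hw
    obtain ⟨t', ht'⟩ := hsmul f hf t x
    rw [ht', hxfix f hf]
    exact Submodule.smul_mem _ _ (Submodule.mem_span_singleton_self x)
  have hPinv : ∀ f ∈ H, ∀ w ∈ sPerp W₁, f w ∈ sPerp W₁ := fun f hf w hw z hz => by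
    obtain ⟨σ, c, -, -, hc⟩ := hs f hf
    obtain ⟨t, rfl⟩ := Submodule.mem_span_singleton.1 hz
    have h0 : ω w x = 0 := hw x (Submodule.mem_span_singleton_self x)
    rw [← hxfix f hf, sympForm_smul_right, hc, h0, map_zero, mul_zero, mul_zero]
  have hW₁iso : Cfsg.Geo.IsTotallySingularFor ω W₁ := fun a ha b hb => by
    obtain ⟨s, rfl⟩ := Submodule.mem_span_singleton.1 ha
    obtain ⟨t, rfl⟩ := Submodule.mem_span_singleton.1 hb
    rw [sympForm_smul_left, sympForm_smul_right, sympForm_self, mul_zero, mul_zero]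
  have hlt : W₁ < sPerp W₁ := by
    refine lt_of_le_of_ne (fun w hw z hz => hW₁iso w hw z hz) fun h => ?_
    have h1 := finrank_sPerp W₁
    rw [← h, hW₁, finrank_span_singleton hx0] at h1
    omega
  obtain ⟨y, hy, hyW, hyfix⟩ := exists_fixed_coset hH hadd
    (U := (sPerp W₁).toAddSubgroup) (W := W₁.toAddSubgroup) hPinv hW₁inv hlt hp
  set W₂ := W₁ ⊔ F ∙ y with hW₂
  have hyx : ω y x = 0 := hy x (Submodule.mem_span_singleton_self x)
  have hxy : ω x y = 0 := by rw [sympForm_swap, hyx, neg_zero]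
  have hW₂iso : Cfsg.Geo.IsTotallySingularFor ω W₂ := fun a ha b hb => by
    obtain ⟨a₁, ha₁, a₂, ha₂, rfl⟩ := Submodule.mem_sup.1 ha
    obtain ⟨b₁, hb₁, b₂, hb₂, rfl⟩ := Submodule.mem_sup.1 hb
    obtain ⟨s₁, rfl⟩ := Submodule.mem_span_singleton.1 ha₁
    obtain ⟨s₂, rfl⟩ := Submodule.mem_span_singleton.1 ha₂
    obtain ⟨t₁, rfl⟩ := Submodule.mem_span_singleton.1 hb₁
    obtain ⟨t₂, rfl⟩ := Submodule.mem_span_singleton.1 hb₂
    simp only [sympForm_add_left, sympForm_add_right, sympForm_smul_left, sympForm_smul_right,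
      sympForm_self, hyx, hxy, mul_zero, add_zero]
  have hW₂inv : ∀ f ∈ H, ∀ w ∈ W₂, f w ∈ W₂ := fun f hf w hw => by
    obtain ⟨a, ha, b, hb, rfl⟩ := Submodule.mem_sup.1 hw
    obtain ⟨t, rfl⟩ := Submodule.mem_span_singleton.1 hb
    obtain ⟨t', ht'⟩ := hsmul f hf t y
    rw [hadd f hf, ht']
    refine add_mem (Submodule.mem_sup_left (hW₁inv f hf a ha)) (Submodule.smul_mem _ _ ?_)
    rw [show f y = (f y - y) + y by abel]
    exact add_mem (Submodule.mem_sup_left (hyfix f hf))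
      (Submodule.mem_sup_right (Submodule.mem_span_singleton_self y))
  have hxmem : x ∈ W₁ := Submodule.mem_span_singleton_self x
  have hW₁0 : W₁ ≠ ⊥ := fun h => hx0 ((Submodule.mem_bot F).1 (h ▸ hxmem))
  have hW₂0 : W₂ ≠ ⊥ := fun h => hW₁0 (eq_bot_iff.2 (h ▸ le_sup_left))
  have hmax : ∀ {W : Submodule F V}, W ≠ ⊥ → Cfsg.Geo.IsTotallySingularFor ω W →
      IsCoatom (((Cfsg.Geo.subspaceStabilizer W).comap spToGL).map
        (QuotientGroup.mk' (Subgroup.center SP))) := fun {W} h0 hiso =>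
    isCoatom_map (QuotientGroup.mk'_surjective _)
      (isCoatom_comap spToGL_injective (by
        rw [range_spToGL]; exact isMaximalIn_spSingular h0 hiso)) (center_le_spStab W)
  refine ⟨(W₁ : Set V), (W₂ : Set V), _, _, mem_spStab, mem_spStab, hW₁inv, hW₂inv,
    hmax hW₁0 hW₁iso, hmax hW₂0 hW₂iso, ?_⟩
  intro heq
  obtain ⟨w, hwy, hwx⟩ : ∃ w, ω y w = 0 ∧ ω x w ≠ 0 := by
    by_contra hcon
    push Not at hcon
    have hmem : x ∈ F ∙ y := mem_of_orth_sPerp fun z hz => hcon z (by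
      rw [sympForm_swap, hz y (Submodule.mem_span_singleton_self y), neg_zero])
    obtain ⟨t, ht⟩ := Submodule.mem_span_singleton.1 hmem
    have ht0 : t ≠ 0 := fun h => hx0 (by rw [← ht, h, zero_smul])
    exact hyW (Submodule.mem_span_singleton.2 ⟨t⁻¹, by rw [← ht, inv_smul_smul₀ ht0]⟩)
  obtain ⟨g, hg⟩ := LieCharP.exists_mixed (u := w) (v := y)
    (by rw [sympForm_swap, hwy, neg_zero])
  have hgx : g.1 *ᵥ x = x + ω x w • y := by
    rw [hg, hxy]; simp
  have hgy : g.1 *ᵥ y = y := by rw [hg, hwy, sympForm_self]; simp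
  have hg2 : g ∈ (Cfsg.Geo.subspaceStabilizer W₂).comap spToGL :=
    (mem_spStab g).2 fun v hv => by
      obtain ⟨a, ha, b, hb, rfl⟩ := Submodule.mem_sup.1 hv
      obtain ⟨t, rfl⟩ := Submodule.mem_span_singleton.1 hb
      obtain ⟨s, rfl⟩ := Submodule.mem_span_singleton.1 ha
      rw [Matrix.mulVec_add, Matrix.mulVec_smul, Matrix.mulVec_smul, hgy, hgx]
      exact add_mem (Submodule.smul_mem _ _ (add_mem (Submodule.mem_sup_left hxmem)
        (Submodule.smul_mem _ _ (Submodule.mem_sup_right (Submodule.mem_span_singleton_self y)))))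
        (Submodule.mem_sup_right hb)
  rw [← Subgroup.comap_map_eq_self (center_le_spStab W₂), ← heq,
    Subgroup.comap_map_eq_self (center_le_spStab W₁)] at hg2
  have h := (mem_spStab g).1 hg2 x hxmem
  rw [hgx, W₁.add_mem_iff_right hxmem] at h
  exact hyW ((Submodule.smul_mem_iff _ hwx).1 h)

end CfsgLib.PMinSocle
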