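import Cfsg.Agent.PMinSocle.BNCriterion
import Cfsg.Agent.PMinSocle.ChevInstances
import Cfsg.Agent.GraphTwistAut.Cases
import Cfsg.Agent.GraphTwist.BN

/-!
# `³D₄(q)` and `²E₆(q)`: every automorphism fixing `U¹` fixes every minimal parabolic
-/

set_option autoImplicit false
set_option linter.unusedSectionVars false
set_option linter.style.haveILetI false

namespace CfsgLib.PMinSocle

open Cfsg.Lie CfsgLib.Chevalley CfsgLib.GraphTwist CfsgLib.GraphTwistAut CfsgLib.BNPairs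
open scoped MatrixGroups

/-- An element outside `B` lies in one minimal parabolic only. -/
theorem node_eq_of_mem {G : Type*} [Group G] [Finite G] {P : Cfsg.BNPair G} {s x g : G} (hs : s ∈ P.S)
    (hx : x ∈ P.S) (hgs : g ∈ P.parabolic {s}) (hgx : g ∈ P.parabolic {x}) (hg : g ∉ P.B) :
    s = x := by
  by_contra hne
  refine hg ?_
  have hM : P.B ≤ P.parabolic {s} ⊓ P.parabolic {x} :=
    le_inf (B_le_parabolic _) (B_le_parabolic _)
  have hempty : P.S ∩ ((P.parabolic {s} ⊓ P.parabolic {x} : Subgroup G) : Set G) = ∅ := by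
    refine Set.eq_empty_of_forall_notMem fun z hz => hne ?_
    have h1 : z ∈ P.S ∩ (P.parabolic {s} : Set G) := ⟨hz.1, hz.2.1⟩
    have h2 : z ∈ P.S ∩ (P.parabolic {x} : Set G) := ⟨hz.1, hz.2.2⟩
    rw [S_inter_parabolic (Set.singleton_subset_iff.2 hs), Set.mem_singleton_iff] at h1
    rw [S_inter_parabolic (Set.singleton_subset_iff.2 hx), Set.mem_singleton_iff] at h2
    exact h1.symm.trans h2
  have hin : g ∈ P.parabolic {s} ⊓ P.parabolic {x} := ⟨hgs, hgx⟩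
  rwa [eq_parabolic hM, hempty, Cfsg.BNPair.parabolic, Subgroup.closure_empty, sup_bot_eq] at hin

variable {D : ChevalleyDatum} {τ : Setup D} {K : Type*} [Field K] [Finite K]

/-- The graph twists. -/
theorem alwaysTwo_tG (Φ : FieldTwist τ K) (hθ : τ.Faithful) (hA : τ.cfg.AutValid) {p f q : ℕ}
    [Fact p.Prime] (hf : 1 ≤ f) (hq : q = p ^ f) (hfix : Nat.card {x : K // Φ.f x = x} = q)
    (hK : Nat.card K = q ^ τ.cfg.k) (hm : 2 ≤ τ.cfg.m) [IsSimpleGroup ↥Φ.tG] :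
    AlwaysTwo p ↥Φ.tG := by
  classical
  haveI : Finite ↥Φ.tG := inferInstance
  haveI := τ.finite_group hθ
  letI := Fintype.ofFinite τ.cfg.M.Group
  have hp : p.Prime := Fact.out
  have hq1 : 1 < q := hq ▸ Nat.one_lt_pow (by omega) hp.one_lt
  obtain ⟨P, hB, -, hS⟩ := Φ.exists_bnPair hθ
  rw [Φ.borel_inf_tG hθ] at hB
  have hcard : Nat.card (Φ.U1.subgroupOf Φ.tG) = p ^ (f * half D) := by
    rw [Nat.card_congr (Subgroup.subgroupOfEquivOfLe Φ.U1_le_tG).toEquiv,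
      Φ.natCard_u1 hfix hK, hq, ← pow_mul]
  obtain ⟨V, hV⟩ := (IsPGroup.of_card hcard).exists_le_sylow
  have hVU : (V : Subgroup ↥Φ.tG) = Φ.U1.subgroupOf Φ.tG := by
    refine (Subgroup.eq_of_le_of_card_ge hV ?_).symm
    obtain ⟨k, hk⟩ := IsPGroup.iff_card.1 V.2
    rw [hk, hcard]
    refine Nat.pow_le_pow_right hp.pos ?_
    by_contra hlt
    have h1 : p ^ (f * half D + 1) ∣ Nat.card ↥Φ.tG :=
      (pow_dvd_pow p (by omega : f * half D + 1 ≤ k)).trans (hk ▸ Subgroup.card_subgroup_dvd_card _)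
    rw [Φ.natCard_tG hθ hfix hK, hq, ← pow_mul, mul_assoc, pow_succ] at h1
    have h2 := Nat.dvd_of_mul_dvd_mul_left (pow_pos hp.pos _) h1
    rcases hp.dvd_mul.1 h2 with h3 | h3
    · have h4 := dvd_trans h3 (Dvd.intro _ (Φ.natCard_H₀ hfix hK))
      obtain ⟨o, -, ho⟩ := hp.prime.exists_mem_finset_dvd h4
      have hq1' : 1 ≤ q ^ τ.osize (τ.spR o) := Nat.one_le_pow _ _ (by omega)
      have hpq : p ∣ q := hq ▸ dvd_pow_self p (by omega)
      have h5 := Nat.dvd_sub (dvd_pow hpq (τ.osize_pos (τ.spR o)).ne') ho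
      rw [Nat.sub_sub_self hq1'] at h5
      exact hp.not_dvd_one h5
    · exact Φ.not_dvd_sum_wt hθ hp (hq ▸ dvd_pow_self p (by omega)) (by rwa [hq])
  have hVB : Subgroup.normalizer ((V : Subgroup ↥Φ.tG) : Set ↥Φ.tG) = P.B := by
    refine le_antisymm (fun g hg => ?_) fun g hg => ?_
    · rw [hB]
      refine Φ.mem_B1_of_conj hθ g.2 fun x hx => ?_
      have hxV : (⟨x, Φ.U1_le_tG hx⟩ : ↥Φ.tG) ∈ (V : Subgroup ↥Φ.tG) := by rw [hVU]; exact hx
      have h1 := (Subgroup.mem_normalizer_iff.1 hg _).1 hxV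
      rw [hVU] at h1
      exact h1
    · rw [hB] at hg
      refine Subgroup.mem_normalizer_fintype fun x hx => ?_
      simp only [SetLike.mem_coe, hVU] at hx ⊢
      obtain ⟨u, hu, k, hk, e⟩ := Φ.mem_B1_iff.1 hg
      show (g : GL D.Idx K) * (x : GL D.Idx K) * (g : GL D.Idx K)⁻¹ ∈ Φ.U1
      have h1 := mul_mem (mul_mem hu (Φ.H₀_conj_U1 hk hx)) (inv_mem hu)
      rw [← show u * k = (g : GL D.Idx K) from e]
      rwa [show u * k * (x : GL D.Idx K) * (u * k)⁻¹ = u * (k * (x : GL D.Idx K) * k⁻¹) * u⁻¹ by group]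
  refine alwaysTwo_of_one V fun T hT hUT => ?_
  let o₀ : Fin τ.cfg.m := ⟨0, by omega⟩
  have hinj : Function.Injective Φ.nG1 := fun a b e => τ.wR_injective
    ((Φ.monBy_nO a).unique (by
      rw [show Φ.nO a = Φ.nO b from congrArg Subtype.val e]; exact Φ.monBy_nO b))
  refine two_of_nodes V hVB hT hUT (J := {Φ.nG1 o₀}) ?_ (s₀ := Φ.nG1 o₀) rfl
    (s₁ := Φ.nG1 ⟨1, by omega⟩) (by rw [hS]; exact ⟨_, rfl⟩) ?_ ?_
  · rw [hS]; exact Set.singleton_subset_iff.2 ⟨_, rfl⟩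
  · intro e
    simpa [o₀] using congrArg Fin.val (hinj e)
  intro t ht s hs x hx e
  rw [Set.mem_singleton_iff] at hs
  subst hs
  obtain ⟨c, φ, hφ, hteq⟩ := Φ.exists_conj_mul_stabT hθ hf hq hfix hK t
  subst hteq
  have hfixV := map_sylow_eq V hT hUT ht
  have hcB : (c : GL D.Idx K) ∈ Φ.B1 := by
    refine Φ.mem_B1_of_conj hθ c.2 fun u hu => ?_
    have hu0 : app φ⁻¹ u ∈ Φ.U1 := ((inv_mem hφ).1 u).2 hu
    set w : ↥Φ.tG := ⟨_, app_mem φ⁻¹ (Φ.U1_le_tG hu)⟩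
    have hw : w ∈ (V : Subgroup ↥Φ.tG) := by rw [hVU]; exact hu0
    have h1 : (MulAut.conj c * φ) w ∈ (V : Subgroup ↥Φ.tG) := hfixV.le ⟨w, hw, rfl⟩
    rw [hVU] at h1
    have e1 : (φ w : GL D.Idx K) = u := by rw [← app_coe]; exact app_app_inv φ u
    have h2 : (c : GL D.Idx K) * (φ w : GL D.Idx K) * (c : GL D.Idx K)⁻¹ ∈ Φ.U1 := h1
    rwa [e1] at h2
  obtain ⟨r, hr, her⟩ := (Φ.app_orbit hθ hA hq1 hfix hK hφ o₀ (Φ.adm_one _)).2
  have hYP : ∀ r, Φ.Adm (τ.spR o₀) r → ∀ hG : Φ.pY o₀ r ∈ Φ.tG,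
      (⟨Φ.pY o₀ r, hG⟩ : ↥Φ.tG) ∈ P.parabolic {Φ.nG1 o₀} := by
    intro r hr hG
    rcases Φ.pY_mem_parO o₀ hr with h | ⟨b, hb, b', hb', e'⟩
    · exact B_le_parabolic _ (hB ▸ h)
    · have e2 : (⟨Φ.pY o₀ r, hG⟩ : ↥Φ.tG) =
          ⟨b, Φ.B1_le_tG hb⟩ * Φ.nG1 o₀ * ⟨b', Φ.B1_le_tG hb'⟩ := Subtype.ext e'
      rw [e2]
      exact mul_mem (mul_mem (B_le_parabolic _ (by rw [hB]; exact hb)) (mem_parabolic_of_mem rfl))
        (B_le_parabolic _ (by rw [hB]; exact hb'))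
  set g : ↥Φ.tG := ⟨Φ.pY o₀ 1, Φ.oY_mem_tG o₀ (Φ.adm_one _)⟩
  set g' : ↥Φ.tG := ⟨Φ.pY o₀ r, Φ.oY_mem_tG o₀ hr⟩
  have hgg : φ g = g' := Subtype.ext (by rw [← app_coe]; exact her)
  have hcP : c ∈ P.parabolic {x} := B_le_parabolic _ (hB ▸ hcB)
  have hg'x : g' ∈ P.parabolic {x} := by
    have h1 : MulAut.conj c (φ g) ∈ P.parabolic {x} :=
      e ▸ ⟨g, hYP 1 (Φ.adm_one _) _, rfl⟩
    rw [hgg, MulAut.conj_apply] at h1
    simpa [mul_assoc] using mul_mem (mul_mem (inv_mem hcP) h1) hcP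
  refine (node_eq_of_mem (by rw [hS]; exact ⟨o₀, rfl⟩) hx (hYP r hr _) hg'x fun hin => ?_).symm
  rw [hB] at hin
  have h1 : Φ.pY o₀ r = 1 := by
    have h2 : Φ.pY o₀ r ∈ D.borelSubgroup K ⊓ D.negUnipotent K :=
      ⟨Φ.B1_le_borel hin, (Φ.pY_mem_V1 o₀ hr).1⟩
    rwa [borel_inf_neg τ.good, Subgroup.mem_bot] at h2
  refine Φ.pY_ne_one o₀ (Φ.adm_one _) one_ne_zero (app_injective φ ?_)
  rw [her, h1, app_map_one]

/-- The two families. -/
theorem alwaysTwo_twistedE6D4 {p : ℕ} [Fact p.Prime] {G : Type*} [Group G] [Finite G]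
    [IsSimpleGroup G] (h : Cfsg.IsTwistedE6D4Char p G) : AlwaysTwo p G := by
  obtain ⟨K, _, _, _, q, hq, hcase⟩ := h
  obtain ⟨r, f, hr, hf, rfl⟩ := (isPrimePow_nat_iff q).1 hq
  have hrp : r = p := by
    obtain ⟨n, hp, hc⟩ := FiniteField.card K p
    have hdvd : r ∣ p ^ (n : ℕ) := by
      rw [← hc]
      rcases hcase with ⟨hK, -⟩ | ⟨hK, -⟩ <;> rw [hK, ← pow_mul] <;>
        exact dvd_pow_self r (by positivity)
    exact (Nat.prime_dvd_prime_iff_eq hr hp).1 (hr.dvd_of_dvd_pow hdvd)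
  subst hrp
  rcases hcase with ⟨hK, ⟨e⟩⟩ | ⟨hK, ⟨e⟩⟩
  · obtain ⟨Φ, hΦ, -, hfix, hK', -⟩ := twistedE6_eq_tG hq hK
    have e' := e.trans (MulEquiv.subgroupCongr hΦ)
    haveI := isSimpleGroup_congr e'
    exact (alwaysTwo_tG Φ setupE6_faithful cfgE6_autValid hf rfl hfix hK' (by decide)).congr e'
  · obtain ⟨Φ, hΦ, -, hfix, hK', -⟩ := twistedD4_eq_tG hq hK
    have e' := e.trans (MulEquiv.subgroupCongr hΦ)
    haveI := isSimpleGroup_congr e'
    exact (alwaysTwo_tG Φ setupD4_faithful cfgD4_autValid hf rfl hfix hK' (by decide)).congr e'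

end CfsgLib.PMinSocle
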