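import Cfsg.Agent.PMinSocle.Classical
import Cfsg.Agent.PMinSocle.Coset
import Cfsg.Agent.AutPSU.Realise
import Cfsg.Agent.AutPSU.GU
import Cfsg.Agent.MaxSub.UnitarySubspace
import Cfsg.Agent.MaxSub.HermStandard
import Cfsg.Agent.UnitOrders.Witness

/-!
# `PSU_n(q)`, `n ≥ 4`: the stabilisers of a fixed isotropic point and line

The isotropic cosets modulo a totally isotropic subspace are permuted freely by a translation
along a fixed isotropic vector, so a `p`-group of semisimilarities fixes one.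
-/

set_option autoImplicit false
set_option linter.unusedSectionVars false
set_option linter.style.haveILetI false

namespace CfsgLib.PMinSocle

open Matrix Module Cfsg.Geo CfsgLib.MaxSub CfsgLib.MaxSub.UC

variable {p : ℕ} [Fact p.Prime] {F : Type*} [Field F] [Fintype F] [CharP F p] {n q : ℕ}

local notation "V" => Fin n → F
local notation "η" => Cfsg.hermForm n F q

theorem exists_unitaryForm (hF : Fintype.card F = q ^ 2) (n : ℕ) :
    ∃ σ : F ≃+* F, IsUnitaryForm σ (Cfsg.hermForm n F q) ∧ ∀ a, σ a = a ^ q := by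
  obtain ⟨C, rfl⟩ := RepBounds.Unit.exists_conjField q hF
  let σ : F ≃+* F := RingEquiv.ofBijective C.σ
    (Finite.injective_iff_bijective.1 C.σ.injective)
  have hne : σ ≠ RingEquiv.refl F := fun h => C.ne_id (RingHom.ext fun x => by
    have := congrArg (fun e : F ≃+* F => e x) h
    simpa [σ] using this)
  exact ⟨σ, isUnitaryForm_hermForm hne (fun a => C.invol a) (fun a => C.pow a), fun a => C.pow a⟩

/-- A semilinear similitude of the unitary space. -/
def IsSemiU (n q : ℕ) (f : Equiv.Perm (Fin n → F)) : Prop :=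
  ∃ θ : F ≃+* F, (∀ u v, f (u + v) = f u + f v) ∧ (∀ (t : F) v, f (t • v) = θ t • f v) ∧
    ∀ u v, Cfsg.hermForm n F q (f u) (f v) = θ (Cfsg.hermForm n F q u v)

theorem isClass_isSemiU : IsClass (IsSemiU (F := F) n q) where
  one := ⟨RingEquiv.refl F, fun _ _ => rfl, fun _ _ => rfl, fun _ _ => rfl⟩
  mul := by
    rintro f g ⟨σ, ha, hs, hc⟩ ⟨σ', ha', hs', hc'⟩
    refine ⟨σ'.trans σ, fun u v => ?_, fun t v => ?_, fun u v => ?_⟩
    · simp only [Equiv.Perm.mul_apply, ha', ha]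
    · simp only [Equiv.Perm.mul_apply, hs', hs, RingEquiv.trans_apply]
    · simp only [Equiv.Perm.mul_apply, hc, hc', RingEquiv.trans_apply]

theorem exists_induces_su {g : ↥(Cfsg.GU n F q)} {θ : F ≃+* F} :
    ∃ f : Equiv.Perm V, IsSemiU n q f ∧
      Induces (QuotientGroup.mk' (Subgroup.center ↥(Cfsg.SU n F q)))
        (fun (k : ↥(Cfsg.SU n F q)) v => k.1.1 *ᵥ v) f (AutPSU.semiAut g θ) := by
  let f : Equiv.Perm V :=
    { toFun := fun v => g.1.1 *ᵥ (θ ∘ v)
      invFun := fun v => θ.symm ∘ ((g.1⁻¹ : GL (Fin n) F).1 *ᵥ v)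
      left_inv := fun v => by
        simp only [Matrix.mulVec_mulVec, g.1.inv_mul, Matrix.one_mulVec]
        funext i; simp
      right_inv := fun v => by
        have : (θ ∘ (θ.symm ∘ ((g.1⁻¹ : GL (Fin n) F).1 *ᵥ v)) : V) =
            (g.1⁻¹ : GL (Fin n) F).1 *ᵥ v := by funext i; simp
        simp only [this, Matrix.mulVec_mulVec, g.1.mul_inv, Matrix.one_mulVec] }
  refine ⟨f, ⟨θ, fun u v => ?_, fun t v => ?_, fun u v => ?_⟩,
    fun k => ⟨AutPSU.conjSU g (AutPSU.fieldSU θ k), rfl, fun v => ?_⟩⟩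
  · show g.1.1 *ᵥ (θ ∘ (u + v)) = _
    rw [show (θ ∘ (u + v) : V) = θ ∘ u + θ ∘ v from funext fun i => map_add θ _ _, Matrix.mulVec_add]
    rfl
  · show g.1.1 *ᵥ (θ ∘ (t • v)) = _
    rw [show (θ ∘ (t • v) : V) = θ t • (θ ∘ v) from funext fun i => map_mul θ _ _, Matrix.mulVec_smul]
    rfl
  · show η (g.1.1 *ᵥ (θ ∘ u)) (g.1.1 *ᵥ (θ ∘ v)) = _
    rw [AutPSU.mem_GU_iff.1 g.2, AutPSU.hermForm_map_field]
  · show (AutPSU.conjSU g (AutPSU.fieldSU θ k)).1.1 *ᵥ (g.1.1 *ᵥ (θ ∘ v)) =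
      g.1.1 *ᵥ (θ ∘ (k.1.1 *ᵥ v))
    have hfield : (θ ∘ (k.1.1 *ᵥ v) : V) = k.1.1.map θ *ᵥ (θ ∘ v) :=
      funext fun i => θ.toRingHom.map_mulVec k.1.1 v i
    rw [AutPSU.conjSU_coe, hfield, Matrix.mulVec_mulVec, Matrix.mulVec_mulVec, mul_assoc,
      g.1.inv_mul, mul_one]
    rfl

variable {σ : F ≃+* F} (hf : IsUnitaryForm σ (Cfsg.hermForm n F q))

/-- The isotropic vectors of the orthogonal complement. -/
def isoPerp (W : Submodule F V) : Set V := {v | v ∈ uPerp hf W ∧ η v v = 0}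

include hf in
/-- The number of isotropic cosets is divisible by `p`. -/
theorem dvd_card_isoPerp {W : Submodule F V} (hW : IsTotallySingularFor η W) {w : V}
    (hw : w ∈ uPerp hf W) (hw0 : η w w = 0) (hwW : w ∉ W) :
    p ∣ Nat.card ((Submodule.Quotient.mk (p := W)) '' isoPerp hf W) := by
  classical
  have hs := sesqForm_of_unitary hf
  obtain ⟨δ, hδ0, hδ⟩ := exists_traceZero hf.ne_refl hf.involutive
  let d : V → V := fun r => (if η r w = 0 then 1 else σ (δ / η r w)) • w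
  have hdw : ∀ r, η (d r) w = 0 := fun r => by rw [hs.smul_left, hw0, mul_zero]
  refine dvd_card_image_of_shift d ?_ ?_ ?_ ?_ fun v => funext fun i => by simp
  · rintro r ⟨hr, hr0⟩
    refine ⟨add_mem hr (Submodule.smul_mem _ _ hw), ?_⟩
    simp only [d]
    split_ifs with h
    · simp [hs.add_left, hs.add_right, hr0, h, unitary_orth_symm hf h, hw0]
    · rw [hs.add_left, hs.add_right, hs.add_right, hs.smul_right, hs.smul_left, hs.smul_left,
        hs.smul_right, hr0, hw0, hf.involutive, hf.herm w r, ← map_mul, div_mul_cancel₀ _ h, hδ]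
      ring
  · rintro r ⟨hr, -⟩ a ha
    have : η a w = 0 := unitary_orth_symm hf (hw a ha)
    simp only [d, hs.add_left, this, add_zero]
  · rintro r ⟨hr, -⟩
    simp only [d]
    simp only [hs.add_left, hs.smul_left, hw0, mul_zero, add_zero]
  · intro r _ h
    have hne : (if η r w = 0 then (1 : F) else σ (δ / η r w)) ≠ 0 := by
      split_ifs with h'
      · exact one_ne_zero
      · simp [hδ0, h']
    exact hwW ((Submodule.smul_mem_iff _ hne).1 h)

include hf in
/-- An Eichler element: it moves `x` along `y` and fixes `y`. -/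
theorem exists_eichler {a b : V} (haa : η a a = 0) (hba : η b a = 0) :
    ∃ g : ↥(Cfsg.SU n F q), ∀ v, η v a = 0 → g.1.1 *ᵥ v = v - η v b • a := by
  have hs := sesqForm_of_unitary hf
  have hab : η a b = 0 := unitary_orth_symm hf hba
  obtain ⟨lam, hlam⟩ := trace_surjective hf.ne_refl hf.involutive (a := - η b b)
    (by rw [map_neg, herm_self hf])
  let L : V →ₗ[F] V :=
    { toFun := fun v => v + η v a • b + (lam * η v a - η v b) • a
      map_add' := fun u v => by
        simp only [hs.add_left]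
        module
      map_smul' := fun c v => by
        simp only [hs.smul_left, RingHom.id_apply]
        module }
  set A : Matrix (Fin n) (Fin n) F := LinearMap.toMatrix' L with hA
  have happ : ∀ v, A *ᵥ v = v + η v a • b + (lam * η v a - η v b) • a := fun v => by
    rw [hA, LinearMap.toMatrix'_mulVec]; rfl
  have hdet : A.det = 1 := by
    have hN : ∀ v, (A - 1) *ᵥ v = η v a • b + (lam * η v a - η v b) • a := fun v => by
      rw [sub_mulVec, one_mulVec, happ]; abel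
    refine CfsgLib.RepBounds.Unit.det_eq_one_of_cube _ (Matrix.ext_iff_mulVec.2 fun v => ?_)
    rw [pow_succ, pow_two, ← mulVec_mulVec, ← mulVec_mulVec, hN, hN, hN, zero_mulVec]
    simp [hs.add_left, hs.neg_left, hs.smul_left, haa, hba, hab]
  refine ⟨⟨⟨A, hdet⟩, AutPSU.mem_SU_iff'.2 fun u v => ?_⟩, fun v hv => ?_⟩
  · show η (A *ᵥ u) (A *ᵥ v) = η u v
    simp only [happ, hs.add_left, hs.add_right, hs.smul_left, hs.smul_right, haa, hba, hab,
      map_sub, map_mul, ← hf.herm]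
    linear_combination η u a * η a v * hlam
  · show A *ᵥ v = _
    rw [happ, hv]
    simp [sub_eq_add_neg]

/-- The embedding of `SU` in `GL`. -/
noncomputable def suToGL : ↥(Cfsg.SU n F q) →* GL (Fin n) F :=
  (Cfsg.GU n F q).subtype.comp AutPSU.suToGU

theorem range_suToGL :
    (suToGL (F := F) (n := n) (q := q)).range = Cfsg.GU n F q ⊓ specialLinear (Fin n) F := by
  ext g
  constructor
  · rintro ⟨s, rfl⟩
    exact ⟨(AutPSU.suToGU s).2, Units.ext s.1.2⟩
  · rintro ⟨hg, hdet⟩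
    have hd : (g : Matrix (Fin n) (Fin n) F).det = 1 := congrArg Units.val hdet
    exact ⟨⟨⟨g.1, hd⟩, AutPSU.mem_SU_iff'.2 (AutPSU.mem_GU_iff.1 hg)⟩, Units.ext rfl⟩

theorem suToGL_injective : Function.Injective (suToGL (F := F) (n := n) (q := q)) := fun a b h =>
  Subtype.ext (Subtype.ext (congrArg (fun g : GL (Fin n) F => g.1) h))

theorem mem_suStab {W : Submodule F V} (k : ↥(Cfsg.SU n F q)) :
    k ∈ (subspaceStabilizer W).comap suToGL ↔ ∀ w ∈ W, k.1.1 *ᵥ w ∈ W :=
  ⟨fun h w hw => ((mem_subspaceStabilizer_iff.1 h) w).1 hw,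
    fun h => mem_subspaceStabilizer_of_le h⟩

/-- **Two invariant parabolics for `PSU_n(q)`**, `n ≥ 4`. -/
theorem alwaysTwo_PSU (hF : Fintype.card F = q ^ 2) (hn : 4 ≤ n)
    [IsSimpleGroup (Cfsg.PSU n F q)] : AlwaysTwo p (Cfsg.PSU n F q) := by
  classical
  haveI : Finite ↥(Cfsg.SU n F q) := Subtype.finite
  haveI : Finite (Cfsg.PSU n F q) := Quotient.finite _
  obtain ⟨σ, hf, hσ⟩ := exists_unitaryForm hF n
  have hs' := sesqForm_of_unitary hf
  have hker : ∀ W : Submodule F V, (QuotientGroup.mk' (Subgroup.center ↥(Cfsg.SU n F q))).ker ≤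
      (subspaceStabilizer W).comap suToGL := fun W z hz => by
    rw [QuotientGroup.ker_mk'] at hz
    obtain ⟨c, hc⟩ := CfsgLib.UnitOrders.scalar_of_mem_center (τ := σ.toRingHom) hσ hF (by omega) hz
    refine (mem_suStab z).2 fun w hw => ?_
    rw [show z.1.1 = c • (1 : Matrix (Fin n) (Fin n) F) from hc, smul_mulVec, one_mulVec]
    exact W.smul_mem c hw
  refine alwaysTwo_of_stab (ρ := QuotientGroup.mk' (Subgroup.center ↥(Cfsg.SU n F q)))
    (act := fun (k : ↥(Cfsg.SU n F q)) v => k.1.1 *ᵥ v) (IsSemiU (F := F) n q) isClass_isSemiU ?_ ?_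
  · intro β
    obtain ⟨g, θ, rfl⟩ := AutPSU.exists_semiAut hF (by omega) (by omega) β
    exact exists_induces_su
  intro H hH hs
  have hadd : ∀ f ∈ H, ∀ u v : V, f (u + v) = f u + f v := fun f hf => by
    obtain ⟨θ, h, -, -⟩ := hs f hf; exact h
  have hsmul : ∀ f ∈ H, ∀ (t : F) (v : V), ∃ t', f (t • v) = t' • f v := fun f hf t v => by
    obtain ⟨θ, -, h, -⟩ := hs f hf; exact ⟨θ t, h t v⟩
  have hiso : ∀ (W : Submodule F V), (∀ f ∈ H, ∀ w ∈ W, f w ∈ W) →
      ∀ f ∈ H, ∀ v ∈ isoPerp hf W, f v ∈ isoPerp hf W := by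
    intro W hW g hg v hv
    obtain ⟨θ, -, -, hc⟩ := hs g hg
    refine ⟨fun a ha => ?_, by rw [hc, hv.2, map_zero]⟩
    have ha' := hW g⁻¹ (inv_mem hg) a ha
    have := hc v (g⁻¹ a)
    rw [hv.1 _ ha', map_zero] at this
    simpa using this
  have hzero : ∀ W : Submodule F V, (0 : V) ∈ isoPerp hf W := fun W =>
    ⟨zero_mem _, hs'.zero_left 0⟩
  obtain ⟨z₀, -, hz₀0, hz₀⟩ := exists_iso_mem hf (⊤ : Submodule F V)
    (by rw [finrank_top, finrank_fin_fun]; omega)
  have hbot : ∀ f ∈ H, ∀ w ∈ (⊥ : Submodule F V), f w ∈ (⊥ : Submodule F V) := by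
    intro g hg w hw
    rw [Submodule.mem_bot] at hw ⊢
    have h := hadd g hg 0 0
    rw [add_zero] at h
    rw [hw]
    simpa using h.symm
  have hbotiso : IsTotallySingularFor η (⊥ : Submodule F V) := fun a ha b _ => by
    rw [(Submodule.mem_bot F).1 ha]; exact hs'.zero_left b
  obtain ⟨x, ⟨-, hxx⟩, hx0, hxfix'⟩ := exists_fixed_coset_of_dvd hH hadd hbot (hiso _ hbot)
    (hzero _) (dvd_card_isoPerp hf hbotiso (w := z₀) (fun a ha => by
      rw [(Submodule.mem_bot F).1 ha]; exact hs'.zero_right z₀) hz₀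
      (fun h => hz₀0 ((Submodule.mem_bot F).1 h)))
  have hx0' : x ≠ 0 := fun h => hx0 ((Submodule.mem_bot F).2 h)
  have hxfix : ∀ f ∈ H, f x = x := fun g hg =>
    sub_eq_zero.1 ((Submodule.mem_bot F).1 (hxfix' g hg))
  set W₁ := F ∙ x with hW₁
  have hxmem : x ∈ W₁ := Submodule.mem_span_singleton_self x
  have hW₁inv : ∀ f ∈ H, ∀ w ∈ W₁, f w ∈ W₁ := fun g hg w hw => by
    obtain ⟨t, rfl⟩ := Submodule.mem_span_singleton.1 hw
    obtain ⟨t', ht'⟩ := hsmul g hg t x
    rw [ht', hxfix g hg]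
    exact Submodule.smul_mem _ _ hxmem
  have hW₁iso : IsTotallySingularFor η W₁ := fun a ha b hb => by
    obtain ⟨s, rfl⟩ := Submodule.mem_span_singleton.1 ha
    obtain ⟨t, rfl⟩ := Submodule.mem_span_singleton.1 hb
    rw [hs'.smul_left, hs'.smul_right, hxx, mul_zero, mul_zero]
  obtain ⟨w₀, hw₀⟩ := hs'.exists_left_ne_zero hx0'
  obtain ⟨x', -, hx'x', hx'x⟩ := exists_iso_partner hf (U := ⊤) Submodule.mem_top hxx
    Submodule.mem_top hw₀
  have hd1 : finrank F ↥W₁ = 1 := finrank_span_singleton hx0'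
  have hd2 : finrank F ↥(W₁ ⊔ F ∙ x') ≤ 2 :=
    (Submodule.finrank_add_le_finrank_add_finrank W₁ (F ∙ x')).trans (by
      have := finrank_span_le_card (R := F) ({x'} : Set V)
      rw [hd1]
      simp only [Set.toFinset_singleton, Finset.card_singleton] at this
      omega)
  obtain ⟨z, hz, hz0, hzz⟩ := exists_iso_mem hf (uPerp hf (W₁ ⊔ F ∙ x')) (by
    have := finrank_uPerp hf (W₁ ⊔ F ∙ x')
    omega)
  have hzW₁ : z ∈ uPerp hf W₁ := fun a ha => hz a (Submodule.mem_sup_left ha)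
  have hzn : z ∉ W₁ := fun h => by
    obtain ⟨t, rfl⟩ := Submodule.mem_span_singleton.1 h
    have h1 := hz x' (Submodule.mem_sup_right (Submodule.mem_span_singleton_self x'))
    rw [hs'.smul_left, mul_eq_zero] at h1
    rcases h1 with h1 | h1
    · exact hz0 (by rw [h1, zero_smul])
    · rw [unitary_orth_symm hf h1] at hx'x
      exact zero_ne_one hx'x
  obtain ⟨y, ⟨hy, hyy⟩, hyW, hyfix⟩ := exists_fixed_coset_of_dvd hH hadd hW₁inv (hiso _ hW₁inv)
    (hzero _) (dvd_card_isoPerp hf hW₁iso hzW₁ hzz hzn)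
  set W₂ := W₁ ⊔ F ∙ y with hW₂
  have hyx : η y x = 0 := hy x hxmem
  have hxy : η x y = 0 := unitary_orth_symm hf hyx
  have hW₂iso : IsTotallySingularFor η W₂ := fun a ha b hb => by
    obtain ⟨a₁, ha₁, a₂, ha₂, rfl⟩ := Submodule.mem_sup.1 ha
    obtain ⟨b₁, hb₁, b₂, hb₂, rfl⟩ := Submodule.mem_sup.1 hb
    obtain ⟨s₁, rfl⟩ := Submodule.mem_span_singleton.1 ha₁
    obtain ⟨s₂, rfl⟩ := Submodule.mem_span_singleton.1 ha₂
    obtain ⟨t₁, rfl⟩ := Submodule.mem_span_singleton.1 hb₁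
    obtain ⟨t₂, rfl⟩ := Submodule.mem_span_singleton.1 hb₂
    simp only [hs'.add_left, hs'.add_right, hs'.smul_left, hs'.smul_right, hxx, hyy, hyx, hxy,
      mul_zero, add_zero]
  have hW₂inv : ∀ f ∈ H, ∀ w ∈ W₂, f w ∈ W₂ := fun g hg w hw => by
    obtain ⟨a, ha, b, hb, rfl⟩ := Submodule.mem_sup.1 hw
    obtain ⟨t, rfl⟩ := Submodule.mem_span_singleton.1 hb
    obtain ⟨t', ht'⟩ := hsmul g hg t y
    rw [hadd g hg, ht']
    refine add_mem (Submodule.mem_sup_left (hW₁inv g hg a ha)) (Submodule.smul_mem _ _ ?_)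
    rw [show g y = (g y - y) + y by abel]
    exact add_mem (Submodule.mem_sup_left (hyfix g hg))
      (Submodule.mem_sup_right (Submodule.mem_span_singleton_self y))
  have hW₁0 : W₁ ≠ ⊥ := fun h => hx0' ((Submodule.mem_bot F).1 (h ▸ hxmem))
  have hW₂0 : W₂ ≠ ⊥ := fun h => hW₁0 (eq_bot_iff.2 (h ▸ le_sup_left))
  have hmax : ∀ {W : Submodule F V}, W ≠ ⊥ → IsTotallySingularFor η W →
      IsCoatom (((subspaceStabilizer W).comap suToGL).map
        (QuotientGroup.mk' (Subgroup.center ↥(Cfsg.SU n F q)))) := fun {W} h0 hW =>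
    isCoatom_map (QuotientGroup.mk'_surjective _)
      (isCoatom_comap suToGL_injective (by
        rw [range_suToGL]; exact isMaximalIn_uSingular hf hσ hF hn h0 hW)) (hker W)
  refine ⟨(W₁ : Set V), (W₂ : Set V), _, _, mem_suStab, mem_suStab, hW₁inv, hW₂inv,
    hmax hW₁0 hW₁iso, hmax hW₂0 hW₂iso, ?_⟩
  intro heq
  obtain ⟨b, hby, hxb⟩ : ∃ b, η b y = 0 ∧ η x b ≠ 0 := by
    by_contra hcon
    push Not at hcon
    have hmem : x ∈ uPerp hf (uPerp hf (F ∙ y)) := fun v hv =>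
      hcon v (hv y (Submodule.mem_span_singleton_self y))
    rw [uPerp_uPerp] at hmem
    obtain ⟨t, ht⟩ := Submodule.mem_span_singleton.1 hmem
    have ht0 : t ≠ 0 := fun h => hx0' (by rw [← ht, h, zero_smul])
    exact hyW (Submodule.mem_span_singleton.2 ⟨t⁻¹, by rw [← ht, inv_smul_smul₀ ht0]⟩)
  obtain ⟨g, hg⟩ := exists_eichler hf hyy hby
  have hgy : g.1.1 *ᵥ y = y := by rw [hg y hyy, unitary_orth_symm hf hby]; simp
  have hg2 : g ∈ (subspaceStabilizer W₂).comap suToGL :=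
    (mem_suStab g).2 fun v hv => by
      obtain ⟨a, ha, c, hc, rfl⟩ := Submodule.mem_sup.1 hv
      obtain ⟨t, rfl⟩ := Submodule.mem_span_singleton.1 hc
      obtain ⟨s, rfl⟩ := Submodule.mem_span_singleton.1 ha
      rw [Matrix.mulVec_add, Matrix.mulVec_smul, Matrix.mulVec_smul, hgy, hg x hxy]
      exact add_mem (Submodule.smul_mem _ _ (sub_mem (Submodule.mem_sup_left hxmem)
        (Submodule.smul_mem _ _ (Submodule.mem_sup_right (Submodule.mem_span_singleton_self y)))))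
        (Submodule.mem_sup_right hc)
  rw [← Subgroup.comap_map_eq_self (hker W₂), ← heq,
    Subgroup.comap_map_eq_self (hker W₁)] at hg2
  have h := (mem_suStab g).1 hg2 x hxmem
  rw [hg x hxy, W₁.sub_mem_iff_right hxmem] at h
  exact hyW ((Submodule.smul_mem_iff _ hxb).1 h)

end CfsgLib.PMinSocle
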