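import Cfsg.Agent.PMinSocle.Linear
import Cfsg.Agent.PMinSocle.LinearThree
import Cfsg.Agent.PMinSocle.Symplectic
import Cfsg.Agent.PMinSocle.Unitary
import Cfsg.Agent.PMinSocle.Orthogonal
import Cfsg.Agent.PMinSocle.ChevInstances
import Cfsg.Agent.PMinSocle.Twisted
import Cfsg.Agent.PMinSocle.ReeTwoFFour
import Cfsg.Agent.AutPOmega.Std
import Cfsg.Agent.MultPSp.Four
import Cfsg.Agent.S1082
import Cfsg.Agent.S0249
import Cfsg.Agent.S0270
import Cfsg.Agent.S0283
import Cfsg.Agent.S0295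
import Cfsg.Agent.S0296
import Cfsg.Agent.S0297
import Cfsg.Prelude.Def_AlmostLie

/-!
# The three outcomes, family by family
-/

set_option autoImplicit false
set_option linter.style.haveILetI false

namespace CfsgLib.PMinSocle

open CfsgLib.AutPOmega CfsgLib.StdForms

/-- The list of rank two groups with a graph automorphism in characteristic two. -/
def GraphList (L : Type*) [Group L] : Prop :=
  (∃ (F : Type) (_ : Field F) (_ : Fintype F) (_ : CharP F 2),
      Nonempty (L ≃* Matrix.ProjectiveSpecialLinearGroup (Fin 3) F)) ∨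
    (∃ (F : Type) (_ : Field F) (_ : Fintype F) (_ : CharP F 2),
      4 ≤ Fintype.card F ∧ Nonempty (L ≃* Cfsg.PSp 2 F)) ∨
    Nonempty (L ≃* ↥(alternatingGroup (Fin 6)))

/-- What is shown for each simple group of Lie type of rank at least two. -/
def Outcome (p : ℕ) (L : Type*) [Group L] : Prop :=
  AlwaysTwo p L ∨ (p = 2 ∧ TwoOrSmall p L ∧ GraphList L)

variable {p : ℕ} [Fact p.Prime] {G : Type*} [Group G] [Finite G] [IsSimpleGroup G]

theorem two_lt_card_of_charP_two {F : Type*} [Field F] [Fintype F] [CharP F 2]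
    (h : 3 ≤ Fintype.card F) : 4 ≤ Fintype.card F := by
  obtain ⟨n, -, hn⟩ := FiniteField.card F 2
  rw [hn] at h ⊢
  have h2 : 2 ≤ (n : ℕ) := by
    by_contra hlt
    have : (n : ℕ) = 1 := by have := n.pos; omega
    rw [this] at h
    omega
  calc 4 = 2 ^ 2 := by norm_num
    _ ≤ 2 ^ (n : ℕ) := Nat.pow_le_pow_right (by norm_num) h2

/-- `PSL_n`, `n ≥ 3`. -/
theorem outcome_PSL {F : Type} [Field F] [Fintype F] [CharP F p] {n : ℕ} (hn : 3 ≤ n)
    (e : G ≃* Matrix.ProjectiveSpecialLinearGroup (Fin n) F) : Outcome p G := by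
  obtain ⟨m, rfl⟩ : ∃ m, n = m + 1 := ⟨n - 1, by omega⟩
  haveI := isSimpleGroup_congr e
  by_cases h : 3 ≤ m ∨ p ≠ 2
  · exact Or.inl ((alwaysTwo_PSL (m := m) (by omega) h).congr e)
  · push Not at h
    obtain ⟨hm, rfl⟩ := h
    obtain rfl : m = 2 := by omega
    exact Or.inr ⟨rfl, twoOrSmall_PSL_three.congr e, Or.inl ⟨F, inferInstance, inferInstance, inferInstance, ⟨e⟩⟩⟩

/-- `PSp_{2m}`. -/
theorem outcome_PSp {F : Type} [Field F] [Fintype F] [CharP F p] {m : ℕ} (hm : 2 ≤ m)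
    (h3 : m = 2 → 3 ≤ Fintype.card F) (e : G ≃* Cfsg.PSp m F) : Outcome p G := by
  haveI := isSimpleGroup_congr e
  by_cases h : m = 2 ∧ p = 2
  · obtain ⟨rfl, rfl⟩ := h
    obtain ⟨f⟩ := CfsgLib.MultPSp.nonempty_chevB2_equiv (F := F) (h3 rfl)
    haveI := isSimpleGroup_congr (e.trans f.symm)
    exact Or.inr ⟨rfl, (twoOrSmall_chevB2 F).congr (e.trans f.symm),
      Or.inr (Or.inl ⟨F, _, _, ‹_›, two_lt_card_of_charP_two (h3 rfl), ⟨e⟩⟩)⟩
  · exact Or.inl ((alwaysTwo_PSp hm fun hm2 hp => h ⟨hm2, hp⟩).congr e)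

/-- `PSU_n`, `n ≥ 4`. -/
theorem outcome_PSU {F : Type} [Field F] [Fintype F] [CharP F p] {n q : ℕ}
    (hF : Fintype.card F = q ^ 2) (hn : 4 ≤ n) (e : G ≃* Cfsg.PSU n F q) : Outcome p G :=
  haveI := isSimpleGroup_congr e
  Or.inl ((alwaysTwo_PSU hF hn).congr e)

/-- The orthogonal groups. -/
theorem outcome_POmega
    (h : Cfsg.IsPOmegaOddChar p G ∨ Cfsg.IsPOmegaPlusChar p G ∨ Cfsg.IsPOmegaMinusChar p G) :
    Outcome p G := by
  refine Or.inl ?_
  rcases h with ⟨F, _, _, _, m, hm, hodd, ⟨e⟩⟩ | ⟨F, _, _, _, m, hm, ⟨e⟩⟩ |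
    ⟨F, _, _, _, m, a, b, hm, hab, ⟨e⟩⟩
  · have h2 : (2 : F) ≠ 0 := Ring.two_ne_zero fun hc =>
      (Nat.not_even_iff_odd.2 hodd) (Nat.even_iff.2 (FiniteField.even_card_iff_char_two.1 hc))
    obtain ⟨e⟩ : Nonempty (G ≃* Cfsg.POmega F ⇑(oddQ m F)) := by
      rw [coe_oddQ]; exact ⟨e⟩
    haveI := isSimpleGroup_congr e
    exact (alwaysTwo_POmega (ctx_oddQ hm h2)
      (fun β => (ctx_oddQ hm h2).exists_semi (noTriality_oddQ h2) β)).congr e
  · by_cases hm4 : m = 4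
    · subst hm4
      obtain ⟨f⟩ := Cfsg.Agent.S1082.result (F := F)
      haveI := isSimpleGroup_congr (e.trans f.symm)
      exact (alwaysTwo_chevD4 F).congr (e.trans f.symm)
    · obtain ⟨e⟩ : Nonempty (G ≃* Cfsg.POmega F ⇑(plusQ m F)) := by
        rw [coe_plusQ]; exact ⟨e⟩
      haveI := isSimpleGroup_congr e
      exact (alwaysTwo_POmega (ctx_plusQ hm)
        (fun β => (ctx_plusQ hm).exists_semi (noTriality_plusQ (by omega)) β)).congr e
  · obtain ⟨e⟩ : Nonempty (G ≃* Cfsg.POmega F ⇑(minusQ (m - 1) F a b)) := by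
      rw [coe_minusQ]; exact ⟨e⟩
    haveI := isSimpleGroup_congr e
    exact (alwaysTwo_POmega (ctx_minusQ (by omega) hab)
      (fun β => (ctx_minusQ (by omega) hab).exists_semi (noTriality_minusQ hab) β)).congr e

end CfsgLib.PMinSocle
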