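import Cfsg.Agent.PMinSocle.Basic
import Mathlib.GroupTheory.QuotientGroup.Basic
import Mathlib.Data.Fintype.Perm

/-!
# Lifting a `p`-group of automorphisms to a `p`-group of bijections of the natural module

and the fixed vectors of such a group.
-/

set_option autoImplicit false
set_option linter.style.haveILetI false

namespace CfsgLib.PMinSocle

open Subgroup

variable {p : ℕ} [Fact p.Prime]

/-- A surjection from a finite group onto a `p`-group is onto from a Sylow subgroup. -/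
theorem map_sylow_eq_top {G A : Type*} [Group G] [Finite G] [Group A] (f : G →* A)
    (hf : Function.Surjective f) (hA : IsPGroup p A) (P : Sylow p G) :
    (P : Subgroup G).map f = ⊤ := by
  have htop : IsPGroup p ↥(⊤ : Subgroup A) := hA.to_subgroup ⊤
  have := (P.mapSurjective hf).3 htop le_top
  exact this.symm

/-- A `p`-group of automorphisms induced by bijections lifts to a `p`-group of bijections. -/
theorem exists_lift {V A : Type*} [Finite V] [Group A] [Finite A] {T : Subgroup A}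
    (hT : IsPGroup p T) (R : Equiv.Perm V → A → Prop) (h1 : R 1 1)
    (hmul : ∀ f g s t, R f s → R g t → R (f * g) (s * t)) (hex : ∀ t ∈ T, ∃ f, R f t) :
    ∃ H : Subgroup (Equiv.Perm V), IsPGroup p H ∧ (∀ f ∈ H, ∃ t ∈ T, R f t) ∧
      ∀ t ∈ T, ∃ f ∈ H, R f t := by
  let M : Submonoid (Equiv.Perm V × A) :=
    { carrier := {x | x.2 ∈ T ∧ R x.1 x.2}
      one_mem' := ⟨one_mem _, h1⟩
      mul_mem' := fun {x y} hx hy => ⟨mul_mem hx.1 hy.1, hmul _ _ _ _ hx.2 hy.2⟩ }
  have hinv : ∀ x ∈ M, x⁻¹ ∈ M := fun x hx => by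
    have he : x⁻¹ = x ^ (orderOf x - 1) := by
      rw [inv_eq_iff_mul_eq_one, ← pow_succ',
        Nat.sub_add_cancel (orderOf_pos x), pow_orderOf_eq_one]
    exact he ▸ M.pow_mem hx _
  let G : Subgroup (Equiv.Perm V × A) := { M with inv_mem' := fun {x} hx => hinv x hx }
  let π : ↥G →* ↥T :=
    ((MonoidHom.snd (Equiv.Perm V) A).comp G.subtype).codRestrict T fun x => x.2.1
  have hπ : Function.Surjective π := fun t => by
    obtain ⟨f, hf⟩ := hex t.1 t.2
    exact ⟨⟨(f, t.1), t.2, hf⟩, Subtype.ext rfl⟩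
  obtain ⟨P⟩ : Nonempty (Sylow p ↥G) := inferInstance
  refine ⟨(P : Subgroup ↥G).map ((MonoidHom.fst (Equiv.Perm V) A).comp G.subtype), P.2.map _,
    ?_, ?_⟩
  · rintro _ ⟨x, -, rfl⟩
    exact ⟨x.1.2, x.2.1, x.2.2⟩
  · intro t ht
    obtain ⟨x, hx, e⟩ := (map_sylow_eq_top π hπ hT P).ge (Subgroup.mem_top (⟨t, ht⟩ : ↥T))
    refine ⟨x.1.1, ⟨x, hx, rfl⟩, ?_⟩
    have e' : x.1.2 = t := congrArg Subtype.val e
    exact e' ▸ x.2.2

variable {V : Type*} [AddCommGroup V] [Finite V] {H : Subgroup (Equiv.Perm V)}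

/-- A `p`-group of additive bijections fixes a coset of a proper invariant subgroup, other than
the trivial one, in each invariant subgroup of `p`-power order. -/
theorem exists_fixed_coset (hH : IsPGroup p H) (hadd : ∀ f ∈ H, ∀ u v, f (u + v) = f u + f v)
    {U W : AddSubgroup V} (hU : ∀ f ∈ H, ∀ u ∈ U, f u ∈ U) (hW : ∀ f ∈ H, ∀ w ∈ W, f w ∈ W)
    (hWU : W < U) (hp : ∀ v : V, p • v = 0) : ∃ v ∈ U, v ∉ W ∧ ∀ f ∈ H, f v - v ∈ W := by
  classical
  set W' := W.comap U.subtype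
  have key : ∀ (f : Equiv.Perm V) (hf : f ∈ H) (a b : ↥U), -a + b ∈ W' →
      -(⟨f a, hU f hf a a.2⟩ : ↥U) + ⟨f b, hU f hf b b.2⟩ ∈ W' := by
    intro f hf a b hab
    show -f a + f b ∈ W
    have hab' : -(a : V) + b ∈ W := hab
    have h := hW f hf _ hab'
    have h2 := hadd f hf (a : V) (-(a : V) + b)
    rw [add_neg_cancel_left] at h2
    rwa [h2, neg_add_cancel_left]
  letI : MulAction ↥H (↥U ⧸ W') :=
    { smul := fun f => Quotient.map' (fun a => ⟨f.1 a, hU f.1 f.2 a a.2⟩) fun a b hab => by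
        rw [QuotientAddGroup.leftRel_apply] at hab ⊢
        exact key f.1 f.2 a b hab
      one_smul := fun x => by
        induction x using QuotientAddGroup.induction_on with
        | H u => rfl
      mul_smul := fun f g x => by
        induction x using QuotientAddGroup.induction_on with
        | H u => rfl }
  have hzero : ((0 : ↥U) : ↥U ⧸ W') ∈ MulAction.fixedPoints ↥H (↥U ⧸ W') := fun f => by
    refine congrArg QuotientAddGroup.mk (Subtype.ext ?_)
    show f.1 ((0 : ↥U) : V) = 0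
    have h := hadd f.1 f.2 0 0
    rw [add_zero] at h
    simpa using h.symm
  have hdvd : p ∣ Nat.card (↥U ⧸ W') := by
    obtain ⟨u, hu, hu'⟩ := SetLike.exists_of_lt hWU
    set x : ↥U ⧸ W' := ((⟨u, hu⟩ : ↥U) : ↥U ⧸ W')
    have hx : x ≠ 0 := fun h => hu' ((QuotientAddGroup.eq_zero_iff (⟨u, hu⟩ : ↥U)).1 h)
    have hpx : p • x = 0 := by
      show ((p • (⟨u, hu⟩ : ↥U) : ↥U) : ↥U ⧸ W') = 0
      rw [show p • (⟨u, hu⟩ : ↥U) = 0 from Subtype.ext (hp u)]
      rfl
    exact (addOrderOf_eq_prime hpx hx) ▸ addOrderOf_dvd_natCard x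
  obtain ⟨b, hb, hb0⟩ := hH.exists_fixed_point_of_prime_dvd_card_of_fixed_point _ hdvd hzero
  induction b using QuotientAddGroup.induction_on with
  | H u =>
    refine ⟨u.1, u.2, fun h => hb0 ((QuotientAddGroup.eq_zero_iff u).2 h).symm, fun f hf => ?_⟩
    have h := (QuotientAddGroup.eq.1 (hb ⟨f, hf⟩).symm : -u + _ ∈ W')
    rw [sub_eq_neg_add]
    exact h

/-- A `p`-group of additive bijections fixes a nonzero vector in each nontrivial invariant
subgroup of exponent `p`. -/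
theorem exists_fixed_vector (hH : IsPGroup p H) (hadd : ∀ f ∈ H, ∀ u v, f (u + v) = f u + f v)
    {U : AddSubgroup V} (hU : ∀ f ∈ H, ∀ u ∈ U, f u ∈ U) (hne : U ≠ ⊥)
    (hp : ∀ v : V, p • v = 0) : ∃ v ∈ U, v ≠ 0 ∧ ∀ f ∈ H, f v = v := by
  have h0 : ∀ f ∈ H, f 0 = 0 := fun f hf => by
    have h := hadd f hf 0 0
    rw [add_zero] at h
    simpa using h.symm
  obtain ⟨v, hv, hv0, h⟩ := exists_fixed_coset hH hadd hU (W := ⊥)
    (fun f hf w hw => by rw [AddSubgroup.mem_bot] at hw ⊢; rw [hw, h0 f hf])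
    (bot_lt_iff_ne_bot.2 hne) hp
  exact ⟨v, hv, fun e => hv0 (AddSubgroup.mem_bot.2 e),
    fun f hf => sub_eq_zero.1 (AddSubgroup.mem_bot.1 (h f hf))⟩

/-- A map of period `p` without fixed points. -/
theorem dvd_card_of_iterate {α : Type*} [Finite α] (φ : α → α) (hp : φ^[p] = id)
    (hfree : ∀ x, φ x ≠ x) : p ∣ Nat.card α := by
  have hinv : Function.LeftInverse φ^[p - 1] φ := fun x => by
    rw [← Function.iterate_succ_apply, Nat.succ_eq_add_one,
      Nat.sub_add_cancel (Fact.out : p.Prime).one_le, hp]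
    rfl
  let e : Equiv.Perm α := Equiv.ofBijective φ (Finite.injective_iff_bijective.1 hinv.injective)
  have he : e ^ p = 1 := Equiv.ext fun x => by
    rw [Equiv.Perm.coe_pow]
    exact congrFun hp x
  have hpg : IsPGroup p ↥(Subgroup.zpowers e) := fun y => by
    refine ⟨1, ?_⟩
    obtain ⟨k, hk⟩ := y.2
    refine Subtype.ext ?_
    rw [pow_one, SubgroupClass.coe_pow, ← hk, ← zpow_natCast, ← zpow_mul, mul_comm, zpow_mul,
      zpow_natCast, he, one_zpow]
    rfl
  by_contra hnd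
  obtain ⟨x, hx⟩ := hpg.nonempty_fixed_point_of_prime_not_dvd_card α hnd
  exact hfree x (hx ⟨e, Subgroup.mem_zpowers e⟩)

/-- A `p`-group preserving a set of size prime to `p` fixes a member. -/
theorem exists_fixed_mem {α : Type*} [Finite α] {H : Subgroup (Equiv.Perm α)} (hH : IsPGroup p H)
    {Z : Set α} (hZ : ∀ f ∈ H, ∀ x ∈ Z, f x ∈ Z) (hcard : ¬ p ∣ Nat.card Z) :
    ∃ x ∈ Z, ∀ f ∈ H, f x = x := by
  letI : MulAction ↥H ↥Z :=
    { smul := fun f x => ⟨f.1 x, hZ f.1 f.2 x x.2⟩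
      one_smul := fun x => rfl
      mul_smul := fun f g x => rfl }
  obtain ⟨x, hx⟩ := hH.nonempty_fixed_point_of_prime_not_dvd_card ↥Z hcard
  exact ⟨x.1, x.2, fun f hf => congrArg Subtype.val (hx ⟨f, hf⟩)⟩

end CfsgLib.PMinSocle
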