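import Cfsg.Agent.PMinSocle.OneSylow
import Cfsg.Agent.AutPSL.Main
import Cfsg.Agent.AutPSL.Transvection
import Cfsg.Agent.MaxSub.Transvection
import Cfsg.Agent.MaxSub.Subspace

/-!
# `PSL_n(q)`, `n ≥ 3`: standard parabolics invariant under an admissible group

An automorphism fixing the upper unitriangular group moves the standard parabolics by the identity
or the reversal of the path, so symmetric sets of nodes give invariant parabolics.  For `n = 3`,
`p = 2` the only other possibility is that every invariant proper overgroup is inside the Borel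
subgroup.
-/

set_option autoImplicit false
set_option linter.unusedSectionVars false
set_option linter.style.haveILetI false

namespace CfsgLib.PMinSocle

open Matrix Subgroup CfsgLib.AutPSL Cfsg.Geo CfsgLib.MaxSub

variable {p : ℕ} [Fact p.Prime] {F : Type*} [Field F] [Fintype F] [CharP F p] {m : ℕ}

local notation "SL" => Matrix.SpecialLinearGroup (Fin (m + 1)) F
local notation "L" => Matrix.ProjectiveSpecialLinearGroup (Fin (m + 1)) F
local notation "V" => Fin (m + 1) → F

/-- The vectors supported on the first `k + 1` coordinates. -/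
def coordSub (k : Fin m) : Submodule F V where
  carrier := {v | ∀ i : Fin (m + 1), k.val < i.val → v i = 0}
  add_mem' := fun {u v} hu hv i hi => by rw [Pi.add_apply, hu i hi, hv i hi, add_zero]
  zero_mem' := fun i _ => rfl
  smul_mem' := fun c v hv i hi => by rw [Pi.smul_apply, hv i hi, smul_zero]

/-- Their stabiliser. -/
def stabC (F : Type*) [Field F] {m : ℕ} (k : Fin m) :
    Subgroup (Matrix.SpecialLinearGroup (Fin (m + 1)) F) :=
  (subspaceStabilizer (coordSub (F := F) k)).comap Matrix.SpecialLinearGroup.toGL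

theorem mem_stabC {k : Fin m} {s : SL} :
    s ∈ stabC F k ↔ ∀ w ∈ coordSub (F := F) k, s.1 *ᵥ w ∈ coordSub (F := F) k :=
  ⟨fun h w hw => ((mem_subspaceStabilizer_iff.1 h) w).1 hw,
    fun h => mem_subspaceStabilizer_of_le h⟩

theorem upU_le_stabC (k : Fin m) : upU (m + 1) F ≤ stabC F k := fun s hs => by
  refine mem_stabC.2 fun w hw i hi => ?_
  show ∑ j, s.1 i j * w j = 0
  refine Finset.sum_eq_zero fun j _ => ?_
  rcases le_or_gt j i with hji | hji
  · rw [mem_upU.1 hs i j hji]
    split_ifs with h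
    · subst h; rw [hw i hi, mul_zero]
    · rw [zero_mul]
  · rw [hw j (hi.trans hji), mul_zero]

theorem ys_mulVec (k : Fin m) (t : F) (w : V) :
    (ys k t).1 *ᵥ w = w + (Pi.single k.succ (t * w k.castSucc) : V) := by
  rw [xe_coe (cs_ne k).symm, Matrix.add_mulVec, Matrix.one_mulVec, Matrix.single_mulVec]
  rfl

theorem ys_mem_stabC {j k : Fin m} (h : j ≠ k) (t : F) : ys j t ∈ stabC F k := by
  refine mem_stabC.2 fun w hw => ?_
  rw [ys_mulVec]
  refine add_mem hw fun i hi => ?_
  rcases eq_or_ne i j.succ with rfl | hij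
  · have hv : k.val < (j.castSucc).val := by
      have : j.val ≠ k.val := fun e => h (Fin.ext e)
      simp only [Fin.val_succ] at hi
      simp only [Fin.val_castSucc]
      omega
    rw [Pi.single_eq_same, hw _ hv, mul_zero]
  · rw [Pi.single_eq_of_ne hij]

theorem ys_notMem_stabC (k : Fin m) : ys k (1 : F) ∉ stabC F k := by
  intro h
  have hw : (Pi.single k.castSucc 1 : V) ∈ coordSub (F := F) k := fun i hi => by
    refine Pi.single_eq_of_ne (fun e => ?_) _
    rw [e, Fin.val_castSucc] at hi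
    exact lt_irrefl _ hi
  have h1 := mem_stabC.1 h _ hw k.succ (by simp)
  rw [ys_mulVec, Pi.add_apply, Pi.single_eq_same, Pi.single_eq_same,
    Pi.single_eq_of_ne (cs_ne k).symm, zero_add, mul_one] at h1
  exact one_ne_zero h1

theorem center_le_stabC (k : Fin m) : (mkP (n := m + 1) (F := F)).ker ≤ stabC F k := fun z hz => by
  rw [QuotientGroup.ker_mk'] at hz
  obtain ⟨r, -, hr⟩ := Matrix.SpecialLinearGroup.mem_center_iff.1 hz
  refine mem_stabC.2 fun w hw => ?_
  rw [← hr, Matrix.scalar_apply, show (Matrix.diagonal fun _ => r) *ᵥ w = r • w from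
    funext fun i => Matrix.mulVec_diagonal _ _ _]
  exact (coordSub k).smul_mem r hw

theorem comap_map_stabC (k : Fin m) :
    ((stabC F k).map mkP).comap (mkP (n := m + 1) (F := F)) = stabC F k :=
  Subgroup.comap_map_eq_self (center_le_stabC k)

/-- The standard parabolic of a set of nodes. -/
def par (F : Type*) [Field F] [Fintype F] {m : ℕ} (J : Set (Fin m)) :
    Subgroup (Matrix.ProjectiveSpecialLinearGroup (Fin (m + 1)) F) :=
  upP (m + 1) F ⊔ Subgroup.closure {x | ∃ k ∈ J, ∃ t, x = mkP (ys k t)}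

theorem ys_mem_par {J : Set (Fin m)} {k : Fin m} (hk : k ∈ J) (t : F) :
    mkP (ys k t) ∈ par F J :=
  Subgroup.mem_sup_right (Subgroup.subset_closure ⟨k, hk, t, rfl⟩)

theorem par_le {J : Set (Fin m)} {k : Fin m} (hk : k ∉ J) : par F J ≤ (stabC F k).map mkP := by
  refine sup_le (Subgroup.map_mono (upU_le_stabC k)) ((Subgroup.closure_le _).2 ?_)
  rintro _ ⟨j, hj, t, rfl⟩
  exact ⟨_, ys_mem_stabC (fun e : j = k => hk (e ▸ hj)) t, rfl⟩

theorem ys_notMem_par {J : Set (Fin m)} {k : Fin m} (hk : k ∉ J) :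
    mkP (ys k (1 : F)) ∉ par F J := fun h => by
  have h1 : ys k (1 : F) ∈ ((stabC F k).map mkP).comap mkP := par_le hk h
  rw [comap_map_stabC] at h1
  exact ys_notMem_stabC k h1

theorem par_ne_top {J : Set (Fin m)} {k : Fin m} (hk : k ∉ J) : par F J ≠ ⊤ := fun h =>
  ys_notMem_par (F := F) hk (h ▸ Subgroup.mem_top _)

theorem par_ne {J J' : Set (Fin m)} {k : Fin m} (hk : k ∈ J) (hk' : k ∉ J') :
    par F J ≠ par F J' := fun h =>
  ys_notMem_par (F := F) hk' (h ▸ ys_mem_par hk 1)

theorem par_sup (hm : 1 ≤ m) {J J' : Set (Fin m)} (h : ∀ k, k ∈ J ∨ k ∈ J') :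
    par F J ⊔ par F J' = ⊤ := by
  set H := (par F J ⊔ par F J').comap (mkP (n := m + 1) (F := F)) with hH
  have hu : upU (m + 1) F ≤ H := fun x hx =>
    Subgroup.mem_sup_left (Subgroup.mem_sup_left ⟨x, hx, rfl⟩)
  have htop : H = ⊤ := by
    refine eq_top_of_simple_mem hm H (fun k t => hu (xe_mem_uni (by simp [upB]) t)) fun k t => ?_
    rcases h k with hk | hk
    · exact Subgroup.mem_sup_left (ys_mem_par hk t)
    · exact Subgroup.mem_sup_right (ys_mem_par hk t)
  rw [← Subgroup.map_comap_eq_self_of_surjective (QuotientGroup.mk'_surjective _)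
    (par F J ⊔ par F J'), ← hH, htop, Subgroup.map_top_of_surjective _ (QuotientGroup.mk'_surjective _)]

include p in
/-- An automorphism fixing `upP` becomes one fixing `loP` too after an inner one from `upU`. -/
theorem exists_upU_fix {β : MulAut L} (hβ : (upP (m + 1) F).map β.toMonoidHom = upP (m + 1) F) :
    ∃ u ∈ upU (m + 1) F,
      (upP (m + 1) F).map (MulAut.conj (mkP u) * β).toMonoidHom = upP (m + 1) F ∧
      (loP (m + 1) F).map (MulAut.conj (mkP u) * β).toMonoidHom = loP (m + 1) F := by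
  have hmap : ∀ (a b : MulAut L) (W : Subgroup L),
      W.map (a * b).toMonoidHom = (W.map b.toMonoidHom).map a.toMonoidHom := by
    intro a b W; rw [Subgroup.map_map]; rfl
  obtain ⟨w, hw⟩ := exists_conj_upU_eq_loU (n := m + 1) (F := F)
  have hwP : (upP (m + 1) F).map (MulAut.conj (mkP w)).toMonoidHom = loP (m + 1) F := by
    rw [loP, ← hw, Subgroup.map_map, Subgroup.map_map]
    congr 1
  obtain ⟨h₂, hh₂⟩ := exists_conj_upP p ((loP (m + 1) F).map β.toMonoidHom)
    (by rw [Subgroup.card_map_of_injective β.injective, card_loP p, card_loU, card_upP p])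
  have hV : (loP (m + 1) F).map β.toMonoidHom =
      (loP (m + 1) F).map (MulAut.conj (mkP (h₂ * w⁻¹))).toMonoidHom := by
    rw [← hh₂, ← hwP, ← hmap, ← map_mul, ← map_mul, inv_mul_cancel_right]
  have hdis : upP (m + 1) F ⊓ (loP (m + 1) F).map β.toMonoidHom = ⊥ := by
    conv_lhs => arg 1; rw [← hβ]
    rw [← Subgroup.map_inf _ _ _ β.injective, upP_inf_loP p, Subgroup.map_bot]
  obtain ⟨u, hu, hu'⟩ := exists_upU_conj_of_inf_eq_bot (h₂ * w⁻¹) (fun x hx hx' => by
    have hm : mkP x ∈ upP (m + 1) F ⊓ (loP (m + 1) F).map β.toMonoidHom := by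
      refine ⟨Subgroup.mem_map_of_mem _ hx, ?_⟩
      rw [hV]
      refine ⟨mkP ((h₂ * w⁻¹)⁻¹ * x * (h₂ * w⁻¹)), Subgroup.mem_map_of_mem _ hx', ?_⟩
      simp [mul_assoc]
    rw [hdis, Subgroup.mem_bot] at hm
    exact mk_injOn_up p hx (upU (m + 1) F).one_mem (by rw [hm, map_one]))
  have hV' : (loP (m + 1) F).map β.toMonoidHom =
      (loP (m + 1) F).map (MulAut.conj (mkP u)).toMonoidHom := by
    have := congrArg (Subgroup.map (mkP (n := m + 1) (F := F))) hu'
    rw [hV, Subgroup.map_map, Subgroup.map_map]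
    rw [Subgroup.map_map, Subgroup.map_map] at this
    convert this using 2 <;> ext1 x <;> simp
  refine ⟨u⁻¹, inv_mem hu, ?_, ?_⟩
  · rw [hmap, hβ]
    refine Subgroup.eq_of_le_of_card_ge ?_ (le_of_eq ?_)
    · rintro _ ⟨_, ⟨x', hx', rfl⟩, rfl⟩
      refine ⟨u⁻¹ * x' * u, mul_mem (mul_mem (inv_mem hu) hx') hu, ?_⟩
      simp [mul_assoc]
    · exact (Subgroup.card_map_of_injective (MulEquiv.injective _)).symm
  · rw [hmap, hV', ← hmap, ← map_mul, ← map_mul, inv_mul_cancel, map_one, map_one]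
    exact Subgroup.map_id _

include p in
/-- An automorphism fixing `upP` moves the parabolics by a symmetry of the path. -/
theorem exists_perm_par {β : MulAut L} (hβ : (upP (m + 1) F).map β.toMonoidHom = upP (m + 1) F) :
    ∃ e : Equiv.Perm (Fin m), (e = 1 ∨ e = Fin.revPerm) ∧
      ∀ J : Set (Fin m), (par F J).map β.toMonoidHom = par F (e '' J) := by
  obtain ⟨u, hu, hU, hL⟩ := exists_upU_fix (p := p) hβ
  obtain ⟨e, f, g, -, hg, hadj⟩ := exists_perm_both p (MulAut.conj (mkP u) * β) hU hL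
  refine ⟨e, perm_path e hadj, fun J => ?_⟩
  have h1 : (par F J).map (MulAut.conj (mkP u) * β).toMonoidHom = par F (e '' J) := by
    rw [par, Subgroup.map_sup, hU, MonoidHom.map_closure, par]
    congr 2
    ext x
    constructor
    · rintro ⟨_, ⟨k, hk, t, rfl⟩, rfl⟩
      exact ⟨e k, ⟨k, hk, rfl⟩, g k t, hg k t⟩
    · rintro ⟨_, ⟨k, hk, rfl⟩, t, rfl⟩
      refine ⟨_, ⟨k, hk, (g k).symm t, rfl⟩, ?_⟩
      show (MulAut.conj (mkP u) * β) (mkP (ys k ((g k).symm t))) = _
      rw [hg, AddEquiv.apply_symm_apply]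
  refine Subgroup.eq_of_le_of_card_ge ?_ ?_
  · rintro _ ⟨x, hx, rfl⟩
    have h2 : MulAut.conj (mkP u) (β x) ∈ par F (e '' J) := h1 ▸ ⟨x, hx, rfl⟩
    have hum : mkP u ∈ par F (e '' J) := Subgroup.mem_sup_left ⟨u, hu, rfl⟩
    have h3 := mul_mem (mul_mem (inv_mem hum) h2) hum
    rw [MulAut.conj_apply] at h3
    simpa [mul_assoc] using h3
  · rw [← h1, Subgroup.card_map_of_injective (MulEquiv.injective _),
      Subgroup.card_map_of_injective (MulEquiv.injective _)]

/-- A vector of an invariant subspace frees the earlier coordinate vectors. -/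
theorem single_mem_of_invariant {M : Subgroup SL} (hM : upU (m + 1) F ≤ M) {X : Submodule F V}
    (hX : ∀ s ∈ M, ∀ w ∈ X, s.1 *ᵥ w ∈ X) {x : V} (hx : x ∈ X) {i j : Fin (m + 1)} (hji : j < i)
    (hi : x i ≠ 0) (c : F) : (Pi.single j c : V) ∈ X := by
  have h := X.sub_mem (hX _ (hM (xe_mem_uni (by simpa [upB] using hji) (c / x i))) x hx) hx
  rw [xe_coe hji.ne, Matrix.add_mulVec, Matrix.one_mulVec, Matrix.single_mulVec,
    add_sub_cancel_left, div_mul_cancel₀ _ hi] at h
  exact h

/-- A proper subgroup above the unitriangular group fixes a coordinate subspace. -/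
theorem exists_le_stabC {M : Subgroup SL} (hM : upU (m + 1) F ≤ M) (hne : M ≠ ⊤) :
    ∃ k : Fin m, M ≤ stabC F k := by
  classical
  set Mg := M.map Matrix.SpecialLinearGroup.toGL with hMg
  by_cases hirr : Irreducible Mg
  · exfalso
    set a : V := Pi.single (Fin.last m) 1 with ha
    have ha0 : a ≠ 0 := fun h => by simpa [ha] using congrFun h (Fin.last m)
    have hfa : FullAxis Mg a := by
      intro v hv
      have hd : (tv v a : Matrix (Fin (m + 1)) (Fin (m + 1)) F).det = 1 :=
        congrArg Units.val (tv_mem_specialLinear v a)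
      refine ⟨⟨_, hd⟩, hM (mem_upU.2 fun i j hij => ?_), Units.ext rfl⟩
      show (tv v a : Matrix (Fin (m + 1)) (Fin (m + 1)) F) i j = _
      rw [tv_coe hv, Matrix.add_apply, Matrix.one_apply, Matrix.vecMulVec_apply]
      rcases eq_or_ne j (Fin.last m) with rfl | hj
      · have hi : i = Fin.last m := le_antisymm (Fin.le_last i) hij
        rw [ha, single_dotProduct, one_mul] at hv
        rw [hi, hv, zero_mul, add_zero]
      · rw [ha, Pi.single_eq_of_ne hj, mul_zero, add_zero]
    refine hne (eq_top_iff.2 fun s _ => ?_)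
    obtain ⟨s', hs', e⟩ := specialLinear_le_of_fullAxis hirr ha0 hfa
      (x := Matrix.SpecialLinearGroup.toGL s) (Units.ext s.2)
    have : s' = s := Subtype.ext (congrArg (fun g : GL (Fin (m + 1)) F => g.1) e)
    exact this ▸ hs'
  rw [MaxSub.Irreducible] at hirr
  push Not at hirr
  obtain ⟨X, hXinv, hX0, hX1⟩ := hirr
  have hX : ∀ s ∈ M, ∀ w ∈ X, s.1 *ᵥ w ∈ X := fun s hs w hw =>
    hXinv (Matrix.SpecialLinearGroup.toGL s) ⟨s, hs, rfl⟩ w hw
  set S : Finset (Fin (m + 1)) := Finset.univ.filter fun i => ∃ x ∈ X, x i ≠ 0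
  have hS : S.Nonempty := by
    obtain ⟨x, hx, hx0⟩ := Submodule.exists_mem_ne_zero_of_ne_bot hX0
    obtain ⟨i, hi⟩ := Function.ne_iff.1 hx0
    exact ⟨i, Finset.mem_filter.2 ⟨Finset.mem_univ _, x, hx, hi⟩⟩
  set i₀ := S.max' hS
  obtain ⟨x, hx, hxi⟩ := (Finset.mem_filter.1 (S.max'_mem hS)).2
  have hzero : ∀ y ∈ X, ∀ i, i₀ < i → y i = 0 := fun y hy i hi => by
    by_contra h
    exact (S.le_max' i (Finset.mem_filter.2 ⟨Finset.mem_univ _, y, hy, h⟩)).not_gt hi
  have hlt : ∀ j, j < i₀ → ∀ c : F, (Pi.single j c : V) ∈ X := fun j hj =>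
    single_mem_of_invariant hM hX hx hj hxi
  have hle : ∀ j, j ≤ i₀ → ∀ c : F, (Pi.single j c : V) ∈ X := by
    intro j hj c
    rcases lt_or_eq_of_le hj with hj | rfl
    · exact hlt j hj c
    have hsum : (Pi.single i₀ (x i₀) : V) ∈ X := by
      rw [show (Pi.single i₀ (x i₀) : V) =
        x - ∑ j ∈ Finset.univ.erase i₀, (Pi.single j (x j) : V) by
          rw [eq_sub_iff_add_eq, Finset.add_sum_erase _ (fun j => (Pi.single j (x j) : V))
            (Finset.mem_univ _), Finset.univ_sum_single]]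
      refine X.sub_mem hx (X.sum_mem fun j hj => ?_)
      rcases lt_trichotomy j i₀ with h | h | h
      · exact hlt j h _
      · exact absurd h (Finset.ne_of_mem_erase hj)
      · rw [hzero x hx j h, Pi.single_zero]; exact X.zero_mem
    have hc := X.smul_mem (c / x i₀) hsum
    rwa [← Pi.single_smul, smul_eq_mul, div_mul_cancel₀ _ hxi] at hc
  have hall : ∀ v : V, (∀ i, i₀ < i → v i = 0) → v ∈ X := fun v hv => by
    rw [← Finset.univ_sum_single v]
    refine X.sum_mem fun j _ => ?_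
    rcases le_or_gt j i₀ with h | h
    · exact hle j h _
    · rw [hv j h, Pi.single_zero]; exact X.zero_mem
  have hi₀ : i₀.val < m := by
    by_contra h
    refine hX1 (eq_top_iff.2 fun v _ => hall v fun i hi => absurd hi (not_lt.2 ?_))
    exact Fin.le_def.2 (by have := i.2; omega)
  refine ⟨⟨i₀.val, hi₀⟩, fun s hs => mem_stabC.2 fun w hw i hi => ?_⟩
  exact hzero _ (hX s hs w (hall w fun i hi => hw i hi)) i hi

include p in
theorem upP_isSylow : ∃ U₀ : Sylow p L, (U₀ : Subgroup L) = upP (m + 1) F :=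
  ⟨upPSylow p, coe_upPSylow p⟩

theorem rev_image {J : Set (Fin m)} (h : ∀ k ∈ J, k.rev ∈ J) : Fin.revPerm '' J = J := by
  refine Set.Subset.antisymm ?_ fun k hk => ⟨k.rev, h k hk, by simp⟩
  rintro _ ⟨k, hk, rfl⟩
  exact h k hk

include p in
/-- Invariance of a parabolic of a symmetric set of nodes, or of any if `p` is odd. -/
theorem inv_par [IsSimpleGroup L] {T : Subgroup (MulAut L)} (hT : IsPGroup p T)
    (hfix : ∀ t ∈ T, (upP (m + 1) F).map (t : L ≃* L).toMonoidHom = upP (m + 1) F)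
    (J : Set (Fin m)) (hJ : Fin.revPerm '' J = J ∨ p ≠ 2) : Inv T (par F J) := by
  intro t ht
  obtain ⟨e, he, heq⟩ := exists_perm_par (p := p) (hfix t ht)
  rcases he with rfl | rfl
  · exact (heq J).trans (by rw [Equiv.Perm.coe_one, Set.image_id])
  rcases hJ with hJ | hp
  · exact (heq J).trans (by rw [hJ])
  have hrev : ∀ J : Set (Fin m), Fin.revPerm '' (Fin.revPerm '' J) = J := fun J => by
    rw [Set.image_image]; simp
  have hiter : ∀ k : ℕ, (par F J).map (t ^ (2 * k) : MulAut L).toMonoidHom = par F J := by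
    intro k
    induction k with
    | zero => rw [mul_zero, pow_zero]; exact Subgroup.map_id _
    | succ k ih =>
      rw [show 2 * (k + 1) = 2 + 2 * k by ring, pow_add, ← map_map_aut, ih, pow_two, ← map_map_aut,
        heq J]
      exact (heq _).trans (by rw [hrev])
  obtain ⟨a, ha⟩ := hT ⟨t, ht⟩
  have ht1 : t ^ p ^ a = 1 := congrArg Subtype.val ha
  obtain ⟨k, hk⟩ : Odd (p ^ a) := ((Fact.out : p.Prime).odd_of_ne_two hp).pow
  have h1 : (par F J).map (t ^ (p ^ a) : MulAut L).toMonoidHom = par F (Fin.revPerm '' J) := by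
    rw [hk, pow_succ', ← map_map_aut, hiter]
    exact heq J
  rw [ht1, map_one_aut] at h1
  rw [heq J, ← h1]

/-- Two symmetric sets of nodes covering the path. -/
theorem two_par [IsSimpleGroup L] (hm : 1 ≤ m) {T : Subgroup (MulAut L)} {J₁ J₂ : Set (Fin m)}
    {k₁ k₂ : Fin m} (h₁ : k₁ ∉ J₁) (h₂ : k₂ ∉ J₂) (hcov : ∀ k, k ∈ J₁ ∨ k ∈ J₂)
    (hi₁ : Inv T (par F J₁)) (hi₂ : Inv T (par F J₂)) : Two T (upP (m + 1) F) :=
  ⟨_, _, hi₁, hi₂, le_sup_left, le_sup_left, par_ne_top h₁, par_ne_top h₂, par_sup hm hcov⟩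

include p in
/-- **Two invariant parabolics for `PSL_n(q)`**, `n ≥ 4`, or `n = 3` and `q` odd. -/
theorem alwaysTwo_PSL (hm : 2 ≤ m) (h : 3 ≤ m ∨ p ≠ 2) [IsSimpleGroup L] : AlwaysTwo p L := by
  obtain ⟨U₀, hU₀⟩ := upP_isSylow (p := p) (F := F) (m := m)
  refine alwaysTwo_of_one U₀ fun T hT hUT => ?_
  have hfix : ∀ t ∈ T, (upP (m + 1) F).map (t : L ≃* L).toMonoidHom = upP (m + 1) F := fun t ht => by
    rw [← hU₀]; exact map_sylow_eq U₀ hT hUT ht
  rw [hU₀]
  let a : Fin m := ⟨0, by omega⟩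
  let z : Fin m := ⟨m - 1, by omega⟩
  rcases le_or_gt 3 m with hm3 | hm3
  · let b : Fin m := ⟨1, by omega⟩
    refine two_par (by omega) (J₁ := {k | k ≠ a ∧ k ≠ z}) (J₂ := {k | k = a ∨ k = z}) (k₁ := a)
      (k₂ := b) (fun h => h.1 rfl) ?_ (fun k => ?_) (inv_par hT hfix _ (Or.inl ?_))
      (inv_par hT hfix _ (Or.inl ?_))
    · simp only [Set.mem_ofPred_eq, a, b, z, Fin.ext_iff]; omega
    · by_cases hk : k = a ∨ k = z
      · exact Or.inr hk
      · exact Or.inl ⟨fun e => hk (Or.inl e), fun e => hk (Or.inr e)⟩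
    all_goals
      refine rev_image fun k hk => ?_
      have := k.2
      simp only [Set.mem_ofPred_eq, ne_eq, a, z, Fin.ext_iff, Fin.val_rev] at hk ⊢
      omega
  · have hp : p ≠ 2 := h.resolve_left (by omega)
    refine two_par (by omega) (J₁ := {k | k ≠ a}) (J₂ := {a}) (k₁ := a) (k₂ := z) (fun h => h rfl)
      ?_ (fun k => (em (k = a)).symm.imp id id) (inv_par hT hfix _ (Or.inr hp))
      (inv_par hT hfix _ (Or.inr hp))
    simp only [Set.mem_singleton_iff, a, z, Fin.ext_iff]; omega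

end CfsgLib.PMinSocle
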