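import Cfsg.Agent.PMinSocle.Basic
import Cfsg.Agent.DicksonPSL2.Maximal

/-!
# `PSL₂(8)` at the prime three
-/

set_option autoImplicit false
set_option linter.style.haveILetI false

namespace CfsgLib.PMinSocle

open CfsgLib.DicksonPSL2 CfsgLib.SL2Trace
open scoped MatrixGroups

theorem alwaysSmall_PSL_two_eight {F : Type} [Field F] [Fintype F] (hF : Fintype.card F = 8) :
    AlwaysSmall 3 PSL(2, F) := by
  haveI : Fact (Nat.Prime 2) := ⟨Nat.prime_two⟩
  haveI : Fact (Nat.Prime 3) := ⟨Nat.prime_three⟩
  haveI : CharP F 2 := ringChar.eq_iff.1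
    (FiniteField.even_card_iff_char_two.2 (by omega))
  have hgcd : Nat.gcd 2 (Fintype.card F - 1) = 1 := by rw [hF]; rfl
  have hcard : Nat.card PSL(2, F) = 504 := by
    have := card_PSL_formula F
    rw [hgcd, hF] at this
    omega
  intro U A hUA hA
  have hU : Nat.card (U : Subgroup PSL(2, F)) = 9 := by
    rw [U.card_eq_multiplicity, hcard, Nat.factorization_def _ Nat.prime_three,
      show 504 = 3 ^ 2 * 56 by norm_num, padicValNat.mul (by norm_num) (by norm_num),
      padicValNat.prime_pow, padicValNat.eq_zero_of_not_dvd (by norm_num)]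
    norm_num
  have h9 : 9 ∣ Nat.card A := hU ▸ Subgroup.card_dvd_of_le hUA
  rcases subgroup_cases 2 A with h | ⟨x, hx, hle⟩ | ⟨-, h, -⟩ | ⟨-, h, -⟩ | ⟨-, h, -⟩ |
    ⟨K, _, _, ι, a, w, h | ⟨h, -⟩⟩
  · obtain ⟨a, ha⟩ := h
    exfalso
    have h1 := Subgroup.card_dvd_of_le ha
    rw [card_conjS] at h1
    have h2 := card_BP (F := F)
    rw [hgcd, hF, one_mul] at h2
    rw [h2] at h1
    exact absurd (h9.trans h1) (by norm_num)
  · obtain ⟨hN, -⟩ := card_normalizer_torus hx
    set T := torus x
    set N := Subgroup.normalizer (T : Set PSL(2, F)) with hNdef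
    have hT : Nat.card T = 9 := by
      have h1 := h9.trans (Subgroup.card_dvd_of_le hle)
      rw [hN] at h1
      have h2 := card_torus hx
      rw [hgcd, hF, one_mul] at h2
      rcases h2 with h2 | h2
      · rw [h2] at h1
        exact absurd h1 (by norm_num)
      · exact h2
    have hTU : T = (U : Subgroup PSL(2, F)) := by
      have hPT : IsPGroup 3 T := IsPGroup.of_card (n := 2) (by rw [hT]; norm_num)
      have hP : IsPGroup 3 ↥((U : Subgroup PSL(2, F)) ⊔ T) :=
        U.2.to_sup_of_normal_right' hPT (hUA.trans hle)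
      have e := U.3 hP le_sup_left
      refine Subgroup.eq_of_le_of_card_ge (e ▸ le_sup_right) ?_
      rw [hU, hT]
    exact hle.trans (le_of_eq (by rw [hNdef, hTU]))
  · exact absurd rfl h
  · exact absurd rfl h
  · exact absurd rfl h
  · exfalso
    have h1 : Nat.card A = Nat.card PSL(2, K) := by
      rw [← card_conjS a A, h, Nat.card_congr (MonoidHom.ofInjective (psiS_injective ι w)).toEquiv]
    letI : Algebra K F := ι.toAlgebra
    have hm := Module.card_eq_pow_finrank (K := K) (V := F)
    rw [hF] at hm
    have hK := card_PSL_formula K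
    have hK2 : 1 < Fintype.card K := Fintype.one_lt_card
    obtain ⟨i, hi, hKi⟩ := (Nat.dvd_prime_pow Nat.prime_two).1
      (show Fintype.card K ∣ 2 ^ 3 from by
        rw [show (2 : ℕ) ^ 3 = Fintype.card K ^ Module.finrank K F from hm]
        exact dvd_pow_self _ Module.finrank_pos.ne')
    interval_cases i
    · omega
    · rw [hKi] at hK
      norm_num at hK
      omega
    · rw [hKi] at hK
      norm_num at hK
      rw [hKi] at hm
      rcases hn : Module.finrank K F with _ | _ | n <;> rw [hn] at hm
      · simp at hm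
      · norm_num at hm
      · have : 16 ≤ (4 : ℕ) ^ (n + 2) :=
          le_trans (by norm_num) (Nat.pow_le_pow_right (by norm_num) (Nat.le_add_left 2 n))
        norm_num at hm
        omega
    · rw [hKi] at hK
      norm_num at hK
      exact hA (Subgroup.card_eq_iff_eq_top A |>.1 (by rw [h1, hcard]; omega))
  · exact absurd rfl h

end CfsgLib.PMinSocle
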