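import Cfsg.Agent.PMinSocle.RankOne
import Cfsg.Agent.Linear.Basic
import Cfsg.Agent.Suzuki.LieModel
import Cfsg.Agent.ReeG2Sylow.Form
import Cfsg.Agent.S0280

/-!
# The groups of Lie rank one are not `p`-groups
-/

set_option autoImplicit false
set_option linter.style.haveILetI false

namespace CfsgLib.PMinSocle

variable {p : ℕ} [Fact p.Prime] {G : Type*} [Group G] [Finite G]

theorem not_isPGroup_of_dvd {r c : ℕ} (hd : r ∣ c * Nat.card G) (hr : ¬ p ∣ r) (hc : c < r)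
    (hc0 : 0 < c) : ¬ IsPGroup p G := fun h => by
  obtain ⟨k, hk⟩ := IsPGroup.iff_card.1 h
  rw [hk] at hd
  have hcop : Nat.Coprime r (p ^ k) :=
    (((Fact.out : p.Prime).coprime_iff_not_dvd.2 hr).symm).pow_right k
  exact absurd (Nat.le_of_dvd hc0 (hcop.dvd_of_dvd_mul_right hd)) (not_le.2 hc)

theorem not_dvd_pow_sub_one {q : ℕ} (hq : p ∣ q) (h1 : 1 ≤ q) {k : ℕ} (hk : k ≠ 0) :
    ¬ p ∣ q ^ k - 1 :=
  not_dvd_sub_one (dvd_pow hq hk) (Nat.one_le_pow _ _ h1)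

/-- `PSL₂(q)`. -/
theorem not_isPGroup_PSL_two {F : Type} [Field F] [Fintype F] [CharP F p] (h4 : 4 ≤ Fintype.card F)
    (e : G ≃* Matrix.ProjectiveSpecialLinearGroup (Fin 2) F) : ¬ IsPGroup p G := by
  refine not_isPGroup_of_dvd (r := Fintype.card F ^ 2 - 1) (c := Nat.gcd 2 (Fintype.card F - 1))
    ?_ (not_dvd_pow_sub_one (dvd_card_field F) Fintype.card_pos two_ne_zero) ?_
    (Nat.gcd_pos_of_pos_left _ two_pos)
  · rw [Nat.card_congr e.toEquiv, CfsgLib.Linear.card_PSL_two_mul]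
    exact dvd_mul_left _ _
  · have h16 : 16 ≤ Fintype.card F ^ 2 := by
      calc 16 = 4 ^ 2 := by norm_num
        _ ≤ _ := Nat.pow_le_pow_left h4 2
    have := Nat.le_of_dvd two_pos (Nat.gcd_dvd_left 2 (Fintype.card F - 1))
    omega

/-- `PSU₃(q)`. -/
theorem not_isPGroup_PSU_three {F : Type} [Field F] [Fintype F] [CharP F p] {q : ℕ}
    (hF : Fintype.card F = q ^ 2) (hq : q ≠ 2) (e : G ≃* Cfsg.PSU 3 F q) : ¬ IsPGroup p G := by
  have hq1 : 1 < q := by
    have := Fintype.one_lt_card (α := F)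
    rw [hF] at this
    by_contra h
    interval_cases q <;> simp at this
  have hpq : p ∣ q := (Fact.out : p.Prime).dvd_of_dvd_pow (n := 2) (hF ▸ dvd_card_field F)
  refine not_isPGroup_of_dvd (r := q ^ 2 - 1) (c := Nat.gcd 3 (q + 1)) ?_
    (not_dvd_pow_sub_one hpq (by omega) two_ne_zero) ?_ (Nat.gcd_pos_of_pos_left _ (by norm_num))
  · have h := Cfsg.Agent.S0280.result hF 3 (by norm_num)
    rw [Nat.card_congr e.toEquiv]
    refine Nat.dvd_of_mul_dvd_mul_left (show 0 < q + 1 by omega) ?_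
    rw [← mul_assoc (q + 1), mul_comm (q + 1) (Nat.gcd 3 (q + 1)), mul_assoc, h]
    refine Dvd.intro (q ^ 3 * (q ^ 3 + 1)) ?_
    norm_num [Finset.prod_range_succ, Nat.even_iff]
    ring
  · have h9 : 9 ≤ q ^ 2 := by
      calc 9 = 3 ^ 2 := by norm_num
        _ ≤ _ := Nat.pow_le_pow_left (by omega) 2
    have := Nat.le_of_dvd (by norm_num) (Nat.gcd_dvd_left 3 (q + 1))
    omega

/-- The Suzuki groups. -/
theorem not_isPGroup_isoSuzuki (h : Cfsg.Lie.IsoSuzuki G) : ¬ IsPGroup 2 G := by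
  haveI : Fact (Nat.Prime 2) := ⟨Nat.prime_two⟩
  obtain ⟨F, _, _, m, hm, hF, ⟨e⟩⟩ := h
  have hS : CfsgLib.Suzuki.SzField F m := ⟨hm, hF⟩
  have h8 : 8 ≤ Fintype.card F := hF ▸ le_trans (by norm_num) (Nat.pow_le_pow_right two_pos
    (show 3 ≤ 2 * m + 1 by omega))
  refine not_isPGroup_of_dvd (r := Fintype.card F - 1) (c := 1) ?_
    (not_dvd_sub_one (hF ▸ dvd_pow_self 2 (by omega)) Fintype.card_pos) (by omega) one_pos
  rw [one_mul, Nat.card_congr e.toEquiv, ← Nat.card_congr (CfsgLib.Suzuki.lieSzEquiv hS).toEquiv,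
    CfsgLib.Suzuki.card_sz hS]
  exact dvd_mul_left _ _

/-- The small Ree groups. -/
theorem not_isPGroup_isoRee (h : Cfsg.Lie.IsoRee G) : ¬ IsPGroup 3 G := by
  haveI : Fact (Nat.Prime 3) := ⟨Nat.prime_three⟩
  obtain ⟨K, _, _, m, hm, hK, ⟨e⟩⟩ := h
  haveI : CharP K 3 := CfsgLib.ReeG2.charP_of_card (m := m) (by rw [Nat.card_eq_fintype_card]; exact hK)
  have h8 : 9 ≤ Fintype.card K := hK ▸ le_trans (by norm_num) (Nat.pow_le_pow_right (by norm_num)
    (show 2 ≤ 2 * m + 1 by omega))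
  refine not_isPGroup_of_dvd (r := Fintype.card K - 1) (c := 1) ?_
    (not_dvd_sub_one (hK ▸ dvd_pow_self 3 (by omega)) Fintype.card_pos) (by omega) one_pos
  rw [one_mul, Nat.card_congr e.toEquiv, CfsgLib.ReeG2Sylow.card_twisted hK]
  exact Dvd.intro_left (Fintype.card K ^ 3) rfl |>.mul_right _

end CfsgLib.PMinSocle
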