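import Cfsg.Agent.ReeF4.Mult
import Cfsg.Agent.ReeF4Square.Packed

/-!
# The Tits group at the prime two: computations

The centre of the Sylow subgroup `V` is `⟨z⟩` and the second centre is `⟨w, z⟩`; one reflection
centralises `z`, the other exchanges `z` and `w`, and with `V` they generate.
-/

set_option autoImplicit false
set_option maxHeartbeats 1000000
set_option maxRecDepth 4000
set_option linter.style.haveILetI false

namespace CfsgLib.PMinSocle.Tits

open CfsgLib.ReeF4 CfsgLib.ReeF4.Mult CfsgLib.Schur
open CfsgLib.ReeF4.Sq2 (wEq wEq_sound)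
open CfsgLib.Schur.Pc (ev ev_cons ev_nil ev_append tailSubgroup normalWords)

local instance : Fact (Nat.card (ZMod 2) = 2) := ⟨Nat.card_zmod 2⟩

/-- The model of the Tits group. -/
abbrev KT : Type := ↥(commutator (TG (ZMod 2)))

/-- The generators of the Sylow subgroup. -/
def yV : ℕ → KT := xEl gens2 gens2_par

/-- The key of a word. -/
noncomputable def keyW (w : List ℕ) : ℕ := wordKey [33] w

/-- The candidates for the centre. -/
noncomputable def zCand (u : List ℕ) : Bool :=
  (List.range 11).all fun a => Nat.beq (keyW (expand gens2 ([a] ++ u))) (keyW (expand gens2 (u ++ [a])))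

/-- The candidates for the second centre. -/
noncomputable def wCand (u : List ℕ) : Bool :=
  (List.range 11).all fun a =>
    Nat.beq (keyW (expand gens2 (u ++ [a]))) (keyW (expand gens2 ([a] ++ u))) ||
      Nat.beq (keyW (expand gens2 (u ++ [a]))) (keyW (expand gens2 ([a] ++ u ++ [10])))

set_option maxRecDepth 100000 in
theorem centre_ok : ((normalWords 2 11 0).all fun u => !(zCand u) || u == [] || u == [10]) = true := by
  decide +kernel

set_option maxRecDepth 100000 in
theorem centre_two_ok : ((normalWords 2 11 0).all fun u =>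
    !(wCand u) || u == [] || u == [9] || u == [10] || u == [9, 10]) = true := by
  decide +kernel

/-- Conjugates of the generators by the outer lift. -/
def conjU : List (List ℕ) :=
  [[0, 4, 7, 8], [1, 2, 6, 7, 8, 9], [2, 4, 6, 7, 10], [3], [4, 6, 9], [5, 7, 8, 9], [6],
    [7, 8, 10], [8, 9], [9], [10]]

set_option maxRecDepth 100000 in
theorem conjU_ok : ((List.range 11).all fun a =>
    wEq ([1] ++ gens2.getD a [] ++ [1, 3]) (expand gens2 (conjU.getD a []))) = true := by
  decide +kernel

theorem rel_ok : wEq ([1] ++ [12] ++ [1, 3]) [1, 2, 12, 3] = true ∧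
    wEq ([1] ++ [13] ++ [1, 3]) [13, 3, 13, 3, 13] = true ∧ wEq [1, 1, 3] [] = true ∧
    wEq [3, 3] [] = true ∧ wEq [12, 12] [] = true ∧ wEq [13, 11] [11, 13] = true ∧
    wEq [12, 11] [10, 12] = true ∧ wEq [12, 10] [11, 12] = true ∧ wEq [11, 11] [] = true ∧
    wPar [12] = 0 ∧ wPar [13] = 0 := by
  decide +kernel

set_option maxRecDepth 100000 in
theorem central_ok : ((List.range 11).all fun a =>
    wEq (expand gens2 [10, a]) (expand gens2 [a, 10]) &&
      (wEq (expand gens2 [9, a]) (expand gens2 [a, 9]) ||
        wEq (expand gens2 [9, a]) (expand gens2 [a, 9, 10]))) = true := by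
  decide +kernel

theorem key_ne : Nat.beq (keyW [12, 11]) (keyW [11, 12]) = false ∧
    Nat.beq (keyW [13, 10, 13]) (keyW []) = false ∧ Nat.beq (keyW [13, 10, 13]) (keyW [10]) = false ∧
    Nat.beq (keyW [13, 10, 13]) (keyW [11]) = false ∧
    Nat.beq (keyW [13, 10, 13]) (keyW [10, 11]) = false ∧
    wEq [13, 13] [] = true := by
  decide +kernel

theorem key_z : Nat.beq (keyW [11]) (keyW []) = false := by decide +kernel

theorem coe_yV (u : List ℕ) : ((ev yV u : KT) : TG (ZMod 2)) = wG (expand gens2 u) :=
  coe_ev_xEl gens2 gens2_par u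

theorem coe_yV_single (a : ℕ) : ((yV a : KT) : TG (ZMod 2)) = wG (gens2.getD a []) := rfl

theorem wG_append (u w : List ℕ) : wG (u ++ w) = wG u * wG w := ev_append ..

theorem card_V : Nat.card (tailSubgroup yV 11 0) = 2 ^ 11 := by
  have hrules : ∀ a b, a ≤ b → b < cert2.n → yV b * yV a = ev yV (cert2.rule b a) := by
    intro a b hab hb
    rw [cert2_n] at hb
    have h := rules2_ok
    simp only [List.all_eq_true, List.mem_range] at h
    have e := xEl_rel gens2_par (h b hb a (by omega))
    rw [ev_cons, ev_cons, ev_nil, mul_one] at e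
    exact e
  have hshape : Pc.shaped 2 cert2.n cert2.rules = true := by
    have h := lin2
    simp only [Schur.Two.Cert.linCheck, Bool.and_eq_true] at h
    exact h.1.2
  have hlist : ∀ q ∈ cert2.rules, ev yV q.1 = ev yV q.2 := by
    intro q hq
    simp only [Schur.Two.Cert.rules, List.mem_flatMap, List.mem_map, List.mem_range] at hq
    obtain ⟨b, hb, a, ha, rfl⟩ := hq
    rw [ev_cons, ev_cons, ev_nil, mul_one]
    exact hrules a b (by omega) hb
  have h1 := Pc.card_tailSubgroup_le yV hshape hlist cert2.n 0 (Nat.zero_add _)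
  have h2 := card_tail_ge gens2_par base2 52 dist2_ok
  rw [cert2_n] at h1
  exact le_antisymm h1 h2

theorem exists_normalWord {g : KT} (hg : g ∈ tailSubgroup yV 11 0) :
    ∃ u ∈ normalWords 2 11 0, ev yV u = g := by
  classical
  let key : KT → ℕ := fun g =>
    if h : ∃ u, wG u = (g : TG (ZMod 2)) then wordKey base2 h.choose else 0
  have hkey : ∀ u, key (ev yV u) = wordKey base2 (expand gens2 u) := by
    intro u
    have h : ∃ v, wG v = ((ev yV u : KT) : TG (ZMod 2)) := ⟨_, (coe_yV u).symm⟩
    simp only [key]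
    rw [dif_pos h]
    exact wordKey_congr base2 (h.choose_spec.trans (coe_yV u))
  have hnd : ((normalWords 2 11 0).map fun u => ev yV u).Nodup := by
    apply List.Nodup.of_map key
    rw [List.map_map]
    simpa only [Function.comp_def, hkey] using nodup_of_distinct 52 _ dist2_ok
  letI : Fintype KT := Fintype.ofFinite _
  have hsub : ((normalWords 2 11 0).map fun u => ev yV u).toFinset =
      Finset.univ.filter (· ∈ tailSubgroup yV 11 0) := by
    refine Finset.eq_of_subset_of_card_le (fun x hx => ?_) ?_
    · obtain ⟨u, hu, rfl⟩ := List.mem_map.1 (List.mem_toFinset.1 hx)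
      exact Finset.mem_filter.2 ⟨Finset.mem_univ _, Pc.ev_mem yV fun a ha =>
        Pc.gen_mem_tailSubgroup yV (Nat.zero_le _) (by have := Pc.mem_normalWords 2 11 0 u hu a ha; omega)⟩
    · rw [List.toFinset_card_of_nodup hnd, List.length_map, Pc.length_normalWords, ← Fintype.card_subtype,
        ← Nat.card_eq_fintype_card]
      exact le_of_eq card_V
  have : g ∈ Finset.univ.filter (· ∈ tailSubgroup yV 11 0) := Finset.mem_filter.2 ⟨Finset.mem_univ _, hg⟩
  rw [← hsub] at this
  obtain ⟨u, hu, e⟩ := List.mem_map.1 (List.mem_toFinset.1 this)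
  exact ⟨u, hu, e⟩

theorem keyW_congr {u v : List ℕ} (h : wG u = wG v) : keyW u = keyW v := wordKey_congr [33] h

theorem eq_of_wEq {u v : List ℕ} (h : wEq u v = true) : wG u = wG v := wEq_sound h

end CfsgLib.PMinSocle.Tits
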