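import Cfsg.Agent.ReeF4.TitsSimple

/-!
# Five generators of `²F₄(2)`
-/

set_option autoImplicit false
set_option maxHeartbeats 2000000
set_option maxRecDepth 4000

namespace CfsgLib.PMinSocle.Tits

open Cfsg.Lie CfsgLib.ReeF4 CfsgLib.Chevalley
open scoped MatrixGroups

variable {K : Type*} [Field K] [CharP K 2] [Finite K] [h2 : Fact (Nat.card K = 2)]

/-- Three lifts and the two reflections generate. -/
theorem eq_top_of_gens (M : Subgroup (TG K)) (h0 : ReeF4.liftG 0 ∈ M) (h1 : ReeF4.liftG 1 ∈ M)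
    (h3 : ReeF4.liftG 3 ∈ M) (hn0 : (⟨n₀ K, (t₂ K).n₀_mem⟩ : TG K) ∈ M)
    (hn1 : (⟨n₁ K, (t₂ K).n₁_mem⟩ : TG K) ∈ M) : M = ⊤ := by
  have hp : ∀ t : K, (⟨(t₂ K).pairE false t, (t₂ K).pair_mem _ _⟩ : TG K) ∈ M := by
    intro t
    rcases zero_or_one t with rfl | rfl
    · convert one_mem M using 1
      exact Subtype.ext (by simp [Tw.pairE, x_zero])
    · convert h0 using 1
      exact Subtype.ext (base_lift (K := K)).1
  have hz : (t₂ K).clsE false (0 : K) 0 = 1 := by simp [Tw.clsE, Tw.clsG, x_zero]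
  have hb : ∀ t u : K, (⟨(t₂ K).clsE false t u, (t₂ K).cls_mem _ _ _⟩ : TG K) ∈ M := by
    intro t u
    have e : (⟨(t₂ K).clsE false t u, (t₂ K).cls_mem _ _ _⟩ : TG K) =
        ⟨(t₂ K).clsE false t 0, (t₂ K).cls_mem _ _ _⟩ *
        ⟨(t₂ K).clsE false 0 u, (t₂ K).cls_mem _ _ _⟩ :=
      Subtype.ext (by simp [(t₂ K).cls_mul])
    rw [e]
    refine mul_mem ?_ ?_
    · rcases zero_or_one t with rfl | rfl
      · convert one_mem M using 1
        exact Subtype.ext hz
      · convert h1 using 1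
        exact Subtype.ext (base_lift (K := K)).2.1
    · rcases zero_or_one u with rfl | rfl
      · convert one_mem M using 1
        exact Subtype.ext hz
      · convert h3 using 1
        refine Subtype.ext ?_
        have := (base_lift (K := K)).2.2
        simpa [Tw.baseE, θ₂, ReeF4.liftG] using this
  have hle : (t₂ K).G1 ≤ M.map (t₂ K).G1.subtype := by
    refine (t₂ K).G1_le ?_ ?_
    · intro b t
      cases b
      · exact ⟨_, hp t, rfl⟩
      · exact ⟨_, mul_mem (mul_mem hn0 (hp t)) (inv_mem hn0), (pairE_true t).symm⟩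
    · intro b t u
      cases b
      · exact ⟨_, hb t u, rfl⟩
      · exact ⟨_, mul_mem (mul_mem hn1 (hb t u)) (inv_mem hn1), (clsE_true t u).symm⟩
  refine eq_top_iff.2 fun g _ => ?_
  obtain ⟨y, hy, e⟩ := hle g.2
  rwa [show y = g from Subtype.ext e] at hy

end CfsgLib.PMinSocle.Tits
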