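import Cfsg.Agent.PMinSocle.CentreSeries
import Cfsg.Agent.PMinSocle.TitsData
import Cfsg.Agent.PMinSocle.TitsGen
import Cfsg.Prelude.Def_LieTwisted

/-!
# The Tits group at the prime two

The centre of the Sylow subgroup `V` is `⟨z⟩` and the second centre is `⟨w, z⟩`; one reflection
centralises `z`, the other exchanges `z` and `w`, and with `V` they generate.
-/

set_option autoImplicit false
set_option linter.style.haveILetI false
set_option maxRecDepth 4000

namespace CfsgLib.PMinSocle.Tits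

open CfsgLib.ReeF4 CfsgLib.ReeF4.Mult CfsgLib.Schur
open CfsgLib.ReeF4.Sq2 (wEq wEq_sound)
open CfsgLib.Schur.Pc (ev ev_cons ev_nil ev_append tailSubgroup normalWords)

local instance : Fact (Nat.card (ZMod 2) = 2) := ⟨Nat.card_zmod 2⟩

/-- The generators as one set. -/
def V₀ : Subgroup KT := tailSubgroup yV 11 0

theorem yV_mem {a : ℕ} (ha : a < 11) : yV a ∈ V₀ :=
  Pc.gen_mem_tailSubgroup yV (Nat.zero_le _) ha

theorem wG_single (s : ℕ) : wG [s] = symG s := by rw [wG, ev_cons, ev_nil, mul_one]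

theorem ev_single (a : ℕ) : ev yV [a] = yV a := by rw [ev_cons, ev_nil, mul_one]

theorem eq_of_coe {x y : KT} {u v : List ℕ} (hx : (x : TG (ZMod 2)) = wG u)
    (hy : (y : TG (ZMod 2)) = wG v) (h : wEq u v = true) : x = y :=
  Subtype.ext (by rw [hx, hy]; exact eq_of_wEq h)

theorem beq_keyW {u v : List ℕ} (h : wG u = wG v) : Nat.beq (keyW u) (keyW v) = true := by
  rw [keyW_congr h, Nat.beq_refl]

theorem coe_mul_wG {x y : KT} {u v : List ℕ} (hx : (x : TG (ZMod 2)) = wG u)
    (hy : (y : TG (ZMod 2)) = wG v) : ((x * y : KT) : TG (ZMod 2)) = wG (u ++ v) := by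
  rw [Subgroup.coe_mul, hx, hy, wG_append]

theorem par12 : wPar [12] = 0 := rel_ok.2.2.2.2.2.2.2.2.2.1

theorem par13 : wPar [13] = 0 := rel_ok.2.2.2.2.2.2.2.2.2.2

/-- The reflection moving `z`. -/
def nA : KT := ⟨wG [12], wG_mem par12⟩

/-- The reflection fixing `z`. -/
def nB : KT := ⟨wG [13], wG_mem par13⟩

theorem coe_nA : (nA : TG (ZMod 2)) = wG [12] := rfl

theorem coe_nB : (nB : TG (ZMod 2)) = wG [13] := rfl

theorem coe_z : ((yV 10 : KT) : TG (ZMod 2)) = wG [11] := coe_yV_single 10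

theorem coe_w : ((yV 9 : KT) : TG (ZMod 2)) = wG [10] := coe_yV_single 9

theorem z_sq : yV 10 * yV 10 = 1 :=
  eq_of_coe (coe_mul_wG coe_z coe_z) (v := []) rfl rel_ok.2.2.2.2.2.2.2.2.1

theorem central {a : ℕ} (ha : a < 11) : yV 10 * yV a = yV a * yV 10 ∧
    (yV 9 * yV a = yV a * yV 9 ∨ yV 9 * yV a = yV a * (yV 9 * yV 10)) := by
  have h := List.all_eq_true.1 central_ok a (List.mem_range.2 ha)
  simp only [Bool.and_eq_true, Bool.or_eq_true] at h
  have e : ∀ u v, wEq (expand gens2 u) (expand gens2 v) = true → ev yV u = ev yV v := fun u v h =>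
    eq_of_coe (coe_yV u) (coe_yV v) h
  have e' : ∀ u v, wEq (expand gens2 u) (expand gens2 v) = true →
      (u.map yV).prod = (v.map yV).prod := fun u v h => by
    have h' : ∀ l : List ℕ, ev yV l = (l.map yV).prod := fun l => by
      induction l with
      | nil => exact ev_nil ..
      | cons x l ih => rw [ev_cons, ih, List.map_cons, List.prod_cons]
    rw [← h', ← h']; exact e u v h
  refine ⟨by simpa using e' _ _ h.1, h.2.imp (fun h => ?_) fun h => ?_⟩
  · simpa using e' _ _ h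
  · simpa using e' _ _ h

theorem z_comm {g : KT} (hg : g ∈ V₀) : yV 10 * g = g * yV 10 := by
  have : V₀ ≤ Subgroup.centralizer ({yV 10} : Set KT) := by
    rw [V₀, tailSubgroup, Subgroup.closure_le]
    rintro _ ⟨a, ⟨-, ha⟩, rfl⟩
    exact Subgroup.mem_centralizer_singleton_iff.2 (central ha).1.symm
  exact (Subgroup.mem_centralizer_singleton_iff.1 (this hg)).symm

theorem w_comm {g : KT} (hg : g ∈ V₀) :
    yV 9 * g = g * yV 9 ∨ yV 9 * g = g * (yV 9 * yV 10) := by
  have hz2 := z_sq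
  refine Subgroup.closure_induction
    (p := fun g _ => yV 9 * g = g * yV 9 ∨ yV 9 * g = g * (yV 9 * yV 10)) ?_ ?_ ?_ ?_ hg
  · rintro _ ⟨a, ⟨-, ha⟩, rfl⟩
    exact (central ha).2
  · exact Or.inl (by rw [mul_one, one_mul])
  · intro a b _ hb ha hb'
    have hzb : yV 10 * b = b * yV 10 := z_comm hb
    generalize yV 9 = w at *
    generalize yV 10 = z at *
    rcases ha with ha | ha <;> rcases hb' with hb' | hb'
    · left; rw [← mul_assoc, ha, mul_assoc, hb', mul_assoc]
    · right; rw [← mul_assoc, ha, mul_assoc, hb', mul_assoc]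
    · right; rw [← mul_assoc, ha, mul_assoc, mul_assoc w, hzb, ← mul_assoc w, hb']
      group
    · left
      rw [← mul_assoc, ha, mul_assoc, mul_assoc w, hzb, ← mul_assoc w, hb', mul_assoc b,
        mul_assoc w, hz2, mul_one, ← mul_assoc]
  · intro a ha h
    have hza : yV 10 * a⁻¹ = a⁻¹ * yV 10 := z_comm (inv_mem ha)
    generalize yV 9 = w at *
    generalize yV 10 = z at *
    rcases h with h | h
    · left
      calc w * a⁻¹ = a⁻¹ * (a * w) * a⁻¹ := by group
        _ = a⁻¹ * w := by rw [← h]; group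
    · right
      have h' : a⁻¹ * w = w * z * a⁻¹ := by
        calc a⁻¹ * w = a⁻¹ * (w * a) * a⁻¹ := by group
          _ = w * z * a⁻¹ := by rw [h]; group
      rw [← mul_assoc, h', mul_assoc (w * z), ← hza, ← mul_assoc, mul_assoc w, hz2, mul_one]

theorem z_unique {x : KT} (hx : x ∈ V₀) (hxc : ∀ g ∈ V₀, x * g = g * x) :
    x = 1 ∨ x = yV 10 := by
  obtain ⟨u, hu, rfl⟩ := exists_normalWord hx
  have h := List.all_eq_true.1 centre_ok u hu
  have hcand : zCand u = true := by
    rw [zCand, List.all_eq_true]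
    intro a ha
    refine beq_keyW ?_
    rw [← coe_yV, ← coe_yV, ev_append, ev_append, ev_single, hxc _ (yV_mem (List.mem_range.1 ha))]
  simp only [hcand, Bool.not_true, Bool.false_or, Bool.or_eq_true, beq_iff_eq] at h
  rcases h with rfl | rfl
  · exact Or.inl (ev_nil ..)
  · exact Or.inr (ev_single 10)

theorem w_unique {x : KT} (hx : x ∈ V₀)
    (hxc : ∀ g ∈ V₀, x * g = g * x ∨ x * g = g * (x * yV 10)) :
    x = 1 ∨ x = yV 10 ∨ x = yV 9 ∨ x = yV 9 * yV 10 := by
  obtain ⟨u, hu, rfl⟩ := exists_normalWord hx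
  have h := List.all_eq_true.1 centre_two_ok u hu
  have hcand : wCand u = true := by
    rw [wCand, List.all_eq_true]
    intro a ha
    rw [Bool.or_eq_true]
    rcases hxc _ (yV_mem (List.mem_range.1 ha)) with e | e
    · left
      refine beq_keyW ?_
      rw [← coe_yV, ← coe_yV, ev_append, ev_append, ev_single, e]
    · right
      refine beq_keyW ?_
      rw [← coe_yV, ← coe_yV, ev_append, ev_append, ev_append, ev_single, ev_single, e, mul_assoc]
  simp only [hcand, Bool.not_true, Bool.false_or, Bool.or_eq_true, beq_iff_eq] at h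
  rcases h with ((rfl | rfl) | rfl) | rfl
  · exact Or.inl (ev_nil ..)
  · exact Or.inr (Or.inr (Or.inl (ev_single 9)))
  · exact Or.inr (Or.inl (ev_single 10))
  · exact Or.inr (Or.inr (Or.inr (by rw [ev_cons, ev_single])))

theorem z_ne_one : yV 10 ≠ 1 := fun h => by
  have e : wG [11] = wG [] := by rw [← coe_z, h, Subgroup.coe_one, wG, ev_nil]
  have := key_z
  rw [beq_keyW e] at this
  exact Bool.noConfusion this

theorem A_z : nA * yV 10 = yV 9 * nA :=
  eq_of_coe (coe_mul_wG coe_nA coe_z) (coe_mul_wG coe_w coe_nA) rel_ok.2.2.2.2.2.2.1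

theorem A_w : nA * yV 9 = yV 10 * nA :=
  eq_of_coe (coe_mul_wG coe_nA coe_w) (coe_mul_wG coe_z coe_nA) rel_ok.2.2.2.2.2.2.2.1

theorem B_z : nB * yV 10 = yV 10 * nB :=
  eq_of_coe (coe_mul_wG coe_nB coe_z) (coe_mul_wG coe_z coe_nB) rel_ok.2.2.2.2.2.1

theorem A_ne : nA * yV 10 ≠ yV 10 * nA := fun h => by
  have e := congrArg (Subtype.val : KT → TG (ZMod 2)) h
  rw [coe_mul_wG coe_nA coe_z, coe_mul_wG coe_z coe_nA] at e
  have := key_ne.1
  rw [show ([12, 11] : List ℕ) = [12] ++ [11] from rfl,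
    show ([11, 12] : List ℕ) = [11] ++ [12] from rfl, beq_keyW e] at this
  exact Bool.noConfusion this

theorem B_inv : nB⁻¹ = nB := inv_eq_of_mul_eq_one_right
  (eq_of_coe (coe_mul_wG coe_nB coe_nB) (v := []) rfl key_ne.2.2.2.2.2)

theorem B_w_ne {x : KT} {v : List ℕ} (hx : (x : TG (ZMod 2)) = wG v)
    (hk : Nat.beq (keyW [13, 10, 13]) (keyW v) = false) : nB * yV 9 * nB⁻¹ ≠ x := fun h => by
  have e := congrArg (Subtype.val : KT → TG (ZMod 2)) h
  rw [B_inv, coe_mul_wG (coe_mul_wG coe_nB coe_w) coe_nB, hx] at e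
  rw [show ([13, 10, 13] : List ℕ) = [13] ++ [10] ++ [13] from rfl, beq_keyW e] at hk
  exact Bool.noConfusion hk

theorem B_w_one : nB * yV 9 * nB⁻¹ ≠ 1 :=
  B_w_ne (x := (1 : KT)) (v := []) (by rw [Subgroup.coe_one, wG, ev_nil]) key_ne.2.1

theorem B_w_z : nB * yV 9 * nB⁻¹ ≠ yV 10 :=
  B_w_ne (x := yV 10) (v := [11]) coe_z key_ne.2.2.2.1

theorem B_w_self : nB * yV 9 * nB⁻¹ ≠ yV 9 :=
  B_w_ne (x := yV 9) (v := [10]) coe_w key_ne.2.2.1

theorem B_w_prod : nB * yV 9 * nB⁻¹ ≠ yV 9 * yV 10 :=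
  B_w_ne (x := yV 9 * yV 10) (v := [10] ++ [11]) (coe_mul_wG coe_w coe_z) key_ne.2.2.2.2.1

theorem conjU_lt : ((List.range 11).all fun a => (conjU.getD a []).all fun i => decide (i < 11)) =
    true := by
  decide +kernel

theorem generate : V₀ ⊔ Subgroup.closure {nA, nB} = ⊤ := by
  set M := V₀ ⊔ Subgroup.closure {nA, nB}
  set L : Subgroup (TG (ZMod 2)) := M.map (commutator (TG (ZMod 2))).subtype
  have hev : ∀ u : List ℕ, (∀ a ∈ u, a < 11) → wG (expand gens2 u) ∈ L := by
    intro u hu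
    rw [← coe_yV]
    exact ⟨ev yV u, Subgroup.mem_sup_left (Pc.ev_mem yV fun a ha => yV_mem (hu a ha)), rfl⟩
  have hA : wG [12] ∈ L :=
    ⟨nA, Subgroup.mem_sup_right (Subgroup.subset_closure (Or.inl rfl)), coe_nA⟩
  have hB : wG [13] ∈ L :=
    ⟨nB, Subgroup.mem_sup_right (Subgroup.subset_closure (Or.inr rfl)), coe_nB⟩
  set b := wG [1] with hb
  have hbinv : b⁻¹ = wG [1, 3] := inv_eq_of_mul_eq_one_right (by
    rw [hb, ← wG_append, show wG ([1] ++ [1, 3]) = wG [] from eq_of_wEq rel_ok.2.2.1, wG, ev_nil])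
  have hcw : ∀ u v, wEq ([1] ++ u ++ [1, 3]) v = true → b * wG u * b⁻¹ = wG v := fun u v h => by
    rw [hbinv, hb, ← wG_append, ← wG_append]; exact eq_of_wEq h
  have hconj : b ∈ Subgroup.normalizer (L : Set (TG (ZMod 2))) := by
    have hle : M ≤ (L.comap (MulAut.conj b).toMonoidHom).comap
        (commutator (TG (ZMod 2))).subtype := by
      refine sup_le ?_ ?_
      · rw [V₀, tailSubgroup, Subgroup.closure_le]
        rintro _ ⟨a, ⟨-, ha⟩, rfl⟩
        show b * ((yV a : KT) : TG (ZMod 2)) * b⁻¹ ∈ L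
        rw [coe_yV_single, hcw _ _ (List.all_eq_true.1 conjU_ok a (List.mem_range.2 ha))]
        exact hev _ fun i hi => by
          simpa using List.all_eq_true.1 (List.all_eq_true.1 conjU_lt a (List.mem_range.2 ha)) i hi
      · rw [Subgroup.closure_le]
        rintro x (hx | hx)
        · show b * (x : TG (ZMod 2)) * b⁻¹ ∈ L
          rw [show x = nA from hx, coe_nA, hcw _ _ rel_ok.1,
            show ([1, 2, 12, 3] : List ℕ) = expand gens2 [0] ++ [12] ++ expand gens2 [3] from rfl,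
            wG_append, wG_append]
          exact mul_mem (mul_mem (hev _ (by simp)) hA) (hev _ (by simp))
        · show b * (x : TG (ZMod 2)) * b⁻¹ ∈ L
          rw [show x = nB from hx, coe_nB, hcw _ _ rel_ok.2.1,
            show ([13, 3, 13, 3, 13] : List ℕ) =
              [13] ++ expand gens2 [3] ++ [13] ++ expand gens2 [3] ++ [13] from rfl,
            wG_append, wG_append, wG_append, wG_append]
          exact mul_mem (mul_mem (mul_mem (mul_mem hB (hev _ (by simp))) hB) (hev _ (by simp))) hB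
    refine Subgroup.mem_normalizer_fintype fun x hx => ?_
    obtain ⟨y, hy, rfl⟩ := hx
    have h := hle hy
    simp only [Subgroup.mem_comap, MulEquiv.coe_toMonoidHom, MulAut.conj_apply] at h
    exact h
  set H := Subgroup.zpowers b
  have htop : L ⊔ H = ⊤ := by
    have h0 : wG [0] ∈ L ⊔ H :=
      (show expand gens2 [1] = [0] from rfl) ▸ Subgroup.mem_sup_left (hev [1] (by simp))
    have h3 : wG [3] ∈ L ⊔ H :=
      (show expand gens2 [3] = [3] from rfl) ▸ Subgroup.mem_sup_left (hev [3] (by simp))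
    refine eq_top_of_gens (L ⊔ H) ?_ ?_ ?_ ?_ ?_
    · rw [show ReeF4.liftG 0 = symG 0 from rfl, ← wG_single]; exact h0
    · rw [show ReeF4.liftG 1 = symG 1 from rfl, ← wG_single, ← hb]
      exact Subgroup.mem_sup_right (Subgroup.mem_zpowers b)
    · rw [show ReeF4.liftG 3 = symG 3 from rfl, ← wG_single]; exact h3
    · rw [show (⟨n₀ (ZMod 2), (t₂ (ZMod 2)).n₀_mem⟩ : TG (ZMod 2)) = symG 12 from rfl, ← wG_single]
      exact Subgroup.mem_sup_left hA
    · rw [show (⟨n₁ (ZMod 2), (t₂ (ZMod 2)).n₁_mem⟩ : TG (ZMod 2)) = symG 13 from rfl, ← wG_single]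
      exact Subgroup.mem_sup_left hB
  refine eq_top_iff.2 fun g _ => ?_
  obtain ⟨y, hy, e⟩ := commutator_le_of_outer hconj htop g.2
  rwa [show y = g from Subtype.ext e] at hy

theorem alwaysTwo_model [IsSimpleGroup KT] : AlwaysTwo 2 KT := by
  haveI : Fact (Nat.Prime 2) := ⟨Nat.prime_two⟩
  let V : Sylow 2 KT := Sylow.ofCard V₀ (by
    rw [V₀, card_V, card_derived, Nat.factorization_def _ Nat.prime_two,
      show 2 ^ 11 * 3 ^ 3 * 5 ^ 2 * 13 = 2 ^ 11 * 8775 by norm_num,
      padicValNat.mul (by norm_num) (by norm_num), padicValNat.prime_pow,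
      padicValNat.eq_zero_of_not_dvd (by norm_num)])
  exact alwaysTwo_of_centres V (z := yV 10) (w := yV 9) (a := nA) (b := nB) (yV_mem (by norm_num))
    (yV_mem (by norm_num)) z_ne_one z_sq (fun g hg => z_comm hg) (fun g hg => w_comm hg)
    (fun x hx h => z_unique hx h) (fun x hx h => w_unique hx h) A_z A_w B_z A_ne ⟨B_w_one, B_w_z, B_w_self, B_w_prod⟩ generate

end CfsgLib.PMinSocle.Tits

namespace CfsgLib.PMinSocle

open CfsgLib.ReeF4 in
/-- The frozen carrier and the model agree, for any field with two elements. -/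
theorem nonempty_model_equiv {K : Type} [Field K] [Finite K] [CharP K 2] [Fact (Nat.card K = 2)] :
    Nonempty (↥(commutator ↥(Cfsg.Lie.twistedF4 K 1)) ≃* ↥(commutator (TG K))) :=
  ⟨MulEquiv.refl _⟩

/-- The Tits group at the prime two. -/
theorem alwaysTwo_tits {G : Type*} [Group G] [Finite G] [IsSimpleGroup G]
    (h : Cfsg.Lie.IsoTits G) : AlwaysTwo 2 G := by
  haveI : Fact (Nat.card (ZMod 2) = 2) := ⟨Nat.card_zmod 2⟩
  obtain ⟨e⟩ : Nonempty (G ≃* Cfsg.Lie.TitsGroup) := h
  obtain ⟨f⟩ := nonempty_model_equiv (K := ZMod 2)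
  let e' : G ≃* Tits.KT := e.trans f
  haveI : IsSimpleGroup Tits.KT := (CfsgLib.ReeF4.tits_facts (K := ZMod 2)).2.1
  exact AlwaysTwo.congr (L' := Tits.KT) e' Tits.alwaysTwo_model

end CfsgLib.PMinSocle
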