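import Cfsg.Agent.PMinSocle.CharPair
import Cfsg.Agent.UThree.MonoModel
import Cfsg.Agent.S0283

/-!
# `PSU₃(3)` at the prime two

`D`, the diagonal subgroup, is the only abelian subgroup of index two of the monomial Sylow
subgroup `V`, and `z = diag(1, -1, -1)` is its only central involution; `N(D)` and `C(z)` generate.
-/

set_option autoImplicit false
set_option linter.style.haveILetI false
set_option linter.unusedSectionVars false

namespace CfsgLib.PMinSocle.UThreeThree

open CfsgLib.UThree CfsgLib.UThree.Mono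

/-- The units of norm one. -/
def unitL : List ℕ := [1, 2, 3, 6]

/-- The inverse of a code in `unitL`. -/
def invU (a : ℕ) : ℕ := if a = 3 then 6 else if a = 6 then 3 else a

/-- The diagonal subgroup. -/
def dL : List M9 :=
  unitL.flatMap fun a => unitL.map fun b => ⟨a, 0, 0, 0, b, 0, 0, 0, invU (mulF a b)⟩

/-- The Sylow subgroup. -/
def vL : List M9 :=
  dL ++ unitL.flatMap fun a => unitL.map fun b => ⟨a, 0, 0, 0, 0, b, 0, negF (invU (mulF a b)), 0⟩

/-- The central involution. -/
def zM : M9 := ⟨1, 0, 0, 0, 2, 0, 0, 0, 2⟩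

/-- A cyclic permutation. -/
def cM : M9 := ⟨0, 1, 0, 0, 0, 1, 1, 0, 0⟩

/-- The third generator as a word. -/
def wordG : List M9 := [cM, cM, getG 1, getG 1, cM, getG 1, cM]

theorem ok_all : (cM :: zM :: vL).all colsOK = true := by decide +kernel

theorem vL_closed : vL.all (fun x => vL.all fun y => vL.contains (mulM x y)) = true := by
  decide +kernel

theorem vL_card : vL.Nodup ∧ vL.length = 32 ∧ oneM ∈ vL ∧ dL.Nodup ∧ dL.length = 16 := by
  decide +kernel

theorem z_only : zM ∈ vL ∧ vL.all (fun x => mulM zM x == mulM x zM) = true ∧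
    vL.all (fun x => !(mulM x x == oneM) || !(vL.all fun y => mulM x y == mulM y x) ||
      x == oneM || x == zM) = true ∧ zM ≠ oneM := by
  decide +kernel

theorem d_only : vL.all (fun x => dL.contains x ||
    decide ((vL.filter fun y => mulM x y == mulM y x).length ≤ 8)) = true := by
  decide +kernel

theorem d_norm : (cM :: vL).all (fun x => dL.all fun d => dL.any fun d' =>
    mulM x d == mulM d' x) = true := by
  decide +kernel

theorem not_norm : dL.any (fun d => !(dL.any fun d' =>
    mulM (getG 2) d == mulM d' (getG 2))) = true := by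
  decide +kernel

theorem misc : getG 0 ∈ vL ∧ (mulM zM (getG 1) == mulM (getG 1) zM) = true ∧
    (mulM zM cM == mulM cM zM) = false ∧
    (wordG.foldl mulM oneM == getG 2) = true := by
  decide +kernel

theorem word_ok : wordG.all colsOK = true := by decide +kernel

variable {F : Type*} [Field F] [Fintype F] [CharP F 3] {ι : F} (hι : ι ^ 2 = -1)
include hι

theorem colsOK_vL {x : M9} (hx : x ∈ vL) : colsOK x = true :=
  List.all_eq_true.1 ok_all x (List.mem_cons_of_mem _ (List.mem_cons_of_mem _ hx))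

theorem mk_mul {x y z : M9} (hx : colsOK x = true) (hy : colsOK y = true) (hz : colsOK z = true)
    (h : mulM x y = z) : mk hι x * mk hι y = mk hι z :=
  mat_ext (by rw [mat_mul, mat_mk hι hx, mat_mk hι hy, mat_mk hι hz, ← toMat_mul hι, h])

theorem mk_comm_iff {x y : M9} (hx : colsOK x = true) (hy : colsOK y = true) :
    mk hι x * mk hι y = mk hι y * mk hι x ↔ toMat ι (mulM x y) = toMat ι (mulM y x) := by
  rw [toMat_mul hι, toMat_mul hι, ← mat_mk hι hx, ← mat_mk hι hy, ← mat_mul, ← mat_mul]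
  exact ⟨fun e => by rw [e], mat_ext⟩

theorem mk_injOn {x y : M9} (hx : colsOK x = true) (hy : colsOK y = true) (e : mk hι x = mk hι y) :
    x = y :=
  toMat_injective hι hx hy (by rw [← mat_mk hι hx, ← mat_mk hι hy, e])

theorem mk_one : mk hι oneM = 1 := by
  have h : colsOK oneM = true := colsOK_vL hι vL_card.2.2.1
  exact mat_ext (by rw [mat_mk hι h, toMat_one, mat_one])

theorem alwaysTwo_SU [IsSimpleGroup (Cfsg.SU 3 F 3)] (hF : Fintype.card F = 9) :
    AlwaysTwo 2 (Cfsg.SU 3 F 3) := by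
  classical
  haveI : Fact (Nat.Prime 2) := ⟨Nat.prime_two⟩
  haveI : Finite (Cfsg.SU 3 F 3) := Subtype.finite
  have hv : ∀ {x}, x ∈ vL → colsOK x = true := colsOK_vL hι
  have hcl : ∀ x ∈ vL, ∀ y ∈ vL, mulM x y ∈ vL := fun x hx y hy => by
    have := List.all_eq_true.1 (List.all_eq_true.1 vL_closed x hx) y hy
    simpa using this
  have hd : ∀ {x}, x ∈ dL → x ∈ vL := fun h => List.mem_append_left _ h
  have hc : colsOK cM = true := List.all_eq_true.1 ok_all _ List.mem_cons_self
  let V₀ : Subgroup (Cfsg.SU 3 F 3) := Subgroup.closure {g | ∃ x ∈ vL, mk hι x = g}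
  have hmemV : ∀ g, g ∈ V₀ ↔ ∃ x ∈ vL, mk hι x = g := by
    refine fun g => ⟨fun hg => ?_, fun h => Subgroup.subset_closure h⟩
    have hg' := mem_submonoid_of_mem_closure hg
    clear hg
    induction hg' using Submonoid.closure_induction with
    | mem y hy => exact hy
    | one => exact ⟨oneM, vL_card.2.2.1, mk_one hι⟩
    | mul a b _ _ ha hb =>
      obtain ⟨x, hx, rfl⟩ := ha
      obtain ⟨y, hy, rfl⟩ := hb
      exact ⟨_, hcl x hx y hy, (mk_mul hι (hv hx) (hv hy) (hv (hcl x hx y hy)) rfl).symm⟩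
  have hVcard : Nat.card V₀ = 32 := by
    let f : Fin vL.length → ↥V₀ := fun i => ⟨mk hι (vL.get i), (hmemV _).2 ⟨_, vL.get_mem i, rfl⟩⟩
    have hf : Function.Bijective f := by
      refine ⟨fun i j e => ?_, fun g => ?_⟩
      · exact vL_card.1.get_inj_iff.1
          (mk_injOn hι (hv (vL.get_mem i)) (hv (vL.get_mem j)) (congrArg Subtype.val e))
      · obtain ⟨x, hx, e⟩ := (hmemV g).1 g.2
        obtain ⟨i, rfl⟩ := List.get_of_mem hx
        exact ⟨i, Subtype.ext e⟩
    rw [← Nat.card_eq_of_bijective f hf, Nat.card_eq_fintype_card, Fintype.card_fin, vL_card.2.1]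
  have hK : Nat.card (Cfsg.SU 3 F 3) = 6048 := card_SU33 hF
  let V : Sylow 2 (Cfsg.SU 3 F 3) := Sylow.ofCard V₀ (by
    rw [hVcard, hK, Nat.factorization_def _ Nat.prime_two, show 6048 = 2 ^ 5 * 189 by norm_num,
      padicValNat.mul (by norm_num) (by norm_num), padicValNat.prime_pow,
      padicValNat.eq_zero_of_not_dvd (by norm_num)]
    norm_num)
  set z := mk hι zM with hz
  obtain ⟨hzV, hzc, hzu, hz1⟩ := z_only
  let D : Subgroup (Cfsg.SU 3 F 3) := Subgroup.closure {g | ∃ x ∈ dL, mk hι x = g}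
  have hdcl : ∀ x ∈ dL, ∀ y ∈ dL, mulM x y ∈ dL ∧ mulM x y = mulM y x := by
    have h : dL.all (fun x => dL.all fun y =>
        dL.contains (mulM x y) && (mulM x y == mulM y x)) = true := by decide +kernel
    intro x hx y hy
    have := List.all_eq_true.1 (List.all_eq_true.1 h x hx) y hy
    simpa using this
  have hmemD : ∀ g, g ∈ D ↔ ∃ x ∈ dL, mk hι x = g := by
    refine fun g => ⟨fun hg => ?_, fun h => Subgroup.subset_closure h⟩
    have hg' := mem_submonoid_of_mem_closure hg
    clear hg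
    induction hg' using Submonoid.closure_induction with
    | mem y hy => exact hy
    | one => exact ⟨oneM, by decide +kernel, mk_one hι⟩
    | mul a b _ _ ha hb =>
      obtain ⟨x, hx, rfl⟩ := ha
      obtain ⟨y, hy, rfl⟩ := hb
      exact ⟨_, (hdcl x hx y hy).1,
        (mk_mul hι (hv (hd hx)) (hv (hd hy)) (hv (hd (hdcl x hx y hy).1)) rfl).symm⟩
  have hDV : D ≤ V₀ := fun g hg => by
    obtain ⟨x, hx, rfl⟩ := (hmemD g).1 hg
    exact (hmemV _).2 ⟨x, hd hx, rfl⟩
  have hnorm : ∀ {x}, x ∈ cM :: vL → colsOK x = true →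
      mk hι x ∈ Subgroup.normalizer (D : Set (Cfsg.SU 3 F 3)) := by
    intro x hx hxo
    refine Subgroup.mem_normalizer_fintype fun g hg => ?_
    obtain ⟨d, hd', rfl⟩ := (hmemD g).1 hg
    have := List.all_eq_true.1 (List.all_eq_true.1 d_norm x hx) d hd'
    simp only [List.any_eq_true, beq_iff_eq] at this
    obtain ⟨d', hd'', e⟩ := this
    have e' : mk hι x * mk hι d = mk hι d' * mk hι x := mat_ext (by
      rw [mat_mul, mat_mul, mat_mk hι hxo, mat_mk hι (hv (hd hd')), mat_mk hι (hv (hd hd'')),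
        ← toMat_mul hι, ← toMat_mul hι, e])
    rw [SetLike.mem_coe, e', mul_inv_cancel_right]
    exact (hmemD _).2 ⟨d', hd'', rfl⟩
  refine alwaysTwo_of_fixed_pair V (A := Subgroup.centralizer ({z} : Set _))
    (B := Subgroup.normalizer (D : Set (Cfsg.SU 3 F 3))) ?_ ?_ ?_ ?_ ?_ ?_ ?_
  · intro α hα
    refine map_centralizer_singleton ?_
    have hαz : α z ∈ V₀ := hα.le ⟨z, (hmemV _).2 ⟨zM, hzV, rfl⟩, rfl⟩
    obtain ⟨x, hx, e⟩ := (hmemV _).1 hαz
    have hzz : z * z = 1 := by
      rw [hz, mk_mul hι (hv hzV) (hv hzV) (hv vL_card.2.2.1) (by decide +kernel), mk_one]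
    have hxx : mulM x x = oneM := mk_injOn hι (hv (hcl x hx x hx)) (hv vL_card.2.2.1) (by
      rw [← mk_mul hι (hv hx) (hv hx) (hv (hcl x hx x hx)) rfl, e, ← map_mul, hzz, map_one, mk_one])
    have hxc : ∀ y ∈ vL, mulM x y = mulM y x := fun y hy => by
      refine mk_injOn hι (hv (hcl x hx y hy)) (hv (hcl y hy x hx)) ?_
      rw [← mk_mul hι (hv hx) (hv hy) (hv (hcl x hx y hy)) rfl,
        ← mk_mul hι (hv hy) (hv hx) (hv (hcl y hy x hx)) rfl, e]
      obtain ⟨w, hw, ew⟩ := hα.ge ((hmemV (mk hι y)).2 ⟨y, hy, rfl⟩)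
      rw [← show α w = mk hι y from ew, ← map_mul, ← map_mul]
      congr 1
      obtain ⟨u, hu, rfl⟩ := (hmemV w).1 hw
      exact (mk_comm_iff hι (hv hzV) (hv hu)).2 (by
        rw [beq_iff_eq.1 (List.all_eq_true.1 hzc u hu)])
    have h1 := List.all_eq_true.1 hzu x hx
    simp only [hxx, beq_self_eq_true, Bool.not_true, Bool.false_or, Bool.or_eq_true,
      Bool.not_eq_true', List.all_eq_false, beq_iff_eq] at h1
    rcases h1 with (⟨y, hy, hne⟩ | rfl) | rfl
    · exact absurd (hxc y hy) hne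
    · exfalso
      rw [mk_one] at e
      have hz0 : z = 1 := α.injective (e.symm.trans (map_one α).symm)
      exact hz1 (mk_injOn hι (hv hzV) (hv vL_card.2.2.1) (by rw [← hz, hz0, mk_one]))
    · exact e.symm
  · intro α hα
    have hD : D.map (α : _ ≃* _).toMonoidHom = D := by
      refine Subgroup.eq_of_le_of_card_ge ?_
        (le_of_eq (Subgroup.card_map_of_injective α.injective).symm)
      rintro g ⟨a, ha, rfl⟩
      obtain ⟨x, hx, e⟩ := (hmemV _).1 (hα.le ⟨a, hDV ha, rfl⟩)
      by_contra hnot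
      have hxd : ¬ x ∈ dL := fun h => hnot ((hmemD _).2 ⟨x, h, e⟩)
      have h8 := List.all_eq_true.1 d_only x hx
      simp only [List.contains_eq_mem, hxd, decide_false, Bool.false_or, decide_eq_true_eq] at h8
      have h16 : 16 ≤ (vL.filter fun y => mulM x y == mulM y x).length := by
        have hmem : ∀ b : Fin dL.length, ∃ y ∈ vL.filter (fun y => mulM x y == mulM y x),
            α (mk hι (dL.get b)) = mk hι y := fun b => by
          obtain ⟨y, hy, ey⟩ := (hmemV _).1
            (hα.le ⟨_, hDV ((hmemD _).2 ⟨_, dL.get_mem b, rfl⟩), rfl⟩)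
          refine ⟨y, List.mem_filter.2 ⟨hy, ?_⟩, ey.symm⟩
          rw [beq_iff_eq]
          refine mk_injOn hι (hv (hcl x hx y hy)) (hv (hcl y hy x hx)) ?_
          rw [← mk_mul hι (hv hx) (hv hy) (hv (hcl x hx y hy)) rfl,
            ← mk_mul hι (hv hy) (hv hx) (hv (hcl y hy x hx)) rfl, e, ey]
          obtain ⟨u, hu, rfl⟩ := (hmemD a).1 ha
          show α (mk hι u) * α (mk hι (dL.get b)) = α (mk hι (dL.get b)) * α (mk hι u)
          rw [← map_mul, ← map_mul,
            (mk_comm_iff hι (hv (hd hu)) (hv (hd (dL.get_mem b)))).2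
              (by rw [(hdcl u hu _ (dL.get_mem b)).2])]
        choose f hf hfe using hmem
        have hle := Finset.card_le_card_of_injOn
          (t := (vL.filter fun y => mulM x y == mulM y x).toFinset) f
          (s := Finset.univ) (fun b _ => by simpa using hf b) (fun b _ b' _ h => ?_)
        · rw [Finset.card_univ, Fintype.card_fin, vL_card.2.2.2.2] at hle
          exact hle.trans (List.toFinset_card_le _)
        · have h' := α.injective ((hfe b).trans ((congrArg (mk hι) h).trans (hfe b').symm))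
          exact vL_card.2.2.2.1.get_inj_iff.1
            (mk_injOn hι (hv (hd (dL.get_mem b))) (hv (hd (dL.get_mem b'))) h')
      omega
    rw [Subgroup.map_equiv_normalizer_eq, hD]
  · intro g hg
    obtain ⟨x, hx, rfl⟩ := (hmemV g).1 hg
    rw [Subgroup.mem_centralizer_singleton_iff]
    exact ((mk_comm_iff hι (hv hzV) (hv hx)).2 (by
      rw [beq_iff_eq.1 (List.all_eq_true.1 hzc x hx)])).symm
  · intro g hg
    obtain ⟨x, hx, rfl⟩ := (hmemV g).1 hg
    exact hnorm (List.mem_cons_of_mem _ hx) (hv hx)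
  · intro h
    have h1 : mk hι cM ∈ Subgroup.centralizer ({z} : Set _) := h ▸ Subgroup.mem_top _
    rw [Subgroup.mem_centralizer_singleton_iff] at h1
    have h2 := (mk_comm_iff hι (hv hzV) hc).1 h1.symm
    have h3 : colsOK (mulM zM cM) = true ∧ colsOK (mulM cM zM) = true := by decide +kernel
    have := misc.2.2.1
    rw [toMat_injective hι h3.1 h3.2 h2] at this
    simp at this
  · intro h
    obtain ⟨d, hd', hno⟩ := List.any_eq_true.1 not_norm
    have hG : mk hι (getG 2) ∈ Subgroup.normalizer (D : Set (Cfsg.SU 3 F 3)) :=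
      h ▸ Subgroup.mem_top _
    obtain ⟨d', hd'', e⟩ :=
      (hmemD _).1 ((Subgroup.mem_normalizer_iff.1 hG (mk hι d)).1 ((hmemD _).2 ⟨d, hd', rfl⟩))
    have hok : ∀ x ∈ dL, colsOK (mulM (getG 2) x) = true ∧ colsOK (mulM x (getG 2)) = true := by
      have h : dL.all (fun x => colsOK (mulM (getG 2) x) && colsOK (mulM x (getG 2))) = true := by
        decide +kernel
      intro x hx
      simpa using List.all_eq_true.1 h x hx
    have e' : toMat ι (mulM (getG 2) d) = toMat ι (mulM d' (getG 2)) := by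
      have := congrArg (fun g => g * mk hι (getG 2)) e
      simp only [inv_mul_cancel_right] at this
      rw [toMat_mul hι, toMat_mul hι, ← mat_mk hι (colsOK_all.1 2), ← mat_mk hι (hv (hd hd')),
        ← mat_mk hι (hv (hd hd'')), ← mat_mul, ← mat_mul, this]
    have := toMat_injective hι (hok d hd').1 (hok d' hd'').2 e'
    simp only [Bool.not_eq_true', List.any_eq_false, beq_iff_eq] at hno
    exact hno d' hd'' this
  · set M := Subgroup.centralizer ({z} : Set (Cfsg.SU 3 F 3)) ⊔
      Subgroup.normalizer (D : Set (Cfsg.SU 3 F 3))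
    have hg0 : mk hι (getG 0) ∈ M :=
      Subgroup.mem_sup_right (hnorm (List.mem_cons_of_mem _ misc.1) (colsOK_all.1 0))
    have hg1 : mk hι (getG 1) ∈ M := Subgroup.mem_sup_left (by
      rw [Subgroup.mem_centralizer_singleton_iff]
      exact ((mk_comm_iff hι (hv hzV) (colsOK_all.1 1)).2 (by rw [beq_iff_eq.1 misc.2.1])).symm)
    have hcM : mk hι cM ∈ M := Subgroup.mem_sup_right (hnorm List.mem_cons_self hc)
    have hg2 : mk hι (getG 2) ∈ M := by
      have key : ∀ (w : List M9) (a : M9) (g : Cfsg.SU 3 F 3),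
          (∀ x ∈ w, colsOK x = true ∧ mk hι x ∈ M) → g ∈ M → mat g = toMat ι a →
          ∃ g' ∈ M, mat g' = toMat ι (w.foldl mulM a) := by
        intro w
        induction w with
        | nil => exact fun a g _ hg hga => ⟨g, hg, hga⟩
        | cons x w ih =>
          intro a g hw hg hga
          obtain ⟨hxo, hxM⟩ := hw x List.mem_cons_self
          exact ih (mulM a x) (g * mk hι x) (fun y hy => hw y (List.mem_cons_of_mem _ hy))
            (mul_mem hg hxM) (by rw [mat_mul, hga, mat_mk hι hxo, toMat_mul hι])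
      obtain ⟨g', hg', e⟩ := key wordG oneM 1 (fun x hx => ⟨List.all_eq_true.1 word_ok x hx, by
          simp only [wordG, List.mem_cons, List.not_mem_nil, or_false] at hx
          rcases hx with rfl | rfl | rfl | rfl | rfl | rfl | rfl <;> assumption⟩)
        (one_mem M) (by rw [mat_one, toMat_one])
      rw [beq_iff_eq.1 misc.2.2.2] at e
      exact (show g' = mk hι (getG 2) from mat_ext (by rw [e, mat_mk hι (colsOK_all.1 2)])) ▸ hg'
    refine eq_top_iff.2 fun g _ => ?_
    refine (Subgroup.closure_le M).2 ?_ (mem_closure_gens hι hF g)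
    rintro _ ⟨k, rfl⟩
    fin_cases k
    · exact hg0
    · exact hg1
    · exact hg2

end CfsgLib.PMinSocle.UThreeThree

namespace CfsgLib.PMinSocle

open CfsgLib.UThree

/-- `PSU₃(3)` at the prime two. -/
theorem alwaysTwo_PSU_three_three {F : Type} [Field F] [Fintype F] (hF : Fintype.card F = 9) :
    AlwaysTwo 2 (Cfsg.PSU 3 F 3) := by
  haveI : Fact (Nat.Prime 2) := ⟨Nat.prime_two⟩
  haveI : Fact (Nat.Prime 3) := ⟨Nat.prime_three⟩
  haveI : CharP F 3 := charP_of_card_eq_prime_pow (p := 3) (f := 2) (by rw [hF]; norm_num)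
  obtain ⟨ι, hι⟩ := CfsgLib.UThree.exists_iota hF
  have hc : Subgroup.center (Cfsg.SU 3 F 3) = ⊥ := by
    apply Subgroup.eq_bot_of_card_eq
    rw [CfsgLib.Forms4.card_center_SU (by rw [hF]; norm_num) (by norm_num)]
    norm_num
  let e : Cfsg.SU 3 F 3 ≃* Cfsg.PSU 3 F 3 :=
    MulEquiv.ofBijective (QuotientGroup.mk' (Subgroup.center (Cfsg.SU 3 F 3)))
      ⟨(MonoidHom.ker_eq_bot_iff _).1 (by rw [QuotientGroup.ker_mk', hc]),
        QuotientGroup.mk'_surjective _⟩
  haveI : IsSimpleGroup (Cfsg.PSU 3 F 3) :=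
    Cfsg.Agent.S0283.result (by rw [hF]; norm_num) 3 le_rfl (by simp)
  haveI : IsSimpleGroup (Cfsg.SU 3 F 3) :=
    haveI : Nontrivial (Cfsg.SU 3 F 3) := e.toEquiv.nontrivial
    IsSimpleGroup.isSimpleGroup_of_surjective e.symm.toMonoidHom e.symm.surjective
  exact (UThreeThree.alwaysTwo_SU hι hF).congr e.symm

end CfsgLib.PMinSocle
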