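import Cfsg.Agent.PMinSocle.Families
import Cfsg.Agent.PMinSocle.RankOneCases
import Cfsg.Agent.PMinSocle.LinearEight
import Cfsg.Agent.PMinSocle.UnitaryThreeThree
import Cfsg.Agent.PMinSocle.AlternatingSix
import Cfsg.Agent.PMinSocle.Tits
import Cfsg.Agent.S0325
import Cfsg.Agent.S1054
import Cfsg.Agent.S1055
import Cfsg.Agent.S1070
import Cfsg.Agent.S1071
import Cfsg.Agent.S1072
import Cfsg.Agent.S1073
import Cfsg.Agent.S1074
import Cfsg.Agent.S2363
import Cfsg.Prelude.Def_EvenType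

/-!
# `p`-minimal groups with socle of Lie type
-/

set_option autoImplicit false
set_option linter.style.haveILetI false
set_option linter.unusedSectionVars false

namespace CfsgLib.PMinSocle

open Cfsg.Lie

variable {p : ℕ} [Fact p.Prime] {G : Type*} [Group G] [Finite G]

theorem isSimpleGroup_PSL_two {F : Type*} [Field F] [Fintype F] (h : 4 ≤ Fintype.card F) :
    IsSimpleGroup (Matrix.ProjectiveSpecialLinearGroup (Fin 2) F) :=
  CfsgLib.Linear.isSimpleGroup_PSL_of 2 le_rfl fun _ => by omega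

/-- The sixteen families are simple. -/
theorem isSimpleGroup_of_isLieTypeChar (h : Cfsg.IsLieTypeChar p G) : IsSimpleGroup G := by
  rcases h with h | h | h | h | h | h | h | h | ⟨-, h⟩ | ⟨-, h⟩ | ⟨-, h⟩
  · obtain ⟨F, _, _, _, n, hn, hn2, ⟨e⟩⟩ := h
    haveI : IsSimpleGroup (Matrix.ProjectiveSpecialLinearGroup (Fin n) F) := by
      rcases eq_or_lt_of_le hn with rfl | hn3
      · exact isSimpleGroup_PSL_two (hn2 rfl)
      · exact Cfsg.Agent.S0249.result n hn3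
    exact isSimpleGroup_congr e.symm
  · obtain ⟨F, _, _, _, m, hm, hm2, ⟨e⟩⟩ := h
    haveI := Cfsg.Agent.S0270.result (F := F) m hm hm2
    exact isSimpleGroup_congr e.symm
  · obtain ⟨F, _, _, _, n, q, hF, hn, hne, ⟨e⟩⟩ := h
    haveI := Cfsg.Agent.S0283.result hF n hn hne
    exact isSimpleGroup_congr e.symm
  · obtain ⟨F, _, _, _, m, hm, hodd, ⟨e⟩⟩ := h
    haveI := Cfsg.Agent.S0295.result hodd m hm
    exact isSimpleGroup_congr e.symm
  · obtain ⟨F, _, _, _, m, hm, ⟨e⟩⟩ := h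
    haveI := Cfsg.Agent.S0296.result (F := F) m hm
    exact isSimpleGroup_congr e.symm
  · obtain ⟨F, _, _, _, m, a, b, hm, hab, ⟨e⟩⟩ := h
    haveI := Cfsg.Agent.S0297.result (F := F) m hm a b hab
    exact isSimpleGroup_congr e.symm
  · obtain ⟨F, _, _, _, ⟨h3, ⟨e⟩⟩ | ⟨⟨e⟩⟩ | ⟨⟨e⟩⟩ | ⟨⟨e⟩⟩ | ⟨⟨e⟩⟩⟩ := h
    · haveI := (Cfsg.Agent.S1055.result (CfsgLib.MultPSp.exists_ne_zero_one h3)).1
      exact isSimpleGroup_congr e.symm
    all_goals
      haveI := Cfsg.Agent.S1054.result (F := F)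
      first
        | (haveI := (this chevF4 (by simp)).1; exact isSimpleGroup_congr e.symm)
        | (haveI := (this chevE6 (by simp)).1; exact isSimpleGroup_congr e.symm)
        | (haveI := (this chevE7 (by simp)).1; exact isSimpleGroup_congr e.symm)
        | (haveI := (this chevE8 (by simp)).1; exact isSimpleGroup_congr e.symm)
  · obtain ⟨K, _, _, _, q, hq, ⟨hK, ⟨e⟩⟩ | ⟨hK, ⟨e⟩⟩⟩ := h
    · haveI := (Cfsg.Agent.S1070.result hq hK).1
      exact isSimpleGroup_congr e.symm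
    · haveI := (Cfsg.Agent.S1071.result hq hK).1
      exact isSimpleGroup_congr e.symm
  · obtain ⟨F, _, _, m, hm, hF, ⟨e⟩⟩ := h
    haveI := Cfsg.Agent.S0325.result hm hF
    exact isSimpleGroup_congr ((CfsgLib.Suzuki.lieSzEquiv ⟨hm, hF⟩).trans e.symm)
  · obtain ⟨K, _, _, m, hm, hK, ⟨e⟩⟩ := h
    haveI := (Cfsg.Agent.S1072.result hm hK).1
    exact isSimpleGroup_congr e.symm
  · obtain ⟨K, _, _, m, hm, hK, ⟨e⟩⟩ := h
    haveI := (Cfsg.Agent.S1073.result hm hK).1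
    exact isSimpleGroup_congr e.symm

/-- The members of `Chev(p)` are simple. -/
theorem isSimpleGroup_of_isChevSimple (h : Cfsg.IsChevSimple p G) : IsSimpleGroup G := by
  rcases h with h | ⟨-, ⟨⟨e⟩⟩ | ⟨F, _, _, hF, ⟨e⟩⟩ | h⟩ | ⟨-, F, _, _, hF, ⟨e⟩⟩
  · exact isSimpleGroup_of_isLieTypeChar h
  · haveI : IsSimpleGroup ↥(alternatingGroup (Fin 6)) := alternatingGroup.isSimpleGroup (by simp)
    exact isSimpleGroup_congr e.symm
  · haveI := Cfsg.Agent.S0283.result (q := 3) (by rw [hF]; norm_num) 3 le_rfl (by simp)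
    exact isSimpleGroup_congr e.symm
  · obtain ⟨e⟩ : Nonempty (G ≃* TitsGroup) := h
    haveI : IsSimpleGroup TitsGroup := Cfsg.Agent.S1074.result.2.1
    exact isSimpleGroup_congr (G := TitsGroup) e.symm
  · haveI := isSimpleGroup_PSL_two (F := F) (by omega)
    exact isSimpleGroup_congr e.symm

/-- Every case. -/
theorem outcome_of_isChevSimple [IsSimpleGroup G] (h : Cfsg.IsChevSimple p G) :
    Outcome p G ∨ (Cfsg.IsLieRankOneChar p G ∧ AlwaysSmall p G ∧ ¬ IsPGroup p G) := by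
  rcases h with h | ⟨rfl, ⟨⟨e⟩⟩ | ⟨F, _, _, hF, ⟨e⟩⟩ | h⟩ | ⟨rfl, F, _, _, hF, ⟨e⟩⟩
  · rcases h with h | h | h | h | h | h | h | h | ⟨rfl, h⟩ | ⟨rfl, h⟩ | ⟨rfl, h⟩
    · obtain ⟨F, _, _, _, n, hn, hn2, ⟨e⟩⟩ := h
      rcases eq_or_lt_of_le hn with rfl | hn3
      · haveI := isSimpleGroup_congr e
        exact Or.inr ⟨Or.inl ⟨F, _, _, ‹_›, hn2 rfl, ⟨e⟩⟩,
          (alwaysSmall_PSL_two F).congr e, not_isPGroup_PSL_two (hn2 rfl) e⟩
      · exact Or.inl (outcome_PSL hn3 e)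
    · obtain ⟨F, _, _, _, m, hm, hm2, ⟨e⟩⟩ := h
      exact Or.inl (outcome_PSp hm hm2 e)
    · obtain ⟨F, _, _, _, n, q, hF, hn, hne, ⟨e⟩⟩ := h
      rcases eq_or_lt_of_le hn with rfl | hn4
      · haveI := isSimpleGroup_congr e
        have hq : q ≠ 2 := fun h => hne ⟨rfl, h⟩
        exact Or.inr ⟨Or.inr (Or.inl ⟨F, _, _, ‹_›, q, hF, hq, ⟨e⟩⟩),
          (alwaysSmall_PSU_three hF).congr e, not_isPGroup_PSU_three hF hq e⟩
      · exact Or.inl (outcome_PSU hF hn4 e)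
    · exact Or.inl (outcome_POmega (Or.inl h))
    · exact Or.inl (outcome_POmega (Or.inr (Or.inl h)))
    · exact Or.inl (outcome_POmega (Or.inr (Or.inr h)))
    · exact Or.inl (Or.inl (alwaysTwo_exceptional h))
    · exact Or.inl (Or.inl (alwaysTwo_twistedE6D4 h))
    · exact Or.inr ⟨Or.inr (Or.inr (Or.inl ⟨rfl, h⟩)), alwaysSmall_isoSuzuki h,
        not_isPGroup_isoSuzuki h⟩
    · exact Or.inl (Or.inl (alwaysTwo_iso2F4 h))
    · exact Or.inr ⟨Or.inr (Or.inr (Or.inr ⟨rfl, Or.inl h⟩)), alwaysSmall_isoRee h,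
        not_isPGroup_isoRee h⟩
  · exact Or.inl (Or.inr ⟨rfl, twoOrSmall_alt_six.congr e, Or.inr (Or.inr ⟨e⟩)⟩)
  · exact Or.inl (Or.inl ((alwaysTwo_PSU_three_three hF).congr e))
  · exact Or.inl (Or.inl (alwaysTwo_tits h))
  · refine Or.inr ⟨Or.inr (Or.inr (Or.inr ⟨rfl, Or.inr ⟨F, _, _, hF, ⟨e⟩⟩⟩)),
      (alwaysSmall_PSL_two_eight hF).congr e, not_isPGroup_of_dvd (r := 7) (c := 1) ?_ (by norm_num)
        (by norm_num) one_pos⟩
    rw [one_mul, Nat.card_congr e.toEquiv,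
      CfsgLib.Linear.card_PSL_two_even (by rw [hF]; decide), hF]
    norm_num

theorem prime_dvd_card (h : Cfsg.IsChevSimple p G) : p ∣ Nat.card G := by
  rcases h with h | ⟨rfl, ⟨⟨e⟩⟩ | ⟨F, _, _, hF, ⟨e⟩⟩ | h⟩ | ⟨rfl, F, _, _, hF, ⟨e⟩⟩
  · by_contra hd
    have h1 := (Cfsg.Agent.S2363.result p Fact.out h).1
    rw [Nat.factorization_eq_zero_of_not_dvd hd, mul_zero, pow_zero] at h1
    have := Nat.card_pos (α := G)
    omega
  · rw [Nat.card_congr e.toEquiv, AltSix.card_K]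
    norm_num
  · have h1 := Cfsg.Agent.S0280.result (q := 3) (F := F) (by rw [hF]; norm_num) 3 (by norm_num)
    norm_num [Finset.prod_range_succ, Nat.even_iff] at h1
    rw [Nat.card_congr e.toEquiv]
    omega
  · obtain ⟨e⟩ : Nonempty (G ≃* TitsGroup) := h
    rw [Nat.card_congr e.toEquiv, Cfsg.Agent.S1074.result.2.2.2]
    norm_num
  · rw [Nat.card_congr e.toEquiv, CfsgLib.Linear.card_PSL_two_even (by rw [hF]; decide), hF]
    norm_num

/-- A Sylow subgroup which is neither trivial nor the whole group is not normal. -/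
theorem normalizer_ne_top [IsSimpleGroup G] (U : Sylow p G) (hd : p ∣ Nat.card G)
    (hU : (U : Subgroup G) ≠ ⊤) : Subgroup.normalizer ((U : Subgroup G) : Set G) ≠ ⊤ := fun h => by
  rcases (Subgroup.normalizer_eq_top_iff.1 h).eq_bot_or_eq_top with h0 | h0
  · exact U.ne_bot_of_dvd_card hd h0
  · exact hU h0

theorem sylow_ne_top_of_two {U : Sylow p G} (h : Two ((U : Subgroup G).map MulAut.conj)
    (U : Subgroup G)) : (U : Subgroup G) ≠ ⊤ := fun hU => by
  obtain ⟨A, B, -, -, hUA, -, hA, -⟩ := h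
  exact hA (top_le_iff.1 (hU ▸ hUA))

/-- The theorem. -/
theorem main {X : Type*} [Group X] [Finite X] (hX : Cfsg.IsPMinimal p X)
    (N : Subgroup X) [N.Normal] (hK : Cfsg.IsChevSimple p ↥N) (U : Sylow p ↥N) :
    IsCoatom (Subgroup.normalizer (((U : Subgroup ↥N).map N.subtype : Subgroup X) : Set X)) ∧
      (Cfsg.IsLieRankOneChar p ↥N ∨ (p = 2 ∧ N ≠ ⊤ ∧ GraphList ↥N)) := by
  haveI := isSimpleGroup_of_isChevSimple hK
  have hd := prime_dvd_card hK
  have hUp : IsPGroup p ↥((U : Subgroup ↥N).map MulAut.conj) := U.2.map _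
  rcases outcome_of_isChevSimple hK with (h | ⟨hp, h, hl⟩) | ⟨h1, h, hn⟩
  · exact false_of_alwaysTwo hX U
      (normalizer_ne_top U hd (sylow_ne_top_of_two (h U _ hUp le_rfl))) h
  · have hU := normalizer_ne_top U hd (sylow_ne_top_of_two ((h U _ hUp le_rfl).2
      (Subgroup.map_le_range _ _)))
    obtain ⟨hc, hne⟩ := coatom_of_twoOrSmall hX U hU h
    exact ⟨hc, Or.inr ⟨hp, hne, hl⟩⟩
  · refine ⟨coatom_of_alwaysSmall hX U (normalizer_ne_top U hd fun hU => hn ?_) h, Or.inl h1⟩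
    intro x
    obtain ⟨k, hk⟩ := U.2 ⟨x, hU ▸ Subgroup.mem_top x⟩
    exact ⟨k, congrArg Subtype.val hk⟩

end CfsgLib.PMinSocle
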