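import Cfsg.Agent.PMinSocle.Basic

/-!
# Reduction of the criteria to one Sylow subgroup
-/

set_option autoImplicit false
set_option linter.style.haveILetI false

namespace CfsgLib.PMinSocle

open Subgroup

variable {p : ℕ} [Fact p.Prime] {L : Type*} [Group L] [Finite L]

/-- A `p`-group of automorphisms containing the inner ones of the Sylow subgroup `U` fixes `U`. -/
theorem map_sylow_eq [IsSimpleGroup L] (U : Sylow p L) {T : Subgroup (MulAut L)} (hT : IsPGroup p T)
    (hUT : (U : Subgroup L).map MulAut.conj ≤ T) {t : MulAut L} (ht : t ∈ T) :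
    (U : Subgroup L).map (t : L ≃* L).toMonoidHom = U := by
  have hcard : Nat.card ↥((U : Subgroup L).map (t : L ≃* L).toMonoidHom) = Nat.card ↥(U : Subgroup L) :=
    Subgroup.card_map_of_injective t.injective
  rcases (inferInstance : (Subgroup.center L).Normal).eq_bot_or_eq_top with hc | hc
  · have hinj : Function.Injective (MulAut.conj : L →* MulAut L) := by
      rw [injective_iff_map_eq_one]
      intro x hx
      have : x ∈ Subgroup.center L := Subgroup.mem_center_iff.2 fun y => by
        have h := DFunLike.congr_fun hx y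
        rw [MulAut.conj_apply, MulAut.one_apply, mul_inv_eq_iff_eq_mul] at h
        exact h.symm
      rwa [hc, Subgroup.mem_bot] at this
    have hP : IsPGroup p ↥(T.comap MulAut.conj) := hT.comap_of_injective _ hinj
    have hU : (U : Subgroup L) ≤ T.comap MulAut.conj := Subgroup.map_le_iff_le_comap.1 hUT
    have heq := U.3 hP hU
    refine Subgroup.eq_of_le_of_card_ge ?_ hcard.ge
    rintro _ ⟨u, hu, rfl⟩
    rw [← heq, Subgroup.mem_comap]
    have he : MulAut.conj (t u) = t * MulAut.conj u * t⁻¹ := MulEquiv.ext fun y => by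
      simp only [MulAut.mul_apply, MulAut.conj_apply, map_mul, map_inv]
      rw [show t (t⁻¹ y) = y from t.apply_symm_apply y]
    show MulAut.conj (t u) ∈ T
    rw [he]
    exact mul_mem (mul_mem ht (hUT ⟨u, hu, rfl⟩)) (inv_mem ht)
  · haveI : (U : Subgroup L).Normal := ⟨fun u hu g => by
      have h : u ∈ Subgroup.center L := hc ▸ Subgroup.mem_top u
      rw [Subgroup.mem_center_iff.1 h g, mul_assoc, mul_inv_cancel, mul_one]
      exact hu⟩
    obtain ⟨g, hg⟩ := MulAction.exists_smul_eq L U (U.mapSurjective (f := (t : L ≃* L).toMonoidHom) t.surjective)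
    rw [Sylow.smul_eq_of_normal] at hg
    exact (congrArg Sylow.toSubgroup hg).symm

/-- It is enough to check the property at one Sylow subgroup. -/
theorem exists_admissible_at (U₀ U : Sylow p L) {T : Subgroup (MulAut L)} (hT : IsPGroup p T)
    (hUT : (U : Subgroup L).map MulAut.conj ≤ T) :
    ∃ e : L ≃* L, (U : Subgroup L).map e.toMonoidHom = U₀ ∧
      IsPGroup p (T.map (MulAut.congr e).toMonoidHom) ∧
      (U₀ : Subgroup L).map MulAut.conj ≤ T.map (MulAut.congr e).toMonoidHom := by
  obtain ⟨g, hg⟩ := MulAction.exists_smul_eq L U U₀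
  have he : (U : Subgroup L).map (MulAut.conj g : L ≃* L).toMonoidHom = U₀ := by
    rw [← hg, Sylow.coe_subgroup_smul]
    rfl
  obtain ⟨U', hU', hT', hUT'⟩ := admissible_congr (MulAut.conj g : L ≃* L) U hT hUT
  exact ⟨MulAut.conj g, he, hT', by rw [← he, ← hU']; exact hUT'⟩

/-- An inner member of an admissible group comes from the Sylow subgroup. -/
theorem exists_mem_of_inner [IsSimpleGroup L] (U : Sylow p L) {T : Subgroup (MulAut L)}
    (hT : IsPGroup p T) (hUT : (U : Subgroup L).map MulAut.conj ≤ T) {x : L}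
    (hx : MulAut.conj x ∈ T) : ∃ u ∈ (U : Subgroup L), MulAut.conj u = MulAut.conj x := by
  rcases (inferInstance : (Subgroup.center L).Normal).eq_bot_or_eq_top with hc | hc
  · have hinj : Function.Injective (MulAut.conj : L →* MulAut L) := by
      rw [injective_iff_map_eq_one]
      intro y hy
      have : y ∈ Subgroup.center L := Subgroup.mem_center_iff.2 fun z => by
        have h := DFunLike.congr_fun hy z
        rw [MulAut.conj_apply, MulAut.one_apply, mul_inv_eq_iff_eq_mul] at h
        exact h.symm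
      rwa [hc, Subgroup.mem_bot] at this
    have heq := U.3 (hT.comap_of_injective _ hinj) (Subgroup.map_le_iff_le_comap.1 hUT)
    exact ⟨x, by rw [← heq]; exact hx, rfl⟩
  · refine ⟨1, one_mem _, MulEquiv.ext fun y => ?_⟩
    have hx : x ∈ Subgroup.center L := hc ▸ Subgroup.mem_top x
    rw [MulAut.conj_apply, MulAut.conj_apply, one_mul, inv_one, mul_one,
      ← Subgroup.mem_center_iff.1 hx y, mul_assoc, mul_inv_cancel, mul_one]

theorem alwaysTwo_of_one (U₀ : Sylow p L)
    (h : ∀ T : Subgroup (MulAut L), IsPGroup p T → (U₀ : Subgroup L).map MulAut.conj ≤ T →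
      Two T (U₀ : Subgroup L)) : AlwaysTwo p L := fun U T hT hUT => by
  obtain ⟨e, he, hT', hUT'⟩ := exists_admissible_at U₀ U hT hUT
  exact two_congr e (he ▸ h _ hT' hUT')

theorem twoOrSmall_of_one (U₀ : Sylow p L)
    (h : ∀ T : Subgroup (MulAut L), IsPGroup p T → (U₀ : Subgroup L).map MulAut.conj ≤ T →
      (Two T (U₀ : Subgroup L) ∨ Small T (U₀ : Subgroup L)) ∧
        (T ≤ (MulAut.conj (G := L)).range → Two T (U₀ : Subgroup L))) :
    TwoOrSmall p L := fun U T hT hUT => by
  obtain ⟨e, he, hT', hUT'⟩ := exists_admissible_at U₀ U hT hUT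
  obtain ⟨h1, h2⟩ := h _ hT' hUT'
  exact ⟨h1.imp (fun h => two_congr e (he ▸ h)) (fun h => small_congr e (he ▸ h)),
    fun hr => two_congr e (he ▸ h2 (range_conj_congr e hr))⟩

end CfsgLib.PMinSocle
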