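import Cfsg.Agent.PMinSocle.RankOneCriterion
import Cfsg.Agent.PMinSocle.ChevInstances
import Cfsg.Agent.LieCharP.RigidRankOne
import Cfsg.Agent.LieCharP.RigidSzRee

/-!
# `PSL₂`, `PSU₃`, the Suzuki groups and the small Ree groups
-/

set_option autoImplicit false
set_option linter.style.haveILetI false
set_option linter.unusedSectionVars false

namespace CfsgLib.PMinSocle

open scoped MatrixGroups

/-- A power killing the second factor of a split lands in the normal first factor. -/
theorem mul_pow_mem {H : Type*} [Group H] {U : Subgroup H} {u t : H} (hu : u ∈ U)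
    (ht : t ∈ Subgroup.normalizer (U : Set H)) {n : ℕ} (hn : t ^ n = 1) : (u * t) ^ n ∈ U := by
  have key : ∀ k : ℕ, (u * t) ^ k * (t ^ k)⁻¹ ∈ U := by
    intro k
    induction k with
    | zero => simp
    | succ k ih =>
      have h1 := mul_mem hu ((Subgroup.mem_normalizer_iff.1 ht _).1 ih)
      rw [pow_succ' (u * t), pow_succ' t]
      convert h1 using 1
      group
  simpa [hn] using key n

variable {p : ℕ} [Fact p.Prime]

theorem not_dvd_sub_one {q : ℕ} (hq : p ∣ q) (h1 : 1 ≤ q) : ¬ p ∣ q - 1 := fun h => by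
  have h2 := Nat.dvd_sub hq h
  rw [Nat.sub_sub_self h1] at h2
  exact (Fact.out : p.Prime).not_dvd_one h2

theorem dvd_card_field (F : Type*) [Field F] [Fintype F] [CharP F p] : p ∣ Fintype.card F := by
  obtain ⟨k, -, hk⟩ := FiniteField.card F p
  rw [hk]
  exact dvd_pow_self p k.pos.ne'

section linear

open CfsgLib.LieCharP CfsgLib.LocalEven50 CfsgLib.RankOneP

/-- `PSL₂`. -/
theorem alwaysSmall_PSL_two (F : Type) [Field F] [Fintype F] [CharP F p]
    [IsSimpleGroup (Matrix.ProjectiveSpecialLinearGroup (Fin 2) F)] :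
    AlwaysSmall p (Matrix.ProjectiveSpecialLinearGroup (Fin 2) F) := by
  classical
  set w : SL(2, F) := ⟨!![0, -1; 1, 0], by simp [Matrix.det_fin_two]⟩ with hw
  have hwv : (w : Matrix (Fin 2) (Fin 2) F) = !![0, -1; 1, 0] := rfl
  have hwinv : ((w⁻¹ : SL(2, F)) : Matrix (Fin 2) (Fin 2) F) = !![0, 1; -1, 0] := by
    rw [Matrix.SpecialLinearGroup.coe_inv, hwv, Matrix.adjugate_fin_two_of]
    simp
  refine alwaysSmall_of_split (QuotientGroup.mk' (Subgroup.center SL(2, F)))
    (QuotientGroup.mk'_surjective _) (B := upperBorel F) (U := (upperHom F).range) (w := w) ?_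
    (isPGroup_range_hom _) (fun h => ?_) (fun g hg => ?_)
    (not_dvd_sub_one (dvd_card_field F) Fintype.card_pos) fun b hb => ?_
  · intro g hg
    refine Subgroup.mem_normalizer_fintype fun v hv => ?_
    obtain ⟨t, rfl⟩ := hv
    have h1 := CfsgLib.PSL2Borel.conj_upper_of_borel F g hg t.toAdd
    rw [ofAdd_toAdd] at h1
    exact ⟨_, eq_mul_inv_of_mul_eq h1.symm⟩
  · have h1 := (Subgroup.eq_bot_iff_forall _).1 h _ ⟨_, ⟨.ofAdd 1, rfl⟩, rfl⟩
    rw [QuotientGroup.mk'_apply, QuotientGroup.eq_one_iff] at h1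
    have h2 := Subgroup.mem_center_iff.1 h1 w
    have h3 : ((w * upperHom F (.ofAdd 1) : SL(2, F)) : Matrix (Fin 2) (Fin 2) F) 0 0 =
        ((upperHom F (.ofAdd 1) * w : SL(2, F)) : Matrix (Fin 2) (Fin 2) F) 0 0 := by rw [h2]
    simp [upper_val, hwv, Matrix.mul_apply, Fin.sum_univ_two] at h3
  · have hc : (g : Matrix (Fin 2) (Fin 2) F) 1 0 ≠ 0 := hg
    refine ⟨upperHom F (.ofAdd ((g : Matrix (Fin 2) (Fin 2) F) 0 0 /
      (g : Matrix (Fin 2) (Fin 2) F) 1 0)), ⟨_, rfl⟩, ?_⟩
    show (((upperHom F _ * w)⁻¹ * g : SL(2, F)) : Matrix (Fin 2) (Fin 2) F) 1 0 = 0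
    rw [mul_inv_rev, ← map_inv, Matrix.SpecialLinearGroup.coe_mul,
      Matrix.SpecialLinearGroup.coe_mul, hwinv, upper_val]
    simp [Matrix.mul_apply, Fin.sum_univ_two]
    field_simp
    ring
  · have key : ∀ k : ℕ, ((b ^ k : SL(2, F)) : Matrix (Fin 2) (Fin 2) F) 1 0 = 0 ∧
        ((b ^ k : SL(2, F)) : Matrix (Fin 2) (Fin 2) F) 0 0 =
          (b : Matrix (Fin 2) (Fin 2) F) 0 0 ^ k := by
      intro k
      induction k with
      | zero => simp
      | succ k ih =>
        have h0 : (b : Matrix (Fin 2) (Fin 2) F) 1 0 = 0 := hb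
        rw [pow_succ, Matrix.SpecialLinearGroup.coe_mul, pow_succ]
        rw [Matrix.mul_apply, Matrix.mul_apply, Fin.sum_univ_two, Fin.sum_univ_two, ih.1, ih.2, h0]
        simp
    obtain ⟨h10, h00⟩ := key (Fintype.card F - 1)
    have ha : (b : Matrix (Fin 2) (Fin 2) F) 0 0 ≠ 0 := fun h => by
      have h1 := b.2
      rw [Matrix.det_fin_two, h, show (b : Matrix (Fin 2) (Fin 2) F) 1 0 = 0 from hb] at h1
      simp at h1
    rw [FiniteField.pow_card_sub_one_eq_one _ ha] at h00
    have h11 : ((b ^ (Fintype.card F - 1) : SL(2, F)) : Matrix (Fin 2) (Fin 2) F) 1 1 = 1 := by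
      have h1 := (b ^ (Fintype.card F - 1)).2
      rw [Matrix.det_fin_two, h10, h00] at h1
      simpa using h1
    refine ⟨.ofAdd (((b ^ (Fintype.card F - 1) : SL(2, F)) : Matrix (Fin 2) (Fin 2) F) 0 1),
      Subtype.ext (Matrix.ext fun i j => ?_)⟩
    rw [upper_val]
    fin_cases i <;> fin_cases j <;> simp [h10, h00, h11]

end linear

section unitary

open CfsgLib.RepBounds.Unit CfsgLib.RankOneP CfsgLib.LieCharP Matrix

/-- `PSU₃`. -/
theorem alwaysSmall_suG_three {F : Type*} [Field F] [Fintype F] [CharP F p] (C : ConjField F)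
    {G : Type*} [Group G] [Finite G] [IsSimpleGroup G] (f : suG C (Fin 2 ⊕ Fin 1) →* G)
    (hf : Function.Surjective f) (hker : f.ker ≤ Subgroup.center _) : AlwaysSmall p G := by
  classical
  set e := vE C (Fin 1) with he
  set v := vF C (Fin 1) with hv
  have hne : e ≠ 0 := fun h => by
    have := congrFun h (Sum.inl 0)
    simp [he, vE] at this
  obtain ⟨t0, -, ht0⟩ := exists_to_vE C (x := v) (herm_vF_vF C) (fun h => by
    have := herm_vF_vE C (κ := Fin 1)
    rw [← hv, h, herm_zero_left] at this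
    exact zero_ne_one this)
  set w := t0⁻¹ with hwdef
  have hwe : app C w e = v := by rw [hwdef, he, ← ht0, app_inv_app]
  refine alwaysSmall_of_split f hf (B := lineE C) (U := stabE C) (w := w) (fun g hg => ?_)
    (isPGroup_stabE C p) (fun h => ?_) (fun g hg => ?_)
    (not_dvd_sub_one (dvd_card_field F) Fintype.card_pos) fun b hb => ?_
  · obtain ⟨a, ha⟩ := hg
    refine Subgroup.mem_normalizer_fintype fun u hu => ?_
    show app C (g * u * g⁻¹) (vE C (Fin 1)) = vE C (Fin 1)
    have hinv : app C g⁻¹ (vE C (Fin 1)) = ((a⁻¹ : Fˣ) : F) • vE C (Fin 1) := by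
      conv_rhs => rw [← app_inv_app C g (vE C (Fin 1)), ha, app_smul, smul_smul, Units.inv_mul,
        one_smul]
    rw [app_mul, app_mul, hinv, app_smul, show app C u (vE C (Fin 1)) = vE C (Fin 1) from hu,
      app_smul, ha, smul_smul, Units.inv_mul, one_smul]
  · obtain ⟨d, hd, hd0⟩ := C.exists_skew_ne
    set u := uniEl C (0 : Fin 1 → F) d (skew_valid C hd) with hu
    have h1 : f u = 1 :=
      (Subgroup.eq_bot_iff_forall _).1 h _ ⟨u, uniEl_mem C 0 d (skew_valid C hd), rfl⟩
    have h2 : app C u v = v := by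
      conv_lhs => rw [← hwe, ← app_mul, ← Subgroup.mem_center_iff.1 (hker h1) w, app_mul, hu, he,
        app_uniEl_vE, ← he, hwe]
    rw [hu, hv, app_uniEl_vF, inW_zero, add_zero, add_eq_left, smul_eq_zero] at h2
    exact h2.elim hd0 hne
  · set y := app C g e with hy
    have hyy : herm C y y = 0 := by rw [hy, herm_app, he, herm_vE_vE]
    have hyd := decomp C y
    have hye : herm C y e ≠ 0 := by
      intro h0
      apply hg
      rw [← he, h0, zero_smul, add_zero] at hyd
      have hw0 : y ∘ Sum.inr = 0 := by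
        rw [hyd] at hyy
        simp only [herm_add_left, herm_add_right, herm_smul_left, herm_smul_right, he, herm_vE_vE,
          herm_vE_inW, herm_inW_vE, herm_inW, mul_zero, add_zero, zero_add] at hyy
        funext i
        rw [Fin.fin_one_eq_zero i]
        simpa [herm] using hyy
      rw [hw0, inW_zero, add_zero] at hyd
      have hne0 : herm C y (vF C (Fin 1)) ≠ 0 := fun h => hne (by
        rw [h, zero_smul] at hyd
        rw [← app_inv_app C g e, ← hy, hyd]
        exact Matrix.mulVec_zero _)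
      exact ⟨Units.mk0 _ hne0, hyd⟩
    set β := herm C y e with hβ
    set y' := β⁻¹ • y with hy'
    set x := y' ∘ Sum.inr
    set c := herm C y' (vF C (Fin 1))
    have hd : y' = c • e + vF C (Fin 1) + inW x := by
      conv_lhs => rw [decomp C y']
      rw [show herm C y' (vE C (Fin 1)) = 1 by
        rw [hy', herm_smul_left, ← he, ← hβ, inv_mul_cancel₀ hye], one_smul]
    have hc : c + C.σ c + herm C x x = 0 := by
      have h0 : herm C y' y' = 0 := by rw [hy', herm_smul_left, herm_smul_right, hyy]; simp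
      rw [hd] at h0
      simp only [he, herm_add_left, herm_add_right, herm_smul_left, herm_smul_right, herm_vE_vE,
        herm_vE_vF, herm_vF_vE, herm_vF_vF, herm_vE_inW, herm_vF_inW, herm_inW_vE, herm_inW_vF,
        herm_inW] at h0
      linear_combination h0
    refine ⟨uniEl C x c hc, uniEl_mem C x c hc, Units.mk0 β hye, ?_⟩
    have huw : app C (uniEl C x c hc * w) e = y' := by
      rw [app_mul, hwe, hv, app_uniEl_vF, hd, ← he]; abel
    rw [Units.val_mk0, ← he, app_mul, ← hy, show y = β • y' by rw [hy', smul_inv_smul₀ hye],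
      app_smul, ← huw, app_inv_app]
  · obtain ⟨a, ha⟩ := hb
    have key : ∀ k : ℕ, app C (b ^ k) (vE C (Fin 1)) = (a : F) ^ k • vE C (Fin 1) := by
      intro k
      induction k with
      | zero => simp [app_one]
      | succ k ih => rw [pow_succ, app_mul, ha, app_smul, ih, smul_smul, ← pow_succ']
    show app C (b ^ (Fintype.card F - 1)) (vE C (Fin 1)) = vE C (Fin 1)
    rw [key, FiniteField.pow_card_sub_one_eq_one _ a.ne_zero, one_smul]

/-- `PSU₃(q)`. -/
theorem alwaysSmall_PSU_three {F : Type*} [Field F] [Fintype F] [CharP F p] {q : ℕ}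
    (hF : Fintype.card F = q ^ 2) [IsSimpleGroup (Cfsg.PSU 3 F q)] :
    AlwaysSmall p (Cfsg.PSU 3 F q) := by
  obtain ⟨C, rfl⟩ := exists_conjField (F := F) q hF
  have hinv : ∀ {ι κ : Type} [Fintype ι] [DecidableEq ι] [Fintype κ] [DecidableEq κ] (r : ι ≃ κ)
      (g : suG C ι), reindexHom C r.symm (reindexHom C r g) = g := fun r g => suG_ext C fun x => by
    rw [app_reindexHom, app_reindexHom]
    simp [Function.comp_def]
  let r : Fin 2 ⊕ Fin 1 ≃ Fin 3 := finSumFinEquiv
  let E : suG C (Fin 2 ⊕ Fin 1) ≃* Cfsg.SU 3 F C.q :=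
    ({ toFun := reindexHom C r
       invFun := reindexHom C r.symm
       left_inv := hinv r
       right_inv := fun g => by simpa using hinv r.symm g
       map_mul' := map_mul _ } : suG C (Fin 2 ⊕ Fin 1) ≃* suG C (Fin 3)).trans
      (MulEquiv.subgroupCongr (suG_fin_eq C (n := 3)))
  refine alwaysSmall_suG_three C
    ((QuotientGroup.mk' (Subgroup.center (Cfsg.SU 3 F C.q))).comp E.toMonoidHom)
    ((QuotientGroup.mk'_surjective _).comp E.surjective) fun z hz => ?_
  have h1 : E z ∈ Subgroup.center (Cfsg.SU 3 F C.q) := (QuotientGroup.eq_one_iff _).1 hz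
  exact Subgroup.mem_center_iff.2 fun g => E.injective (by
    rw [map_mul, map_mul]; exact Subgroup.mem_center_iff.1 h1 (E g))

end unitary

open Cfsg.Lie CfsgLib.LieCharP in
/-- The Suzuki groups. -/
theorem alwaysSmall_isoSuzuki {G : Type*} [Group G] [Finite G] [IsSimpleGroup G]
    (h : Cfsg.Lie.IsoSuzuki G) : AlwaysSmall 2 G := by
  haveI : Fact (Nat.Prime 2) := ⟨Nat.prime_two⟩
  open CfsgLib.Suzuki in
  obtain ⟨F, _, _, m, hm, hF, ⟨e⟩⟩ := h
  open CfsgLib.Suzuki in
  have hS : SzField F m := ⟨hm, hF⟩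
  open CfsgLib.Suzuki in exact (by
    have := hS.charP
    let e' : Cfsg.Sz F m ≃* G := (lieSzEquiv hS).trans e.symm
    set w : Cfsg.Sz F m := (⟨weyl, weyl_mem hS⟩)⁻¹ with hw
    have hwinf : w • Cfsg.suzukiPointInfinity F = Cfsg.suzukiPointZero F := by
      rw [hw, inv_smul_eq_iff]
      exact (weyl_smul_zero).symm
    refine alwaysSmall_of_split e'.toMonoidHom e'.surjective
      (B := MulAction.stabilizer (Cfsg.Sz F m) (Cfsg.suzukiPointInfinity F)) (U := uniSub hS)
      (w := w) (fun g hg => ?_) (isPGroup_uniSub hS) ?_ (fun g hg => ?_)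
      (not_dvd_sub_one (dvd_card_field F) Fintype.card_pos) fun g hg => ?_
    · obtain ⟨a, b, μ, hg'⟩ := point_stabilizer hS g.2 hg
      have hgs : g = uniEl hS a b * torSz hS μ := Subtype.ext hg'
      rw [hgs]
      refine mul_mem (Subgroup.le_normalizer (uniEl_mem hS a b))
        (Subgroup.mem_normalizer_fintype fun v hv => ?_)
      obtain ⟨c, d, rfl⟩ := hv
      refine ⟨μ * c, μ * θ m (μ : F) * d, ?_⟩
      rw [mul_inv_eq_iff_eq_mul]
      exact Subtype.ext (tor_conj_uni hS μ c d)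
    · rw [Ne, Subgroup.map_eq_bot_iff_of_injective _ e'.injective, Subgroup.eq_bot_iff_forall]
      intro hall
      have h1 := (uniEl_zero hS).symm ▸ hall _ (uniEl_mem hS (1 : F) 0)
      exact one_ne_zero ((uniEl_eq_iff hS).1 h1).1
    · have hmem : g • Cfsg.suzukiPointInfinity F ∈ Cfsg.suzukiOvoid F m :=
        (MulAction.mem_stabilizer_set.1 g.2 _).2 infinity_mem
      rcases mem_suzukiOvoid_iff.1 hmem with h | ⟨a, b, h⟩
      · exact absurd h hg
      refine ⟨uniEl hS a b, uniEl_mem hS a b, ?_⟩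
      rw [MulAction.mem_stabilizer_iff, mul_smul, inv_smul_eq_iff, mul_smul, hwinf, h]
      exact (uni_smul_zero hS a b).symm
    · obtain ⟨a, b, μ, hg'⟩ := point_stabilizer hS g.2 hg
      have hgs : g = uniEl hS a b * torSz hS μ := Subtype.ext hg'
      rw [hgs]
      refine mul_pow_mem (uniEl_mem hS a b) (Subgroup.mem_normalizer_fintype fun v hv => ?_) ?_
      · obtain ⟨c, d, rfl⟩ := hv
        refine ⟨μ * c, μ * θ m (μ : F) * d, ?_⟩
        rw [mul_inv_eq_iff_eq_mul]
        exact Subtype.ext (tor_conj_uni hS μ c d)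
      · classical
        rw [← map_pow, ← Fintype.card_units, pow_card_eq_one, map_one])

open Cfsg.Lie CfsgLib.ReeG2 CfsgLib.ReeG2Tori in
/-- The small Ree groups. -/
theorem alwaysSmall_isoRee {G : Type*} [Group G] [Finite G] [IsSimpleGroup G]
    (h : Cfsg.Lie.IsoRee G) : AlwaysSmall 3 G := by
  haveI : Fact (Nat.Prime 3) := ⟨Nat.prime_three⟩
  obtain ⟨K, _, _, m, hm, hK₀, ⟨e⟩⟩ := h
  have hK : Nat.card K = 3 ^ (2 * m + 1) := by rw [Nat.card_eq_fintype_card]; exact hK₀
  haveI : CharP K 3 := CfsgLib.ReeG2.charP_of_card hK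
  let f : ↥(Tw K m) →* G := e.symm.toMonoidHom
  have hfi : Function.Injective f := e.symm.injective
  have hn : (n0 m : ↥(Tw K m))⁻¹ = n0 m := inv_eq_of_mul_eq_one_right (n0_mul_self hK)
  refine alwaysSmall_of_split f e.symm.surjective (B := Bor K m) (U := Usub K m) (w := n0 m)
    (fun b hb => Subgroup.mem_normalizer_fintype fun v hv => conj_mem_Usub hK hb hv)
    (IsPGroup.of_card (n := (2 * m + 1) * 3) (by rw [natCard_Usub hK, ← pow_mul])) ?_
    (fun g hg => ?_) (not_dvd_sub_one (dvd_card_field K) Fintype.card_pos) fun g hg => ?_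
  · rw [Ne, Subgroup.map_eq_bot_iff_of_injective _ hfi, Subgroup.eq_bot_iff_forall]
    intro hall
    exact one_ne_zero (congrArg Prod.fst
      (wU_eq_one_iff.1 (hall _ (wU_mem (m := m) ((1, 0, 0) : K × K × K)))))
  · rcases cases_Bor hK g with h | ⟨-, p, B, p', e'⟩
    · exact absurd h hg
    refine ⟨wU m p, wU_mem p, ?_⟩
    have h1 : hT hK B * n0 m = n0 m * (hT hK B)⁻¹ := by
      rw [← n0_conj_hT hK B]
      calc hT hK B * n0 m = (n0 m * n0 m) * hT hK B * (n0 m)⁻¹ := by
            rw [n0_mul_self hK, one_mul, hn]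
        _ = n0 m * (n0 m * hT hK B * (n0 m)⁻¹) := by group
    have h2 : (wU m p * n0 m)⁻¹ * g = (hT hK B)⁻¹ * wU m p' := by
      rw [inv_mul_eq_iff_eq_mul, e', mul_assoc (wU m p), h1]
      group
    rw [h2]
    exact mul_mem (inv_mem (hT_mem hK B)) (Usub_le (wU_mem p'))
  · obtain ⟨p, B, rfl⟩ := (mem_Bor_iff hK).1 hg
    refine mul_pow_mem (wU_mem p)
      (Subgroup.mem_normalizer_fintype fun v hv => conj_mem_Usub hK (hT_mem hK B) hv) ?_
    classical
    rw [← map_pow, ← Fintype.card_units, pow_card_eq_one, map_one]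

end CfsgLib.PMinSocle
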