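import Cfsg.Agent.PMinSocle.Basic

/-!
# Rank one: between a Sylow subgroup and the group there is only its normaliser

`G = B ∪ U w B` with `U` normal in `B` of index prime to `p`: a subgroup above the image of `U`
which leaves the image of `B` contains every conjugate of it.
-/

set_option autoImplicit false

namespace CfsgLib.PMinSocle

open Subgroup

variable {p : ℕ} [Fact p.Prime] {H L : Type*} [Group H] [Group L]

/-- A subgroup above the image of `U` lies in the image of `B` or is everything. -/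
theorem le_map_of_split [IsSimpleGroup L] (f : H →* L) (hf : Function.Surjective f) {B U : Subgroup H}
    {w : H} (hBU : B ≤ normalizer (U : Set H)) (hU : U.map f ≠ ⊥)
    (hbru : ∀ g, g ∉ B → ∃ u ∈ U, (u * w)⁻¹ * g ∈ B) {A : Subgroup L} (hUA : U.map f ≤ A)
    (hA : A ≠ ⊤) : A ≤ B.map f := by
  intro a ha
  by_contra haB
  obtain ⟨g, rfl⟩ := hf a
  have hconj : ∀ g, g ∉ B → ∃ u ∈ U, ∀ x ∈ U, ∃ y ∈ U, g * x * g⁻¹ = u * (w * y * w⁻¹) * u⁻¹ ∧
      ∀ y' ∈ U, ∃ x' ∈ U, u * (w * y' * w⁻¹) * u⁻¹ = g * x' * g⁻¹ := by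
    intro g hg
    obtain ⟨u, hu, hb⟩ := hbru g hg
    set b := (u * w)⁻¹ * g with hbdef
    have hgb : g = u * w * b := by simp [hbdef, mul_assoc]
    refine ⟨u, hu, fun x hx => ⟨b * x * b⁻¹, (Subgroup.mem_normalizer_iff.1 (hBU hb) x).1 hx,
      by rw [hgb]; group, fun y hy => ⟨b⁻¹ * y * b, ?_, by rw [hgb]; group⟩⟩⟩
    have := (Subgroup.mem_normalizer_iff.1 (hBU (inv_mem hb)) y).1 hy
    simpa using this
  have hw : ∀ y ∈ U, f (w * y * w⁻¹) ∈ A := by
    intro y hy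
    obtain ⟨u, hu, h⟩ := hconj g fun hg => haB ⟨g, hg, rfl⟩
    obtain ⟨-, -, -, h'⟩ := h 1 (one_mem U)
    obtain ⟨x, hx, e⟩ := h' y hy
    have h1 : f (u * (w * y * w⁻¹) * u⁻¹) ∈ A := by
      rw [e, map_mul, map_mul, map_inv]
      exact mul_mem (mul_mem ha (hUA ⟨x, hx, rfl⟩)) (inv_mem ha)
    have hu' : f u ∈ A := hUA ⟨u, hu, rfl⟩
    have h2 := mul_mem (mul_mem (inv_mem hu') h1) hu'
    simpa [mul_assoc] using h2
  have hall : Subgroup.normalClosure ((U.map f : Subgroup L) : Set L) ≤ A := by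
    refine (Subgroup.closure_le A).2 fun z hz => ?_
    obtain ⟨_, ⟨x, hx, rfl⟩, hc⟩ := Group.mem_conjugatesOfSet_iff.1 hz
    obtain ⟨l, rfl⟩ := isConj_iff.1 hc
    obtain ⟨k, rfl⟩ := hf l
    rw [SetLike.mem_coe, ← map_inv, ← map_mul, ← map_mul]
    by_cases hk : k ∈ B
    · exact hUA ⟨_, (Subgroup.mem_normalizer_iff.1 (hBU hk) x).1 hx, rfl⟩
    obtain ⟨u, hu, h⟩ := hconj k hk
    obtain ⟨y, hy, e, -⟩ := h x hx
    rw [e, map_mul, map_mul, map_inv]
    exact mul_mem (mul_mem (hUA ⟨u, hu, rfl⟩) (hw y hy)) (inv_mem (hUA ⟨u, hu, rfl⟩))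
  rcases (Subgroup.normalClosure_normal (s := ((U.map f : Subgroup L) : Set L))).eq_bot_or_eq_top
    with h0 | h0
  · exact hU (eq_bot_iff.2 fun x hx => h0.le (Subgroup.subset_normalClosure hx))
  · exact hA (eq_top_iff.2 (h0 ▸ hall))

/-- The rank one criterion. -/
theorem alwaysSmall_of_split [IsSimpleGroup L] [Finite L] (f : H →* L)
    (hf : Function.Surjective f) {B U : Subgroup H} {w : H} (hBU : B ≤ normalizer (U : Set H))
    (hUp : IsPGroup p U) (hU : U.map f ≠ ⊥) (hbru : ∀ g, g ∉ B → ∃ u ∈ U, (u * w)⁻¹ * g ∈ B)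
    {n : ℕ} (hn : ¬ p ∣ n) (hpow : ∀ b ∈ B, b ^ n ∈ U) : AlwaysSmall p L := by
  obtain ⟨V, hV⟩ := (hUp.map f).exists_le_sylow
  have key : ∀ A : Subgroup L, U.map f ≤ A → A ≠ ⊤ → A ≤ normalizer ((U.map f : Subgroup L) : Set L) :=
    fun A hUA hA => (le_map_of_split f hf hBU hU hbru hUA hA).trans
      ((Subgroup.map_mono hBU).trans (Subgroup.le_normalizer_map f))
  by_cases hVtop : (V : Subgroup L) = ⊤
  · intro W A hWA hA
    refine absurd (top_le_iff.1 ?_) hA
    obtain ⟨g, hg⟩ := MulAction.exists_smul_eq L V W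
    rw [← hg, Sylow.coe_subgroup_smul, hVtop] at hWA
    exact fun x _ => hWA ⟨g⁻¹ * x * g, Subgroup.mem_top _, by simp [mul_assoc]⟩
  have hVU : (V : Subgroup L) = U.map f := by
    refine le_antisymm (fun v hv => ?_) hV
    obtain ⟨b, hb, rfl⟩ := le_map_of_split f hf hBU hU hbru hV hVtop hv
    obtain ⟨k, hk⟩ := V.2 ⟨f b, hv⟩
    have hk' : f b ^ p ^ k = 1 := congrArg Subtype.val hk
    have hcop : Nat.Coprime (orderOf (f b)) n :=
      (((Fact.out : p.Prime).coprime_iff_not_dvd.2 hn).pow_left k).coprime_dvd_left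
        (orderOf_dvd_of_pow_eq_one hk')
    have h1 : f b ^ n ∈ U.map f := ⟨b ^ n, hpow b hb, map_pow f b n⟩
    obtain ⟨m, hm⟩ := exists_pow_eq_self_of_coprime hcop.symm
    rw [← hm]
    exact pow_mem h1 m
  intro W A hWA hA
  obtain ⟨g, hg⟩ := MulAction.exists_smul_eq L W V
  set e : L ≃* L := MulAut.conj g
  have he : (W : Subgroup L).map e.toMonoidHom = U.map f := by
    rw [← hVU, ← hg, Sylow.coe_subgroup_smul]
    rfl
  have hA' : A.map e.toMonoidHom ≠ ⊤ := fun h => hA (Subgroup.map_injective e.injective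
    (h.trans (Subgroup.map_top_of_surjective _ e.surjective).symm))
  have hle := key _ (he ▸ Subgroup.map_mono hWA) hA'
  intro a ha
  have h := hle ⟨a, ha, rfl⟩
  rw [← he, ← Subgroup.map_equiv_normalizer_eq] at h
  obtain ⟨z, hz, ez⟩ := h
  rwa [← e.injective ez]

end CfsgLib.PMinSocle
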